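import Cfsg.Agent.H402.CsSplit

/-!
# Groups with the class sizes of `PSL(2, F)`: the direct decomposition
-/

set_option autoImplicit false
set_option linter.unusedSectionVars false

namespace Cfsg.Agent.H402

open Subgroup PSL2Cls
open scoped commutatorElement

section general

variable {G : Type*} [Group G]

/-- The preimage of the centraliser of the image of `u` in `G / Z(G)`. -/
def NN (u : G) : Subgroup G :=
  (Subgroup.centralizer ({(QuotientGroup.mk u : G ⧸ center G)} : Set (G ⧸ center G))).comap
    (QuotientGroup.mk' (center G))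

theorem index_NN (u : G) : (NN u).index = ix (QuotientGroup.mk u : G ⧸ center G) :=
  Subgroup.index_comap_of_surjective _ (QuotientGroup.mk'_surjective _)

theorem mem_NN {g u : G} : g ∈ NN u ↔
    Commute (QuotientGroup.mk g : G ⧸ center G) (QuotientGroup.mk u) := by
  rw [NN, mem_comap, mem_C]
  rfl

theorem C_le_NN (u : G) : Subgroup.centralizer ({u} : Set G) ≤ NN u := by
  intro g hg
  rw [mem_NN]
  show (QuotientGroup.mk (g * u) : G ⧸ center G) = QuotientGroup.mk (u * g)
  rw [mem_C.1 hg]

theorem ix_mk_dvd (u : G) : ix (QuotientGroup.mk u : G ⧸ center G) ∣ ix u := by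
  rw [← index_NN]
  exact Subgroup.index_dvd_of_le (C_le_NN u)

theorem ix_mulEquiv {H : Type*} [Group H] (e : G ≃* H) (x : G) : ix (e x) = ix x := by
  have h1 : Subgroup.centralizer ({x} : Set G) =
      (Subgroup.centralizer ({e x} : Set H)).comap e.toMonoidHom := by
    ext g
    rw [mem_comap, mem_C, mem_C]
    show _ ↔ e g * e x = e x * e g
    rw [← map_mul, ← map_mul]
    exact e.injective.eq_iff.symm
  rw [ix, ix, h1]
  exact (Subgroup.index_comap_of_surjective _ e.surjective).symm

end general

variable {F : Type*} [Field F] [Fintype F] {G : Type*} [Group G] [Finite G]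

theorem commute_of_commute_mk {d a b r : ℕ} (D : Data F d a b r)
    (h : Set.range (fun g : G => ix g) = Set.range (fun g : PSL F => ix g))
    (e : (G ⧸ center G) ≃* PSL F) {g u : G}
    (hc : Commute (QuotientGroup.mk g : G ⧸ center G) (QuotientGroup.mk u)) : Commute g u := by
  have H := hyp_of_data D h
  have hq1 := D.ar.q_gt
  have hb := D.ar.hb
  by_cases hu : u ∈ center G
  · exact mem_center_iff.1 hu g
  have hsz : ∀ v : G, v ∉ center G → IsSz (Fintype.card F) d a b
      (ix (QuotientGroup.mk v : G ⧸ center G)) := by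
    intro v hv
    rw [← ix_mulEquiv e]
    apply D.sz
    intro h1
    rw [MulEquiv.map_eq_one_iff] at h1
    exact hv ((QuotientGroup.eq_one_iff v).1 h1)
  have hszG : ∀ v : G, v ∉ center G → IsSz (Fintype.card F) d a b (ix v) := fun v hv => H.sz v hv
  have hkey : ix u = ix (QuotientGroup.mk u : G ⧸ center G) := by
    rcases (D.ar.dvd_cases (hsz u hu) (hszG u hu) (ix_mk_dvd u)).2 with h1 | ⟨-, h2, h3, h4⟩
    · exact h1
    · exfalso
      obtain ⟨y, hy⟩ := H.exists_ix (n := Fintype.card F * b) (Or.inr (Or.inr rfl))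
      have hyc : y ∉ center G := H.not_center (Or.inr (Or.inr rfl)) hy
      have hne : Fintype.card F * b ≠ Fintype.card F * d * b := by
        rw [h4]
        have h5 : Fintype.card F * 2 * b = 2 * (Fintype.card F * b) := by ring
        have h6 : 0 < Fintype.card F * b := Nat.mul_pos (by omega) (by omega)
        omega
      have hyq : ix (QuotientGroup.mk y : G ⧸ center G) = Fintype.card F * b := by
        rcases (D.ar.dvd_cases (hsz y hyc) (hszG y hyc) (ix_mk_dvd y)).2 with h1 | ⟨-, -, h5, -⟩
        · rw [← h1, hy]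
        · exact absurd (hy.symm.trans h5) hne
      have hconj := D.uniq h4 (e (QuotientGroup.mk y)) (e (QuotientGroup.mk u))
        (by rw [ix_mulEquiv, hyq]) (by rw [ix_mulEquiv, h2])
      obtain ⟨c, hc'⟩ := isConj_iff.1 hconj
      obtain ⟨c', rfl⟩ := e.surjective c
      obtain ⟨k, rfl⟩ := QuotientGroup.mk_surjective c'
      rw [← map_inv, ← map_mul, ← map_mul] at hc'
      have h6 : (QuotientGroup.mk (k * y * k⁻¹) : G ⧸ center G) = QuotientGroup.mk u :=
        e.injective hc'
      rw [QuotientGroup.eq] at h6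
      have h7 : ix u = ix y := by
        have h8 := ix_mul_center (x := k * y * k⁻¹) h6
        rw [mul_inv_cancel_left] at h8
        rw [h8, ix_conj]
      rw [hy, h3] at h7
      exact hne h7.symm
  have h1 : Subgroup.centralizer ({u} : Set G) = NN u := by
    apply le_antisymm (C_le_NN u)
    rw [← Subgroup.relIndex_eq_one]
    have h3 := Subgroup.relIndex_mul_index (C_le_NN u)
    rw [index_NN] at h3
    have h4 : (Subgroup.centralizer ({u} : Set G)).index =
      ix (QuotientGroup.mk u : G ⧸ center G) := hkey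
    rw [h4] at h3
    have h5 : ix (QuotientGroup.mk u : G ⧸ center G) ≠ 0 := ix_ne_zero _
    exact Nat.eq_of_mul_eq_mul_right (Nat.pos_of_ne_zero h5) (h3.trans (one_mul _).symm)
  have h2 : g ∈ NN u := mem_NN.2 hc
  rw [← h1, mem_C] at h2
  exact h2

omit [Finite G] in
theorem commutator_eq_one_of_mem_center
    (hcomm : ∀ g u : G, Commute (QuotientGroup.mk g : G ⧸ center G) (QuotientGroup.mk u) →
      Commute g u) {x y : G} (hz : ⁅x, y⁆ ∈ center G) : ⁅x, y⁆ = 1 := by
  rw [commutatorElement_eq_one_iff_mul_comm]
  apply hcomm x y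
  rw [← commutatorElement_eq_one_iff_commute]
  exact (QuotientGroup.eq_one_iff _).2 hz

theorem sylow_inf (e : (G ⧸ center G) ≃* PSL F)
    (hcomm : ∀ g u : G, Commute (QuotientGroup.mk g : G ⧸ center G) (QuotientGroup.mk u) →
      Commute g u) {p : ℕ} [hp : Fact p.Prime] (P : Sylow p G)
    (z : (P : Subgroup G)) (hz : z ∈ commutator (P : Subgroup G)) (hzc : (z : G) ∈ center G) :
    z = 1 := by
  set φ : (P : Subgroup G) →* PSL F :=
    (e.toMonoidHom.comp (QuotientGroup.mk' (center G))).comp (P : Subgroup G).subtype with hφ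
  have hφa : ∀ x : (P : Subgroup G), φ x = e (QuotientGroup.mk (x : G)) := fun x => rfl
  have hφc : ∀ x y : (P : Subgroup G), φ x * φ y = φ y * φ x → x * y = y * x := by
    intro x y hxy
    rw [hφa, hφa, ← map_mul, ← map_mul] at hxy
    apply Subtype.ext
    exact hcomm _ _ (e.injective hxy)
  have hZ : ∀ x y : (P : Subgroup G), ⁅x, y⁆ ∈ {z : (P : Subgroup G) | (z : G) ∈ center G} →
      ⁅x, y⁆ = 1 := by
    intro x y hxy
    apply Subtype.ext
    exact commutator_eq_one_of_mem_center hcomm (x := (x : G)) (y := (y : G)) hxy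
  by_cases hbot : φ.range = ⊥
  · refine commutator_inf_eq_bot (⊤ : Subgroup (P : Subgroup G)) ?_ ?_
      {z : (P : Subgroup G) | (z : G) ∈ center G} hZ z hz hzc
    · intro x _ y _
      apply hφc
      have h1 : ∀ x, φ x = 1 := by
        intro x
        have : φ x ∈ φ.range := ⟨x, rfl⟩
        rwa [hbot, mem_bot] at this
      rw [h1 x, h1 y]
    · intro x y _ _
      exact mem_top _
  · have hnt : Nontrivial φ.range := (Subgroup.nontrivial_iff_ne_bot _).2 hbot
    have hpg : IsPGroup p φ.range := by
      have := P.2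
      exact IsPGroup.of_surjective this φ.rangeRestrict φ.rangeRestrict_surjective
    have hfin : Finite φ.range := Finite.of_surjective _ φ.rangeRestrict_surjective
    have hcn := hpg.center_nontrivial
    obtain ⟨⟨x, hx⟩, hx1⟩ := exists_ne (1 : center φ.range)
    have hx1' : (x : PSL F) ≠ 1 := by
      intro h1
      apply hx1
      apply Subtype.ext
      apply Subtype.ext
      exact h1
    obtain ⟨A, hA1, hA2⟩ := exists_abelian_psl hx1'
    have hcx : ∀ u : (P : Subgroup G), φ u * x = x * φ u := by
      intro u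
      have := mem_center_iff.1 hx ⟨φ u, ⟨u, rfl⟩⟩
      exact congrArg Subtype.val this
    refine commutator_inf_eq_bot (A.comap φ) ?_ ?_
      {z : (P : Subgroup G) | (z : G) ∈ center G} hZ z hz hzc
    · intro u hu v hv
      exact hφc _ _ (hA1 _ hu _ hv)
    · intro u v hu hv
      rw [mem_comap, map_mul]
      exact hA2 _ _ (hcx u) (hcx v) hu hv

theorem commutator_inf_center (e : (G ⧸ center G) ≃* PSL F)
    (hcomm : ∀ g u : G, Commute (QuotientGroup.mk g : G ⧸ center G) (QuotientGroup.mk u) →
      Commute g u) : commutator G ⊓ center G = ⊥ := by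
  rw [eq_bot_iff]
  rintro z ⟨hz1, hz2⟩
  rw [mem_bot]
  by_contra hz
  have ho : orderOf z ≠ 1 := fun h => hz (orderOf_eq_one_iff.1 h)
  obtain ⟨p, hp, hpz⟩ := Nat.exists_prime_and_dvd ho
  have : Fact p.Prime := ⟨hp⟩
  have ho0 : 0 < orderOf z := orderOf_pos z
  have how : orderOf (z ^ (orderOf z / p)) = p := orderOf_pow_orderOf_div ho0.ne' hpz
  set w := z ^ (orderOf z / p) with hw
  have hw1 : w ∈ commutator G := pow_mem hz1 _
  have hw2 : w ∈ center G := pow_mem hz2 _
  have hpw : IsPGroup p (zpowers w) := by
    apply IsPGroup.of_card (n := 1)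
    rw [Nat.card_zpowers, how, pow_one]
  obtain ⟨P, hP⟩ := hpw.exists_le_sylow
  have hwP : w ∈ (P : Subgroup G) := hP (mem_zpowers w)
  have h1 := mem_commutator_sylow P hwP hw2 hw1
  have h2 := sylow_inf e hcomm P _ h1 hw2
  have h3 : w = 1 := congrArg Subtype.val h2
  rw [h3, orderOf_one] at how
  exact hp.one_lt.ne how

theorem commutator_psl_eq_top (hq : 3 < Fintype.card F) : commutator (PSL F) = ⊤ := by
  have h1 := Cfsg.Agent.TwoFusion.SLTwoFacts.commutator_eq_top hq
  have h2 : (commutator (Matrix.SpecialLinearGroup (Fin 2) F)).map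
      (QuotientGroup.mk' (center (Matrix.SpecialLinearGroup (Fin 2) F))) = commutator (PSL F) := by
    rw [commutator_def, commutator_def, Subgroup.map_commutator]
    have : (⊤ : Subgroup (Matrix.SpecialLinearGroup (Fin 2) F)).map
      (QuotientGroup.mk' (center (Matrix.SpecialLinearGroup (Fin 2) F))) = ⊤ :=
      Subgroup.map_top_of_surjective _ (QuotientGroup.mk'_surjective _)
    rw [this]
  rw [← h2, h1]
  exact Subgroup.map_top_of_surjective _ (QuotientGroup.mk'_surjective _)

theorem exists_decomposition (hq : (2 ∣ Fintype.card F ∧ 2 < Fintype.card F) ∨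
    (¬ 2 ∣ Fintype.card F ∧ 7 ≤ Fintype.card F))
    (h : Set.range (fun g : G => ix g) = Set.range (fun g : PSL F => ix g)) :
    ∃ N A : Subgroup G, N.Normal ∧ A ≤ Subgroup.center G ∧ N ⊓ A = ⊥ ∧ N ⊔ A = ⊤ ∧
      Nonempty (N ≃* Matrix.ProjectiveSpecialLinearGroup (Fin 2) F) := by
  obtain ⟨e⟩ := quot_iso_psl hq h
  obtain ⟨d, a, b, r, D⟩ := exists_data hq
  have hcomm : ∀ g u : G, Commute (QuotientGroup.mk g : G ⧸ center G) (QuotientGroup.mk u) →
      Commute g u := fun g u hgu => commute_of_commute_mk D h e hgu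
  have hinf := commutator_inf_center e hcomm
  have hq3 : 3 < Fintype.card F := by
    rcases hq with ⟨⟨k, hk⟩, h2⟩ | ⟨h1, h2⟩ <;> omega
  have hpsl := commutator_psl_eq_top hq3
  have hmap : (commutator G).map (QuotientGroup.mk' (center G)) = ⊤ := by
    have h1 : (commutator G).map (QuotientGroup.mk' (center G)) = commutator (G ⧸ center G) := by
      rw [commutator_def, commutator_def, Subgroup.map_commutator]
      have : (⊤ : Subgroup G).map (QuotientGroup.mk' (center G)) = ⊤ :=
        Subgroup.map_top_of_surjective _ (QuotientGroup.mk'_surjective _)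
      rw [this]
    rw [h1]
    have h2 : (commutator (PSL F)).map e.symm.toMonoidHom = commutator (G ⧸ center G) := by
      rw [commutator_def, commutator_def, Subgroup.map_commutator]
      have : (⊤ : Subgroup (PSL F)).map e.symm.toMonoidHom = ⊤ :=
        Subgroup.map_top_of_surjective _ e.symm.surjective
      rw [this]
    rw [← h2, hpsl]
    exact Subgroup.map_top_of_surjective _ e.symm.surjective
  refine ⟨commutator G, center G, inferInstance, le_rfl, hinf, ?_, ?_⟩
  · have h1 := Subgroup.comap_map_eq (QuotientGroup.mk' (center G)) (commutator G)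
    rw [hmap, Subgroup.comap_top, QuotientGroup.ker_mk'] at h1
    exact h1.symm
  · set φ : commutator G →* G ⧸ center G :=
      (QuotientGroup.mk' (center G)).comp (commutator G).subtype with hφ
    have hbij : Function.Bijective φ := by
      constructor
      · rw [injective_iff_map_eq_one]
        intro x hx
        have h1 : (x : G) ∈ center G := (QuotientGroup.eq_one_iff _).1 hx
        have h2 : (x : G) ∈ commutator G ⊓ center G := ⟨x.2, h1⟩
        rw [hinf, mem_bot] at h2
        exact Subtype.ext h2
      · intro y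
        have : y ∈ (commutator G).map (QuotientGroup.mk' (center G)) := by
          rw [hmap]; exact mem_top _
        obtain ⟨x, hx, rfl⟩ := this
        exact ⟨⟨x, hx⟩, rfl⟩
    exact ⟨(MulEquiv.ofBijective φ hbij).trans e⟩

end Cfsg.Agent.H402
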