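import Cfsg.Agent.H402.AltAH
import Cfsg.Agent.S1129
import Cfsg.Agent.OddOrderLocal.CNNil

/-!
# The exceptional case `U₄(3)`, `A₇` of S3585: elements of order 24
-/

set_option autoImplicit false

namespace Cfsg.Agent.H402.AltG

open Subgroup Cfsg.Agent.H402.Alt Equiv

theorem ring_key {R : Type*} [Ring R] {a b : R} (hb : b ^ 5 = 1) (hab : a * b = b ^ 2 * a)
    (hM : 1 + b + b ^ 2 + b ^ 3 + b ^ 4 = 0) (hN : 1 + a + a ^ 2 + a ^ 3 = 0) : (5 : R) = 0 := by
  have h1 : ∀ i : ℕ, a * b ^ i = b ^ (2 * i) * a := by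
    intro i
    induction i with
    | zero => simp
    | succ i ih => rw [pow_succ, ← mul_assoc, ih, mul_assoc, hab, ← mul_assoc, ← pow_add]; rfl
  have h2 : ∀ i : ℕ, a ^ 2 * b ^ i = b ^ (4 * i) * a ^ 2 := by
    intro i
    rw [pow_two, mul_assoc, h1, ← mul_assoc, h1, mul_assoc]
    congr 2
    ring
  have h3 : ∀ i : ℕ, a ^ 3 * b ^ i = b ^ (8 * i) * a ^ 3 := by
    intro i
    rw [pow_succ, mul_assoc, h1, ← mul_assoc, h2, mul_assoc]
    congr 2
    ring
  have hr : ∀ i j : ℕ, b ^ (5 * i + j) = b ^ j := by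
    intro i j
    rw [pow_add, pow_mul, hb, one_pow, one_mul]
  have key : ∀ i : ℕ, b ^ (4 * i) * (1 + a + a ^ 2 + a ^ 3) * b ^ i =
      1 + b ^ i * a + b ^ (3 * i) * a ^ 2 + b ^ (2 * i) * a ^ 3 := by
    intro i
    simp only [mul_add, add_mul, mul_one, mul_assoc, h1, h2, h3]
    simp only [← mul_assoc, ← pow_add]
    have e1 : b ^ (4 * i + i) = 1 := by
      rw [show 4 * i + i = 5 * i + 0 by ring, hr, pow_zero]
    have e2 : b ^ (4 * i + 2 * i) = b ^ i := by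
      rw [show 4 * i + 2 * i = 5 * i + i by ring, hr]
    have e3 : b ^ (4 * i + 4 * i) = b ^ (3 * i) := by
      rw [show 4 * i + 4 * i = 5 * i + 3 * i by ring, hr]
    have e4 : b ^ (4 * i + 8 * i) = b ^ (2 * i) := by
      rw [show 4 * i + 8 * i = 5 * (2 * i) + 2 * i by ring, hr]
    rw [e1, e2, e3, e4]
  have h6 : b ^ 6 = b := by rw [show 6 = 5 * 1 + 1 by norm_num, hr, pow_one]
  have h8 : b ^ 8 = b ^ 3 := by rw [show 8 = 5 * 1 + 3 by norm_num, hr]
  have h9 : b ^ 9 = b ^ 4 := by rw [show 9 = 5 * 1 + 4 by norm_num, hr]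
  have h12 : b ^ 12 = b ^ 2 := by rw [show 12 = 5 * 2 + 2 by norm_num, hr]
  have k0 := key 0
  have k1 := key 1
  have k2 := key 2
  have k3 := key 3
  have k4 := key 4
  rw [hN, mul_zero, zero_mul] at k0 k1 k2 k3 k4
  norm_num at k0 k1 k2 k3 k4
  rw [h6] at k2
  rw [h6, h9] at k3
  rw [h8, h12] at k4
  have e : (5 : R) = 0 + 0 + 0 + 0 + 0 - (1 + b + b ^ 2 + b ^ 3 + b ^ 4) * a -
      (1 + b + b ^ 2 + b ^ 3 + b ^ 4) * a ^ 2 - (1 + b + b ^ 2 + b ^ 3 + b ^ 4) * a ^ 3 := by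
    nth_rewrite 1 [k0]
    nth_rewrite 1 [k1]
    nth_rewrite 1 [k2]
    nth_rewrite 1 [k3]
    nth_rewrite 1 [k4]
    noncomm_ring
    simp
  rw [e, hM]
  noncomm_ring

theorem norm_ne' {V : Type*} [CommGroup V] (α β : V →* V) (hb : ∀ v, β (β (β (β (β v)))) = v)
    (hab : ∀ v, α (β v) = β (β (α v))) (hfix : ∀ v, β v = v → v = 1) (h5 : ∀ v : V, v ^ 5 = 1 → v = 1)
    (hnt : ∃ v : V, v ≠ 1) : ∃ v, v * α v * α (α v) * α (α (α v)) ≠ 1 := by
  by_contra hcon
  push Not at hcon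
  let a : AddMonoid.End (Additive V) := MonoidHom.toAdditive α
  let b : AddMonoid.End (Additive V) := MonoidHom.toAdditive β
  have hzero : ∀ v : Additive V, (0 : AddMonoid.End (Additive V)) v = 0 := fun _ => rfl
  have hb5 : b ^ 5 = 1 := by
    refine AddMonoidHom.ext fun v => ?_
    have : b ^ 5 = b * b * b * b * b := by simp only [pow_succ, pow_zero, one_mul]
    rw [this]
    exact congrArg Additive.ofMul (hb v.toMul)
  have hab' : a * b = b ^ 2 * a := by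
    refine AddMonoidHom.ext fun v => ?_
    rw [pow_two]
    exact congrArg Additive.ofMul (hab v.toMul)
  have hM : 1 + b + b ^ 2 + b ^ 3 + b ^ 4 = 0 := by
    refine AddMonoidHom.ext fun v => ?_
    have : 1 + b + b ^ 2 + b ^ 3 + b ^ 4 = 1 + b + b * b + b * b * b + b * b * b * b := by
      simp only [pow_succ, pow_zero, one_mul]
    rw [this]
    refine congrArg Additive.ofMul (hfix (v.toMul * β v.toMul * β (β v.toMul) * β (β (β v.toMul)) *
      β (β (β (β v.toMul)))) ?_)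
    simp only [map_mul]
    rw [hb]
    rw [mul_comm _ v.toMul]
    simp only [mul_assoc]
  have hN : 1 + a + a ^ 2 + a ^ 3 = 0 := by
    refine AddMonoidHom.ext fun v => ?_
    have : 1 + a + a ^ 2 + a ^ 3 = 1 + a + a * a + a * a * a := by
      simp only [pow_succ, pow_zero, one_mul]
    rw [this]
    exact congrArg Additive.ofMul (hcon v.toMul)
  have key := ring_key hb5 hab' hM hN
  obtain ⟨v, hv⟩ := hnt
  apply hv
  apply h5
  have h1 := congrArg (fun f : AddMonoid.End (Additive V) => f (Additive.ofMul v)) key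
  have h2 : (5 : AddMonoid.End (Additive V)) = ((5 : ℕ) : AddMonoid.End (Additive V)) := rfl
  simp only [h2, AddMonoid.End.natCast_apply, hzero] at h1
  exact congrArg Additive.toMul h1

theorem norm_ne {G : Type*} [Group G] {y c : G} (hy : y ^ 5 = 1) (hc : c ^ 4 = 1) (hcy : c * y * c⁻¹ = y ^ 2)
    (V : Subgroup G) [V.Normal] (hV : ∀ u ∈ V, ∀ v ∈ V, u * v = v * u) (h5 : ∀ v ∈ V, v ^ 5 = 1 → v = 1)
    (hfix : ∀ v ∈ V, y * v = v * y → v = 1) (hV1 : ∃ v ∈ V, v ≠ 1) : ∃ v ∈ V, (v * c) ^ 4 ≠ 1 := by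
  let i : CommGroup ↥V := { (inferInstance : Group ↥V) with
    mul_comm := fun a b => Subtype.ext (hV a a.2 b b.2) }
  let α : ↥V →* ↥V := (MulAut.conjNormal c : MulAut ↥V).toMonoidHom
  let β : ↥V →* ↥V := (MulAut.conjNormal y : MulAut ↥V).toMonoidHom
  have hα : ∀ v : ↥V, ((α v : ↥V) : G) = c * v * c⁻¹ := fun v => rfl
  have hβ : ∀ v : ↥V, ((β v : ↥V) : G) = y * v * y⁻¹ := fun v => rfl
  obtain ⟨v, hv⟩ := norm_ne' α β (by
      intro v
      apply Subtype.ext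
      rw [hβ, hβ, hβ, hβ, hβ]
      calc y * (y * (y * (y * (y * (v : G) * y⁻¹) * y⁻¹) * y⁻¹) * y⁻¹) * y⁻¹ = y ^ 5 * v * (y ^ 5)⁻¹ := by
            simp only [pow_succ, pow_zero, one_mul]
            group
        _ = v := by rw [hy]; group)
    (by
      intro v
      apply Subtype.ext
      rw [hα, hβ, hβ, hβ, hα]
      calc c * (y * (v : G) * y⁻¹) * c⁻¹ = (c * y * c⁻¹) * (c * v * c⁻¹) * (c * y * c⁻¹)⁻¹ := by group
        _ = y * (y * (c * v * c⁻¹) * y⁻¹) * y⁻¹ := by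
            rw [hcy]
            simp only [pow_succ, pow_zero, one_mul]
            group)
    (by
      intro v hv
      have h1 := congrArg Subtype.val hv
      rw [hβ] at h1
      exact Subtype.ext (hfix v v.2 (mul_inv_eq_iff_eq_mul.1 h1)))
    (by
      intro v hv
      exact Subtype.ext (h5 v v.2 (congrArg Subtype.val hv)))
    (by
      obtain ⟨v, hv, hv1⟩ := hV1
      exact ⟨⟨v, hv⟩, fun h => hv1 (congrArg Subtype.val h)⟩)
  refine ⟨v, v.2, ?_⟩
  intro h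
  apply hv
  apply Subtype.ext
  rw [Subgroup.coe_mul, Subgroup.coe_mul, Subgroup.coe_mul, hα, hα, hα, Subgroup.coe_one]
  calc (v : G) * (c * v * c⁻¹) * (c * (c * v * c⁻¹) * c⁻¹) * (c * (c * (c * v * c⁻¹) * c⁻¹) * c⁻¹) =
      (v * c) ^ 4 * (c ^ 4)⁻¹ := by simp only [pow_succ, pow_zero, one_mul]; group
    _ = 1 := by rw [h, hc]; group

/-- **Elements of order 24.** -/
theorem exists_24 {G : Type*} [Group G] [Finite G] {y c : G} (hy : y ^ 5 = 1) (hc : c ^ 4 = 1)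
    (hcy : c * y * c⁻¹ = y ^ 2) (K : Subgroup G) [hKn : K.Normal] (h5 : ¬ 5 ∣ Nat.card ↥K)
    (hK2 : 2 ∣ Nat.card ↥K) (hK3 : 3 ∣ Nat.card ↥K)
    (hfix : ∀ v ∈ K, y * v = v * y → v = 1) : ∃ x : G, orderOf x = 24 := by
  have hne : K ≠ ⊥ := by
    rintro rfl
    rw [Subgroup.card_bot] at hK2
    omega
  have hnil : Group.IsNilpotent ↥K := by
    refine Cfsg.Agent.S1129.nilpotent_of_conj K hne y 5 (by norm_num) hy (fun x hx => hKn.conj_mem x hx y) ?_ ?_
    · intro x hx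
      have := hKn.conj_mem x hx y⁻¹
      rwa [inv_inv] at this
    · rw [eq_bot_iff]
      intro x hx
      obtain ⟨hx1, hx2⟩ := Subgroup.mem_inf.1 hx
      rw [Subgroup.mem_centralizer_singleton_iff] at hx2
      rw [Subgroup.mem_bot]
      exact hfix x hx1 hx2.symm
  -- the central `p`-elements of `K`
  have key : ∀ p : ℕ, p.Prime → p ≠ 5 → p ∣ Nat.card ↥K → ∃ v ∈ K, (∀ k ∈ K, Commute k v) ∧ (v * c) ^ 4 ≠ 1 ∧
      (∃ j : ℕ, ((v * c) ^ 4) ^ p ^ j = 1) ∧ Commute ((v * c) ^ 4) c := by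
    intro p hp hp5 hpK
    let V : Subgroup G :=
      { carrier := {v | v ∈ K ∧ (∀ k ∈ K, Commute k v) ∧ ∃ j : ℕ, v ^ p ^ j = 1}
        one_mem' := ⟨one_mem K, fun k _ => Commute.one_right k, 0, by simp⟩
        mul_mem' := by
          rintro u v ⟨hu, hu', i, hi⟩ ⟨hv, hv', j, hj⟩
          refine ⟨mul_mem hu hv, fun k hk => (hu' k hk).mul_right (hv' k hk), i + j, ?_⟩
          rw [Commute.mul_pow (hv' u hu), pow_add, pow_mul, hi, one_pow, one_mul, mul_comm, pow_mul, hj, one_pow]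
        inv_mem' := by
          rintro u ⟨hu, hu', i, hi⟩
          refine ⟨inv_mem hu, fun k hk => (hu' k hk).inv_right, i, ?_⟩
          rw [inv_pow, hi, inv_one] }
    have hVn : V.Normal := by
      constructor
      rintro v ⟨hv, hv', j, hj⟩ g
      refine ⟨hKn.conj_mem v hv g, ?_, j, ?_⟩
      · intro k hk
        have h1 : Commute (g⁻¹ * k * g) v := hv' _ (by simpa using hKn.conj_mem k hk g⁻¹)
        have h2 : g⁻¹ * k * g * v = v * (g⁻¹ * k * g) := h1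
        show k * (g * v * g⁻¹) = g * v * g⁻¹ * k
        calc k * (g * v * g⁻¹) = g * (g⁻¹ * k * g * v) * g⁻¹ := by group
          _ = g * (v * (g⁻¹ * k * g)) * g⁻¹ := by rw [h2]
          _ = g * v * g⁻¹ * k := by group
      · rw [conj_pow, hj]; group
    obtain ⟨z, hz, hzo, hzc⟩ :=
      Cfsg.Agent.OddOrderLocal.CNNil.exists_central_orderOf_subgroup hnil hp hpK
    have hzV : z ∈ V := ⟨hz, hzc, 1, by rw [pow_one, ← hzo, pow_orderOf_eq_one]⟩
    have hVc : ∀ u ∈ V, ∀ v ∈ V, u * v = v * u := fun u hu v hv => hv.2.1 u hu.1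
    obtain ⟨v, hv, hv4⟩ := norm_ne hy hc hcy V hVc (by
        rintro v ⟨-, -, j, hj⟩ hv5
        have h1 : orderOf v ∣ 5 := orderOf_dvd_of_pow_eq_one hv5
        have h2 : orderOf v ∣ p ^ j := orderOf_dvd_of_pow_eq_one hj
        have h3 : Nat.Coprime 5 (p ^ j) := Nat.Coprime.pow_right j
          ((Nat.coprime_primes (by norm_num) hp).2 (Ne.symm hp5))
        have h4 := Nat.dvd_gcd h1 h2
        rw [h3] at h4
        exact orderOf_eq_one_iff.1 (Nat.dvd_one.1 h4))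
      (fun v hv h => hfix v hv.1 h)
      ⟨z, hzV, fun h => hp.one_lt.ne' (by rw [← hzo, h, orderOf_one])⟩
    have hmem : (v * c) ^ 4 ∈ V := by
      have h1 : (v * c) ^ 4 = v * (c * v * c⁻¹) * (c * (c * v * c⁻¹) * c⁻¹) *
          (c * (c * (c * v * c⁻¹) * c⁻¹) * c⁻¹) * c ^ 4 := by
        simp only [pow_succ, pow_zero, one_mul]; group
      rw [h1, hc, mul_one]
      have h2 := hVn.conj_mem v hv c
      have h3 := hVn.conj_mem _ h2 c
      have h4 := hVn.conj_mem _ h3 c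
      exact mul_mem (mul_mem (mul_mem hv h2) h3) h4
    refine ⟨v, hv.1, hv.2.1, hv4, hmem.2.2, ?_⟩
    have h1 : Commute ((v * c) ^ 4) (v * c) := Commute.pow_left (Commute.refl _) 4
    have h2 : Commute ((v * c) ^ 4) v := hVc _ hmem _ hv
    have h3 : v⁻¹ * (v * c) = c := by group
    have h4 := h2.inv_right.mul_right h1
    rwa [h3] at h4
  obtain ⟨v, hvK, hvc, hv4, ⟨j, hj⟩, -⟩ := key 2 Nat.prime_two (by norm_num) hK2
  obtain ⟨w, hwK, hwc, hw4, ⟨i, hi⟩, hwcom⟩ := key 3 Nat.prime_three (by norm_num) hK3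
  set a : G := (w * c) ^ 4 with ha
  have haK : a ∈ K := by
    have h1 : a = w * (c * w * c⁻¹) * (c * (c * w * c⁻¹) * c⁻¹) *
        (c * (c * (c * w * c⁻¹) * c⁻¹) * c⁻¹) * c ^ 4 := by
      rw [ha]; simp only [pow_succ, pow_zero, one_mul]; group
    rw [h1, hc, mul_one]
    have h2 := hKn.conj_mem w hwK c
    have h3 := hKn.conj_mem _ h2 c
    have h4 := hKn.conj_mem _ h3 c
    exact mul_mem (mul_mem (mul_mem hwK h2) h3) h4
  -- an element of order 3
  have h3 : ∃ k : ℕ, orderOf (a ^ k) = 3 := by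
    obtain ⟨l, -, hl⟩ := (Nat.dvd_prime_pow Nat.prime_three).1 (orderOf_dvd_of_pow_eq_one hi)
    have hl0 : l ≠ 0 := by
      rintro rfl
      rw [pow_zero, orderOf_eq_one_iff] at hl
      exact hw4 hl
    refine ⟨3 ^ (l - 1), ?_⟩
    rw [orderOf_pow_of_dvd (by positivity) (by rw [hl]; exact pow_dvd_pow 3 (by omega)), hl]
    obtain ⟨i, rfl⟩ : ∃ i, l = i + 1 := ⟨l - 1, by omega⟩
    rw [Nat.add_sub_cancel, pow_succ]
    exact Nat.mul_div_cancel_left 3 (by positivity)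
  obtain ⟨k, hk⟩ := h3
  -- an element of order 8
  have h8 : ∃ l : ℕ, orderOf ((v * c) ^ l) = 8 := by
    have h1 : (v * c) ^ 2 ^ (j + 2) = 1 := by
      rw [pow_add, mul_comm, pow_mul]
      exact hj
    obtain ⟨l, -, hl⟩ := (Nat.dvd_prime_pow Nat.prime_two).1 (orderOf_dvd_of_pow_eq_one h1)
    have hl3 : 3 ≤ l := by
      by_contra h2
      apply hv4
      rw [← orderOf_dvd_iff_pow_eq_one, hl]
      exact pow_dvd_pow 2 (by omega : l ≤ 2)
    refine ⟨2 ^ (l - 3), ?_⟩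
    rw [orderOf_pow_of_dvd (by positivity) (by rw [hl]; exact pow_dvd_pow 2 (by omega)), hl]
    obtain ⟨i, rfl⟩ : ∃ i, l = i + 3 := ⟨l - 3, by omega⟩
    rw [Nat.add_sub_cancel, pow_add]
    exact Nat.mul_div_cancel_left _ (by positivity)
  obtain ⟨l, hl⟩ := h8
  have hcomm : Commute ((v * c) ^ l) (a ^ k) := by
    apply Commute.pow_pow
    exact (hvc a haK).symm.mul_left hwcom.symm
  refine ⟨(v * c) ^ l * a ^ k, ?_⟩
  rw [hcomm.orderOf_mul_eq_mul_orderOf_of_coprime (by rw [hl, hk]; decide), hl, hk]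

/-- Lifting a Frobenius group of order 20. -/
theorem exists_yc {G : Type*} [Group G] [Finite G] (K : Subgroup G) [hKn : K.Normal] (h5 : ¬ 5 ∣ Nat.card ↥K)
    (h10 : ¬ ∃ x : G, orderOf x = 5 * 2) {Y C : G ⧸ K} (hY : orderOf Y = 5) (hC : C * Y * C⁻¹ = Y ^ 2) :
    ∃ y c : G, y ^ 5 = 1 ∧ y ≠ 1 ∧ c ^ 4 = 1 ∧ c * y * c⁻¹ = y ^ 2 := by
  classical
  have hp5 : Nat.Prime 5 := by norm_num
  have := Fact.mk hp5
  -- the element `y`
  obtain ⟨y, hy5, hyY⟩ : ∃ y : G, y ^ 5 = 1 ∧ QuotientGroup.mk' K y = Y := by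
    obtain ⟨g, rfl⟩ := QuotientGroup.mk'_surjective K Y
    have h1 : g ^ 5 ∈ K := by
      rw [← QuotientGroup.eq_one_iff, QuotientGroup.mk_pow]
      change (QuotientGroup.mk' K g) ^ 5 = 1
      rw [← hY, pow_orderOf_eq_one]
    set t := orderOf (g ^ 5) with ht
    have h2 : t ∣ Nat.card ↥K := by
      have := orderOf_dvd_natCard (⟨g ^ 5, h1⟩ : ↥K)
      rwa [Subgroup.orderOf_mk] at this
    have h3 : t.Coprime 5 := ((Nat.Prime.coprime_iff_not_dvd hp5).2 fun h => h5 (h.trans h2)).symm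
    obtain ⟨u, -, hu⟩ := Nat.exists_mul_mod_eq_one_of_coprime h3 (by norm_num)
    refine ⟨g ^ (t * u), ?_, ?_⟩
    · rw [← pow_mul, show t * u * 5 = 5 * t * u by ring, pow_mul, pow_mul, ht, pow_orderOf_eq_one, one_pow]
    · rw [map_pow, ← pow_mod_orderOf, hY, hu, pow_one]
  obtain ⟨g, hgC⟩ := QuotientGroup.mk'_surjective K C
  have hy1 : y ≠ 1 := by
    rintro rfl
    rw [map_one] at hyY
    rw [← hyY, orderOf_one] at hY
    omega
  have hyo : orderOf y = 5 := orderOf_eq_prime hy5 hy1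
  set H : Subgroup G := (zpowers Y).comap (QuotientGroup.mk' K) with hH
  have hHc : Nat.card ↥H = 5 * Nat.card ↥K := by
    have h1 : H.index = (zpowers Y).index := Subgroup.index_comap_of_surjective _ (QuotientGroup.mk'_surjective K)
    have h2 := H.card_mul_index
    have h3 := Subgroup.card_eq_card_quotient_mul_card_subgroup K
    have h4 := (zpowers Y).card_mul_index
    rw [Nat.card_zpowers, hY] at h4
    rw [← h4, ← h2, h1] at h3
    have h6 : 0 < (zpowers Y).index := Nat.pos_of_ne_zero Subgroup.index_ne_zero_of_finite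
    have h7 : Nat.card ↥H * (zpowers Y).index = (5 * Nat.card ↥K) * (zpowers Y).index := by
      rw [h3]; ring
    exact Nat.eq_of_mul_eq_mul_right h6 h7
  have hsyl : ∀ z : G, z ∈ H → orderOf z = 5 → ∃ P : Sylow 5 ↥H, (P : Subgroup ↥H).map H.subtype = zpowers z := by
    intro z hz hzo
    have hle : zpowers z ≤ H := by rwa [zpowers_le]
    have hc1 : Nat.card ↥((zpowers z).subgroupOf H) = 5 := by
      rw [Nat.card_congr (Subgroup.subgroupOfEquivOfLe hle).toEquiv, Nat.card_zpowers, hzo]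
    refine ⟨Sylow.ofCard ((zpowers z).subgroupOf H) ?_, ?_⟩
    · rw [hc1, hHc, Nat.factorization_mul (by norm_num) Nat.card_pos.ne']
      simp only [Finsupp.coe_add, Pi.add_apply]
      rw [Nat.factorization_eq_zero_of_not_dvd h5, Nat.Prime.factorization_self hp5]
      norm_num
    · show ((zpowers z).subgroupOf H).map H.subtype = zpowers z
      rw [Subgroup.subgroupOf_map_subtype, inf_eq_left]
      exact hle
  have hyH : y ∈ H := by
    rw [hH, Subgroup.mem_comap, hyY]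
    exact mem_zpowers Y
  have hgyH : g * y * g⁻¹ ∈ H := by
    rw [hH, Subgroup.mem_comap, map_mul, map_mul, map_inv, hyY, hgC, hC]
    exact pow_mem (mem_zpowers Y) 2
  have hgyo : orderOf (g * y * g⁻¹) = 5 := by
    have : g * y * g⁻¹ = MulAut.conj g y := rfl
    rw [this, MulEquiv.orderOf_eq, hyo]
  obtain ⟨P, hP⟩ := hsyl y hyH hyo
  obtain ⟨Q, hQ⟩ := hsyl _ hgyH hgyo
  obtain ⟨h, hh⟩ := MulAction.exists_smul_eq ↥H Q P
  -- `h` conjugates `g y g⁻¹` into `⟨y⟩`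
  have hhy : (h : G) * (g * y * g⁻¹) * (h : G)⁻¹ ∈ zpowers y := by
    rw [← hP, ← hh]
    have h1 : (⟨g * y * g⁻¹, hgyH⟩ : ↥H) ∈ (Q : Subgroup ↥H) := by
      have h2 : g * y * g⁻¹ ∈ (Q : Subgroup ↥H).map H.subtype := by rw [hQ]; exact mem_zpowers _
      obtain ⟨q, hq, hq'⟩ := h2
      have : q = ⟨g * y * g⁻¹, hgyH⟩ := Subtype.ext hq'
      rwa [this] at hq
    refine ⟨h * ⟨g * y * g⁻¹, hgyH⟩ * h⁻¹, ?_, rfl⟩
    rw [Sylow.smul_def, Sylow.pointwise_smul_def]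
    exact ⟨_, h1, rfl⟩
  -- the image of `h` centralizes `Y`
  set c₁ : G := h * g with hc₁
  obtain ⟨i, hi⟩ := mem_zpowers_iff.1 hhy
  have hhY : QuotientGroup.mk' K (h : G) ∈ zpowers Y := h.2
  have him : Y ^ i = Y ^ (2 : ℤ) := by
    have h1 := congrArg (QuotientGroup.mk' K) hi
    rw [map_zpow, hyY] at h1
    simp only [map_mul, map_inv] at h1
    rw [hyY, hgC, hC] at h1
    obtain ⟨j, hj⟩ := mem_zpowers_iff.1 hhY
    rw [h1, ← hj, zpow_ofNat]
    group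
  have hi2 : y ^ i = y ^ (2 : ℤ) := by
    rw [zpow_eq_zpow_iff_modEq, hyo]
    rw [zpow_eq_zpow_iff_modEq, hY] at him
    exact him
  have hcy : c₁ * y * c₁⁻¹ = y ^ 2 := by
    rw [hi2, zpow_ofNat] at hi
    rw [hi, hc₁]
    group
  -- the 2-part of `c₁`
  obtain ⟨a, b, hb, hab⟩ : ∃ a b : ℕ, Odd b ∧ orderOf c₁ = 2 ^ a * b := by
    obtain ⟨a, b, hb, hab⟩ := Nat.exists_eq_two_pow_mul_odd (orderOf_pos c₁).ne'
    exact ⟨a, b, hb, hab⟩
  set m := b ^ 2 with hm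
  have hm4 : m % 4 = 1 := by
    obtain ⟨k, rfl⟩ := hb
    rw [hm, show (2 * k + 1) ^ 2 = 4 * (k * k + k) + 1 by ring]
    omega
  set c := c₁ ^ m with hc
  have hcpow : ∀ k : ℕ, c₁ ^ k * y * (c₁ ^ k)⁻¹ = y ^ 2 ^ k := by
    intro k
    induction k with
    | zero => simp
    | succ k ih =>
      calc c₁ ^ (k + 1) * y * (c₁ ^ (k + 1))⁻¹ = c₁ ^ k * (c₁ * y * c₁⁻¹) * (c₁ ^ k)⁻¹ := by
            rw [pow_succ]; group
        _ = (c₁ ^ k * y * (c₁ ^ k)⁻¹) ^ 2 := by rw [hcy, conj_pow]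
        _ = y ^ 2 ^ (k + 1) := by rw [ih, ← pow_mul, ← pow_succ]
  have hmod : ∀ k : ℕ, 2 ^ (4 * k) % 5 = 1 := by
    intro k
    rw [pow_mul, Nat.pow_mod]
    norm_num
  have h2m : 2 ^ m % 5 = 2 := by
    have h1 : m = 4 * (m / 4) + 1 := by omega
    rw [h1, pow_succ, Nat.mul_mod, hmod]
  have hcy' : c * y * c⁻¹ = y ^ 2 := by
    rw [hc, hcpow, ← pow_mod_orderOf, hyo, h2m]
  have hc4 : Commute y (c ^ 4) := by
    have h1 : c ^ 4 * y * (c ^ 4)⁻¹ = y := by
      rw [hc, ← pow_mul, hcpow, ← pow_mod_orderOf, hyo, mul_comm m 4, hmod, pow_one]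
    exact (mul_inv_eq_iff_eq_mul.1 h1).symm
  have hc2 : c ^ 2 ^ a = 1 := by
    rw [hc, hm, ← pow_mul, show b ^ 2 * 2 ^ a = 2 ^ a * b * b by ring, ← hab, pow_mul, pow_orderOf_eq_one, one_pow]
  refine ⟨y, c, hy5, hy1, ?_, hcy'⟩
  by_contra hne
  apply h10
  refine exists_mul hp5 Nat.prime_two (by norm_num) (P := zpowers y) (T := zpowers c) ?_ ?_ (mem_zpowers y)
    (pow_mem (mem_zpowers c) 4) hy1 hne hc4
  · exact IsPGroup.of_card (n := 1) (by rw [Nat.card_zpowers, hyo, pow_one])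
  · have h1 : orderOf c ∣ 2 ^ a := orderOf_dvd_of_pow_eq_one hc2
    obtain ⟨k, -, hk⟩ := (Nat.dvd_prime_pow Nat.prime_two).1 h1
    exact IsPGroup.of_card (n := k) (by rw [Nat.card_zpowers, hk])

/-- **The exceptional case.** -/
theorem exceptional {G : Type*} [Group G] [Finite G] (K : Subgroup G) [K.Normal] (S : Subgroup (G ⧸ K))
    (e : ↥S ≃* alternatingGroup (Fin 7)) (h5 : ¬ 5 ∣ Nat.card ↥K) (hK2 : 2 ∣ Nat.card ↥K) (hK3 : 3 ∣ Nat.card ↥K)
    (h10 : ¬ ∃ x : G, orderOf x = 5 * 2) (h15 : ¬ ∃ x : G, orderOf x = 5 * 3)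
    (hpr : ∀ r : ℕ, r.Prime → r ∣ Nat.card ↥K → r = 2 ∨ r = 3) : ∃ x : G, orderOf x = 24 := by
  have : Fact (Nat.Prime 5) := ⟨by norm_num⟩
  let y₀ : alternatingGroup (Fin 7) := ⟨swap 0 1 * swap 1 2 * swap 2 3 * swap 3 4, by
    rw [Equiv.Perm.mem_alternatingGroup]; decide⟩
  let c₀ : alternatingGroup (Fin 7) := ⟨swap 1 2 * swap 2 4 * swap 4 3 * swap 5 6, by
    rw [Equiv.Perm.mem_alternatingGroup]; decide⟩
  have hy₀ : orderOf y₀ = 5 := by
    apply orderOf_eq_prime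
    · apply Subtype.ext; decide
    · intro h
      have := congrArg Subtype.val h
      revert this; decide
  have hc₀ : c₀ * y₀ * c₀⁻¹ = y₀ ^ 2 := by apply Subtype.ext; decide
  obtain ⟨y, c, hy5, hy1, hc4, hcy⟩ := exists_yc K h5 h10 (Y := ((e.symm y₀ : ↥S) : G ⧸ K))
    (C := ((e.symm c₀ : ↥S) : G ⧸ K)) (by rw [Subgroup.orderOf_coe, MulEquiv.orderOf_eq, hy₀]) (by
      rw [← Subgroup.coe_mul, ← Subgroup.coe_inv, ← Subgroup.coe_mul, ← map_mul, ← map_inv, ← map_mul, hc₀, map_pow,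
        Subgroup.coe_pow])
  refine exists_24 hy5 hc4 hcy K h5 hK2 hK3 ?_
  intro v hv hyv
  by_contra hv1
  have hyo : orderOf y = 5 := orderOf_eq_prime hy5 hy1
  obtain ⟨r, hr, hrv⟩ := Nat.exists_prime_and_dvd (n := orderOf v) (by rwa [Ne, orderOf_eq_one_iff])
  have hrK : r ∣ Nat.card ↥K := by
    refine hrv.trans ?_
    have := orderOf_dvd_natCard (⟨v, hv⟩ : ↥K)
    rwa [Subgroup.orderOf_mk] at this
  have hp5 : Nat.Prime 5 := by norm_num
  have hw : orderOf (v ^ (orderOf v / r)) = r := orderOf_pow_orderOf_div (orderOf_pos v).ne' hrv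
  have hcom : Commute y (v ^ (orderOf v / r)) := Commute.pow_right (show Commute y v from hyv) _
  have hmul : (5 : ℕ).Coprime r → ∃ x : G, orderOf x = 5 * r := fun hcop =>
    ⟨y * v ^ (orderOf v / r), by
      rw [hcom.orderOf_mul_eq_mul_orderOf_of_coprime (by rw [hyo, hw]; exact hcop), hyo, hw]⟩
  rcases hpr r hr hrK with rfl | rfl
  · exact h10 (hmul (by norm_num))
  · exact h15 (hmul (by norm_num))

end Cfsg.Agent.H402.AltG
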