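import Cfsg.Agent.H402.PSL2Cls

/-!
# The conjugacy class sizes of `PSL(2, F)`: the result
-/

set_option autoImplicit false
set_option linter.unusedSectionVars false

namespace Cfsg.Agent.H402.PSL2Cls

open Matrix

variable {F : Type*} [Field F] [Fintype F]

theorem card_PSL_odd (h2 : (2 : F) ≠ 0) :
    2 * Nat.card (PSL F) = Fintype.card F * (Fintype.card F ^ 2 - 1) := by
  have h := Cfsg.Agent.ClassicalGeometry.PSL2Basic.card_PSL2_odd F
    ((Cfsg.Agent.ClassicalGeometry.PSL2Basic.two_ne_zero_iff_odd F).1 h2)
  rw [mul_comm]; exact h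

theorem card_PSL_even (h2 : (2 : F) = 0) :
    Nat.card (PSL F) = Fintype.card F * (Fintype.card F ^ 2 - 1) := by
  apply Cfsg.Agent.ClassicalGeometry.PSL2Basic.card_PSL2_even F
  rw [← Nat.not_odd_iff_even, ← Cfsg.Agent.ClassicalGeometry.PSL2Basic.two_ne_zero_iff_odd F]
  exact not_not.2 h2

/-- The class size of the images of nontrivial unipotent elements. -/
theorem ix_up {x : PSL F} {M : SpecialLinearGroup (Fin 2) F} (hx : pj M = x) (hM : x ≠ 1)
    (h : tr M ^ 2 = 4) : ix x * Fintype.card F = Nat.card (PSL F) := by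
  subst hx
  obtain ⟨s, hs, g, hg⟩ := exists_conj_up hM h
  have h1 : ix (pj M) = ix (pj (up s)) := by rw [hg, ix_conj]
  have h2 := (Subgroup.centralizer ({pj (up s)} : Set (PSL F))).card_mul_index
  rw [card_centralizer_up hs] at h2
  rw [h1, mul_comm]
  exact h2

/-- Class sizes, `q` odd: the three kinds of elements. -/
theorem cases_odd (h2 : (2 : F) ≠ 0) {x : PSL F} (hx : x ≠ 1) :
    2 * ix x = Fintype.card F ^ 2 - 1 ∨
    (∃ t : F, t ≠ 0 ∧ t ^ 2 ≠ 4 ∧ ix x = Fintype.card F * (Fintype.card F - 1) +
      Fintype.card F * rho t) ∨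
    (2 * ix x = Fintype.card F * (Fintype.card F - 1) + Fintype.card F * rho (0 : F) ∧
      ∃ M, tr M = 0 ∧ pj M = x) := by
  obtain ⟨M, rfl⟩ := pj_surj x
  have hq : 0 < Fintype.card F := Fintype.card_pos
  by_cases h4 : tr M ^ 2 = 4
  · left
    have h := ix_up rfl hx h4
    have h' := card_PSL_odd (F := F) h2
    rw [← h] at h'
    have h5 : Fintype.card F * (2 * ix (pj M)) = Fintype.card F * (Fintype.card F ^ 2 - 1) := by
      rw [← h']; ring
    exact Nat.eq_of_mul_eq_mul_left hq h5
  · right
    by_cases ht : tr M = 0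
    · right
      refine ⟨?_, M, ht, rfl⟩
      rw [two_mul_ix_of_zero h2 ht, card_tr]
    · left
      refine ⟨tr M, ht, h4, ?_⟩
      rw [ix_of_ne h4 (Or.inl (mul_ne_zero h2 ht)), card_tr]

theorem four_ne_zero_of (h2 : (2 : F) ≠ 0) : (4 : F) ≠ 0 := by
  have : (4 : F) = 2 * 2 := by norm_num
  rw [this]
  exact mul_ne_zero h2 h2

/-- `rho 0` according to `q mod 4`. -/
theorem rho_zero_one (hq : Fintype.card F % 4 = 1) : rho (0 : F) = 2 := by
  have h2 : (2 : F) ≠ 0 := (Cfsg.Agent.ClassicalGeometry.PSL2Basic.two_ne_zero_iff_odd F).2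
    (Nat.odd_iff.2 (by omega))
  have h4 := four_ne_zero_of h2
  rcases rho_cases (0 : F) (by rw [zero_pow two_ne_zero]; exact h4.symm) with h | h
  · exfalso
    rw [rho_eq_zero_iff] at h
    have h1 : IsSquare (-1 : F) := by
      rw [FiniteField.isSquare_neg_one_iff]
      omega
    obtain ⟨s, hs⟩ := h1
    apply h s
    linear_combination hs
  · exact h

theorem rho_zero_three (hq : Fintype.card F % 4 = 3) : rho (0 : F) = 0 := by
  rw [rho_eq_zero_iff]
  intro a ha
  have h1 : IsSquare (-1 : F) := ⟨a, by linear_combination ha⟩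
  rw [FiniteField.isSquare_neg_one_iff] at h1
  omega

theorem exists_comp (t : F) : ∃ M : SpecialLinearGroup (Fin 2) F, tr M = t :=
  ⟨comp t, by show (0 : F) + t = t; ring⟩

theorem pj_ne_one_of {M : SpecialLinearGroup (Fin 2) F} (h : tr M ^ 2 ≠ 4) : pj M ≠ 1 := by
  intro h0
  rw [← pj_one] at h0
  rcases pj_eq.1 h0.symm with h1 | h1
  · apply h
    rw [h1]
    show ((1 : F) + 1) ^ 2 = 4
    norm_num
  · apply h
    rw [h1, tr_neg]
    show (-((1 : F) + 1)) ^ 2 = 4
    norm_num

theorem up_ne_one : pj (up (1 : F)) ≠ 1 := by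
  intro h0
  rw [← pj_one] at h0
  rcases pj_eq.1 h0.symm with h1 | h1
  · have := congrArg (fun M : SpecialLinearGroup (Fin 2) F => M.1 0 1) h1
    exact one_ne_zero (show (1 : F) = 0 from this)
  · have := congrArg (fun M : SpecialLinearGroup (Fin 2) F => M.1 0 1) h1
    have h2 : (1 : F) = -0 := this.trans (neg_apply' 1 0 1)
    rw [neg_zero] at h2
    exact one_ne_zero h2

/-- The data attached to `PSL(2, F)`. -/
structure Data (F : Type*) [Field F] [Fintype F] (d a b r : ℕ) : Prop where
  ar : Ar (Fintype.card F) d a b r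
  rel : d ^ 2 * (a * b) + 1 = Fintype.card F ^ 2
  sz : ∀ x : PSL F, x ≠ 1 → IsSz (Fintype.card F) d a b (ix x)
  exU : ∃ x : PSL F, ix x = d * a * b
  exB : ∃ x : PSL F, ix x = Fintype.card F * d * a
  exA : ∃ x : PSL F, ix x = Fintype.card F * b
  uniq : d = 2 → ∀ x y : PSL F, ix x = Fintype.card F * b → ix y = Fintype.card F * b → IsConj x y

theorem exists_data (hq : (2 ∣ Fintype.card F ∧ 2 < Fintype.card F) ∨
    (¬ 2 ∣ Fintype.card F ∧ 7 ≤ Fintype.card F)) : ∃ d a b r, Data F d a b r := by
  classical
  obtain ⟨p, hpc⟩ := CharP.exists F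
  obtain ⟨n, hp, hcard⟩ := FiniteField.card F p
  have hpr : p.Prime := hp
  have hpow : ∃ f, 1 ≤ f ∧ Fintype.card F = p ^ f := ⟨n, n.2, hcard⟩
  set q := Fintype.card F with hqdef
  have hq4 : 4 ≤ q := by
    rcases hq with ⟨h1, h2⟩ | ⟨h1, h2⟩ <;> omega
  rcases hq with ⟨h1, h2⟩ | ⟨h1, h2⟩
  · -- q even: d = 1, a = q - 1, b = q + 1
    have hF2 : (2 : F) = 0 := by
      by_contra h0
      have := (Cfsg.Agent.ClassicalGeometry.PSL2Basic.two_ne_zero_iff_odd F).1 h0
      exact (Nat.not_even_iff_odd.2 this) (even_iff_two_dvd.2 h1)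
    have hF4 : (4 : F) = 0 := by
      have : (4 : F) = 2 * 2 := by norm_num
      rw [this, hF2, zero_mul]
    have hqe : Even q := even_iff_two_dvd.2 h1
    have hcop : (q - 1).Coprime (q + 1) := by
      have h3 : Nat.gcd (q - 1) (q + 1) ∣ 2 := by
        have := Nat.dvd_sub (Nat.gcd_dvd_right (q - 1) (q + 1)) (Nat.gcd_dvd_left (q - 1) (q + 1))
        have e : q + 1 - (q - 1) = 2 := by omega
        rwa [e] at this
      rcases (Nat.dvd_prime Nat.prime_two).1 h3 with h4 | h4
      · exact h4
      · exfalso
        have := Nat.gcd_dvd_right (q - 1) (q + 1)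
        rw [h4] at this
        omega
    have hqa : q.Coprime (q - 1) := by
      have h3 : Nat.gcd q (q - 1) ∣ 1 := by
        have := Nat.dvd_sub (Nat.gcd_dvd_left q (q - 1)) (Nat.gcd_dvd_right q (q - 1))
        have e : q - (q - 1) = 1 := by omega
        rwa [e] at this
      exact Nat.dvd_one.1 h3
    have hqb : q.Coprime (q + 1) := by
      have h3 : Nat.gcd q (q + 1) ∣ 1 := by
        have := Nat.dvd_sub (Nat.gcd_dvd_right q (q + 1)) (Nat.gcd_dvd_left q (q + 1))
        have e : q + 1 - q = 1 := by omega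
        rwa [e] at this
      exact Nat.dvd_one.1 h3
    have hix : ∀ x : PSL F, x ≠ 1 → (ix x = (q - 1) * (q + 1)) ∨
        ∃ t : F, t ^ 2 ≠ 4 ∧ ix x = q * (q - 1) + q * rho t := by
      intro x hx
      obtain ⟨M, rfl⟩ := pj_surj x
      by_cases h4 : tr M ^ 2 = 4
      · left
        have h := ix_up rfl hx h4
        rw [card_PSL_even hF2] at h
        have h5 : q * ix (pj M) = q * ((q - 1) * (q + 1)) := by
          have h6 : q ^ 2 - 1 = (q - 1) * (q + 1) := by
            have := Nat.sq_sub_sq q 1
            rw [one_pow] at this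
            rw [this]; ring
          rw [← h6, mul_comm]
          exact h
        exact Nat.eq_of_mul_eq_mul_left (by omega) h5
      · right
        refine ⟨tr M, h4, ?_⟩
        rw [ix_of_ne h4 (Or.inr hF2), card_tr]
    obtain ⟨k, hk⟩ : ∃ k, q = k + 1 := ⟨q - 1, by omega⟩
    refine ⟨1, q - 1, q + 1, p, ⟨⟨hpr, hpow, by omega, by omega, hcop, hqa, hqb, ?_,
      Or.inl ⟨rfl, hqe, ?_⟩⟩, ?_, ?_, ?_, ?_, ?_, ?_⟩⟩
    · exact hqe.add_one
    · rw [Nat.odd_iff]; rw [Nat.even_iff] at hqe; omega
    · rw [← hqdef, hk]; simp only [Nat.add_sub_cancel]; ring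
    · intro x hx
      rcases hix x hx with h3 | ⟨t, ht, h3⟩
      · left; rw [h3]; ring
      · rcases rho_cases t ht with h4 | h4
        · right; left; rw [h3, h4]; ring
        · right; right; left
          rw [h3, h4, ← hqdef, hk]; simp only [Nat.add_sub_cancel]; ring
    · refine ⟨pj (up 1), ?_⟩
      rcases hix _ up_ne_one with h3 | ⟨t, ht, h3⟩
      · rw [h3]; ring
      · exfalso
        have h5 := ix_up (F := F) (x := pj (up 1)) (M := up 1) rfl up_ne_one (by
          show ((1 : F) + 1) ^ 2 = 4
          norm_num)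
        rw [card_PSL_even hF2, h3] at h5
        have h6 : q * (q * (q - 1) + q * rho t) = q * (q ^ 2 - 1) := by rw [← h5]; ring
        have h7 := Nat.eq_of_mul_eq_mul_left (by omega) h6
        have h8 : q ∣ q ^ 2 - 1 := ⟨(q - 1) + rho t, by rw [← h7]; ring⟩
        have h9 : q ∣ q ^ 2 := ⟨q, by ring⟩
        have h10 : q ∣ 1 := by
          have := Nat.dvd_sub h9 h8
          have e : q ^ 2 - (q ^ 2 - 1) = 1 := by
            have : 1 ≤ q ^ 2 := Nat.one_le_pow _ _ (by omega)
            omega
          rwa [e] at this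
        have := Nat.dvd_one.1 h10
        omega
    · obtain ⟨t, ht, hr⟩ := exists_rho_zero (F := F)
      obtain ⟨M, hM⟩ := exists_comp t
      refine ⟨pj M, ?_⟩
      rw [ix_of_ne (by rw [hM]; exact ht) (Or.inr hF2), card_tr, hM, hr]
      ring
    · obtain ⟨t, ht, hr⟩ := exists_rho_two (F := F) hq4
      obtain ⟨M, hM⟩ := exists_comp t
      refine ⟨pj M, ?_⟩
      rw [ix_of_ne (by rw [hM]; exact ht) (Or.inr hF2), card_tr, hM, hr, ← hqdef, hk]
      simp only [Nat.add_sub_cancel]; ring
    · intro h0
      omega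
  · -- q odd
    have hqo : Odd q := by
      rw [← Nat.not_even_iff_odd, even_iff_two_dvd]
      exact h1
    have hF2 : (2 : F) ≠ 0 := (Cfsg.Agent.ClassicalGeometry.PSL2Basic.two_ne_zero_iff_odd F).2 hqo
    have hF4 := four_ne_zero_of hF2
    obtain ⟨k, hk⟩ := hqo
    have hk3 : 3 ≤ k := by omega
    have hsq : q ^ 2 - 1 = 4 * (k * (k + 1)) := by
      rw [hk, Nat.sub_eq_iff_eq_add (by nlinarith)]; ring
    have hcop : k.Coprime (k + 1) := by simp
    have hqk : q.Coprime k := by
      have h3 : Nat.gcd q k ∣ 1 := by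
        have h4 : Nat.gcd q k ∣ 2 * k := (Nat.gcd_dvd_right q k).mul_left 2
        have := Nat.dvd_sub (Nat.gcd_dvd_left q k) h4
        have e : q - 2 * k = 1 := by omega
        rwa [e] at this
      exact Nat.dvd_one.1 h3
    have hqk1 : q.Coprime (k + 1) := by
      have h3 : Nat.gcd q (k + 1) ∣ 1 := by
        have h4 : Nat.gcd q (k + 1) ∣ 2 * (k + 1) := (Nat.gcd_dvd_right q (k + 1)).mul_left 2
        have := Nat.dvd_sub h4 (Nat.gcd_dvd_left q (k + 1))
        have e : 2 * (k + 1) - q = 1 := by omega
        rwa [e] at this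
      exact Nat.dvd_one.1 h3
    have hU : 2 * ix (pj (up (1 : F))) = q ^ 2 - 1 := by
      have h5 := ix_up (F := F) (x := pj (up 1)) (M := up 1) rfl up_ne_one (by
          show ((1 : F) + 1) ^ 2 = 4
          norm_num)
      have h' := card_PSL_odd (F := F) hF2
      rw [← h5] at h'
      have h6 : q * (2 * ix (pj (up (1 : F)))) = q * (q ^ 2 - 1) := by
        rw [← h']; ring
      exact Nat.eq_of_mul_eq_mul_left (by omega) h6
    have hq4' : q % 4 = 1 ∨ q % 4 = 3 := by omega
    rcases hq4' with h4 | h4
    · -- a = k even, b = k + 1 odd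
      have hke : Even k := by rw [Nat.even_iff]; omega
      have hr0 := rho_zero_one (F := F) h4
      refine ⟨2, k, k + 1, p, ⟨⟨hpr, hpow, hk3, by omega, hcop, hqk, hqk1, hke.add_one,
        Or.inr ⟨rfl, ⟨k, hk⟩, hke⟩⟩, ?_, ?_, ?_, ?_, ?_, ?_⟩⟩
      · rw [← hqdef, hk]; ring
      · intro x hx
        rcases cases_odd hF2 hx with h3 | ⟨t, ht, ht4, h3⟩ | ⟨h3, -⟩
        · left
          rw [← hqdef, hsq] at h3
          have : 2 * k * (k + 1) = 2 * (k * (k + 1)) := by ring
          omega
        · rcases rho_cases t ht4 with h5 | h5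
          · right; left
            rw [h3, h5, ← hqdef]
            have : q - 1 = 2 * k := by omega
            rw [this]; ring
          · right; right; left
            rw [h3, h5, ← hqdef]
            have : q - 1 = 2 * k := by omega
            rw [this]; ring
        · right; right; right
          rw [hr0, ← hqdef] at h3
          have : q - 1 = 2 * k := by omega
          rw [this] at h3
          have h6 : 2 * ix x = 2 * (q * (k + 1)) := by rw [h3]; ring
          exact Nat.eq_of_mul_eq_mul_left two_pos h6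
      · refine ⟨pj (up 1), ?_⟩
        rw [hsq] at hU
        have : 2 * k * (k + 1) = 2 * (k * (k + 1)) := by ring
        omega
      · obtain ⟨t, ht, hr⟩ := exists_rho_zero (F := F)
        have ht0 : t ≠ 0 := by
          rintro rfl
          omega
        obtain ⟨M, hM⟩ := exists_comp t
        refine ⟨pj M, ?_⟩
        rw [ix_of_ne (by rw [hM]; exact ht) (Or.inl (by rw [hM]; exact mul_ne_zero hF2 ht0)),
          card_tr, hM, hr, ← hqdef]
        have : q - 1 = 2 * k := by omega
        rw [this]; ring
      · obtain ⟨M, hM⟩ := exists_comp (0 : F)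
        refine ⟨pj M, ?_⟩
        have h3 := two_mul_ix_of_zero hF2 hM
        rw [card_tr, hr0, ← hqdef] at h3
        have : q - 1 = 2 * k := by omega
        rw [this] at h3
        have h6 : 2 * ix (pj M) = 2 * (q * (k + 1)) := by rw [h3]; ring
        exact Nat.eq_of_mul_eq_mul_left two_pos h6
      · intro _ x y hx hy
        have key : ∀ x : PSL F, ix x = q * (k + 1) → ∃ M, tr M = 0 ∧ pj M = x := by
          intro x hx
          have hx1 : x ≠ 1 := by
            rintro rfl
            rw [ix_eq_one_iff.2 (Subgroup.one_mem _)] at hx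
            have : 1 < q * (k + 1) := by nlinarith
            omega
          rcases cases_odd hF2 hx1 with h3 | ⟨t, ht, ht4, h3⟩ | ⟨-, h3⟩
          · exfalso
            rw [hx, ← hqdef, hsq] at h3
            have h5 : q ∣ 2 * (k * (k + 1)) := ⟨k + 1, by
              have : 2 * (q * (k + 1)) = 2 * (2 * (k * (k + 1))) := by rw [h3]; ring
              exact (Nat.eq_of_mul_eq_mul_left two_pos this).symm⟩
            have h6 : q ∣ 2 := by
              have := (hqk.mul_right hqk1).dvd_of_dvd_mul_right h5
              exact this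
            have := Nat.le_of_dvd two_pos h6
            omega
          · exfalso
            rw [hx, ← hqdef] at h3
            have e : q - 1 = 2 * k := by omega
            rw [e] at h3
            have h5 : k + 1 = 2 * k + rho t := by
              have : q * (k + 1) = q * (2 * k + rho t) := by rw [h3]; ring
              exact Nat.eq_of_mul_eq_mul_left (by omega) this
            omega
          · exact h3
        obtain ⟨M, hM, rfl⟩ := key x hx
        obtain ⟨N, hN, rfl⟩ := key y hy
        have h0 : tr M ^ 2 ≠ 4 := by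
          rw [hM, zero_pow two_ne_zero]; exact hF4.symm
        exact (isConj_pj h0).2 ⟨N, hN.trans hM.symm, rfl⟩
    · -- a = k + 1 even, b = k odd
      have hko : Odd k := by rw [Nat.odd_iff]; omega
      have hr0 := rho_zero_three (F := F) h4
      refine ⟨2, k + 1, k, p, ⟨⟨hpr, hpow, by omega, hk3, hcop.symm, hqk1, hqk, hko,
        Or.inr ⟨rfl, ⟨k, hk⟩, hko.add_one⟩⟩, ?_, ?_, ?_, ?_, ?_, ?_⟩⟩
      · rw [← hqdef, hk]; ring
      · intro x hx
        rcases cases_odd hF2 hx with h3 | ⟨t, ht, ht4, h3⟩ | ⟨h3, -⟩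
        · left
          rw [← hqdef, hsq] at h3
          have : 2 * (k + 1) * k = 2 * (k * (k + 1)) := by ring
          omega
        · rcases rho_cases t ht4 with h5 | h5
          · right; right; left
            rw [h3, h5, ← hqdef]
            have : q - 1 = 2 * k := by omega
            rw [this]; ring
          · right; left
            rw [h3, h5, ← hqdef]
            have : q - 1 = 2 * k := by omega
            rw [this]; ring
        · right; right; right
          rw [hr0, ← hqdef] at h3
          have : q - 1 = 2 * k := by omega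
          rw [this] at h3
          have h6 : 2 * ix x = 2 * (q * k) := by rw [h3]; ring
          exact Nat.eq_of_mul_eq_mul_left two_pos h6
      · refine ⟨pj (up 1), ?_⟩
        rw [hsq] at hU
        have : 2 * (k + 1) * k = 2 * (k * (k + 1)) := by ring
        omega
      · obtain ⟨t, ht, hr⟩ := exists_rho_two (F := F) hq4
        have ht0 : t ≠ 0 := by
          rintro rfl
          omega
        obtain ⟨M, hM⟩ := exists_comp t
        refine ⟨pj M, ?_⟩
        rw [ix_of_ne (by rw [hM]; exact ht) (Or.inl (by rw [hM]; exact mul_ne_zero hF2 ht0)),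
          card_tr, hM, hr, ← hqdef]
        have : q - 1 = 2 * k := by omega
        rw [this]; ring
      · obtain ⟨M, hM⟩ := exists_comp (0 : F)
        refine ⟨pj M, ?_⟩
        have h3 := two_mul_ix_of_zero hF2 hM
        rw [card_tr, hr0, ← hqdef] at h3
        have : q - 1 = 2 * k := by omega
        rw [this] at h3
        have h6 : 2 * ix (pj M) = 2 * (q * k) := by rw [h3]; ring
        exact Nat.eq_of_mul_eq_mul_left two_pos h6
      · intro _ x y hx hy
        have key : ∀ x : PSL F, ix x = q * k → ∃ M, tr M = 0 ∧ pj M = x := by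
          intro x hx
          have hx1 : x ≠ 1 := by
            rintro rfl
            rw [ix_eq_one_iff.2 (Subgroup.one_mem _)] at hx
            have : 1 < q * k := by nlinarith
            omega
          rcases cases_odd hF2 hx1 with h3 | ⟨t, ht, ht4, h3⟩ | ⟨-, h3⟩
          · exfalso
            rw [hx, ← hqdef, hsq] at h3
            have h5 : q ∣ 2 * (k * (k + 1)) := ⟨k, by
              have : 2 * (q * k) = 2 * (2 * (k * (k + 1))) := by rw [h3]; ring
              exact (Nat.eq_of_mul_eq_mul_left two_pos this).symm⟩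
            have h6 : q ∣ 2 := by
              have := (hqk.mul_right hqk1).dvd_of_dvd_mul_right h5
              exact this
            have := Nat.le_of_dvd two_pos h6
            omega
          · exfalso
            rw [hx, ← hqdef] at h3
            have e : q - 1 = 2 * k := by omega
            rw [e] at h3
            have h5 : k = 2 * k + rho t := by
              have : q * k = q * (2 * k + rho t) := by rw [h3]; ring
              exact Nat.eq_of_mul_eq_mul_left (by omega) this
            omega
          · exact h3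
        obtain ⟨M, hM, rfl⟩ := key x hx
        obtain ⟨N, hN, rfl⟩ := key y hy
        have h0 : tr M ^ 2 ≠ 4 := by
          rw [hM, zero_pow two_ne_zero]; exact hF4.symm
        exact (isConj_pj h0).2 ⟨N, hN.trans hM.symm, rfl⟩

end Cfsg.Agent.H402.PSL2Cls
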