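import Mathlib

/-!
# Small subgroups of alternating groups (for S3585)
-/

set_option autoImplicit false

namespace Cfsg.Agent.H402.AltG

open Equiv Equiv.Perm Subgroup Matrix

/-- The natural embedding `A_k → A_m`, `k ≤ m`. -/
noncomputable def altEmb {k m : ℕ} (h : k ≤ m) : alternatingGroup (Fin k) →* alternatingGroup (Fin m) where
  toFun g := ⟨(g : Perm (Fin k)).viaFintypeEmbedding (Fin.castLEEmb h), by
    rw [Equiv.Perm.mem_alternatingGroup, Equiv.Perm.viaFintypeEmbedding_sign]
    exact Equiv.Perm.mem_alternatingGroup.1 g.2⟩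
  map_one' := by
    apply Subtype.ext
    exact Equiv.Perm.extendDomain_one _
  map_mul' a b := by
    apply Subtype.ext
    exact (Equiv.Perm.extendDomain_mul _ _ _).symm

theorem altEmb_injective {k m : ℕ} (h : k ≤ m) : Function.Injective (altEmb h) := by
  intro a b hab
  apply Subtype.ext
  exact Equiv.Perm.extendDomainHom_injective (Fin.castLEEmb h).toEquivRange (congrArg Subtype.val hab)

/-- A noncyclic 3-subgroup. -/
theorem exists_three {m : ℕ} (hm : 6 ≤ m) : ∃ a b : alternatingGroup (Fin m), orderOf a = 3 ∧ orderOf b = 3 ∧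
    a * b = b * a ∧ b ∉ zpowers a := by
  let a : alternatingGroup (Fin 6) := ⟨swap 0 1 * swap 1 2, by rw [Equiv.Perm.mem_alternatingGroup]; decide⟩
  let b : alternatingGroup (Fin 6) := ⟨swap 3 4 * swap 4 5, by rw [Equiv.Perm.mem_alternatingGroup]; decide⟩
  have ha : orderOf a = 3 := by
    apply orderOf_eq_prime
    · apply Subtype.ext; decide
    · intro h
      have := congrArg Subtype.val h
      revert this; decide
  have hb : orderOf b = 3 := by
    apply orderOf_eq_prime
    · apply Subtype.ext; decide
    · intro h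
      have := congrArg Subtype.val h
      revert this; decide
  have hab : a * b = b * a := by apply Subtype.ext; decide
  have hn : b ∉ zpowers a := by
    intro h
    have h1 : ∀ x ∈ zpowers a, (x : Perm (Fin 6)) 3 = 3 := by
      intro x hx
      obtain ⟨k, rfl⟩ := mem_zpowers_iff.1 hx
      rw [Subgroup.coe_zpow]
      exact Equiv.Perm.zpow_apply_eq_self_of_apply_eq_self (by decide) k
    have := h1 b h
    revert this
    decide
  refine ⟨altEmb hm a, altEmb hm b, ?_, ?_, ?_, ?_⟩
  · rw [orderOf_injective _ (altEmb_injective hm), ha]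
  · rw [orderOf_injective _ (altEmb_injective hm), hb]
  · rw [← map_mul, hab, map_mul]
  · rw [← MonoidHom.map_zpowers]
    rintro ⟨c, hc, h⟩
    rw [altEmb_injective hm h] at hc
    exact hn hc

/-- A four-group. -/
theorem exists_four {m : ℕ} (hm : 4 ≤ m) : ∃ a b : alternatingGroup (Fin m), orderOf a = 2 ∧ orderOf b = 2 ∧
    a * b = b * a ∧ b ∉ zpowers a := by
  let a : alternatingGroup (Fin 4) := ⟨swap 0 1 * swap 2 3, by rw [Equiv.Perm.mem_alternatingGroup]; decide⟩
  let b : alternatingGroup (Fin 4) := ⟨swap 0 2 * swap 1 3, by rw [Equiv.Perm.mem_alternatingGroup]; decide⟩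
  have ha : orderOf a = 2 := by
    apply orderOf_eq_prime
    · apply Subtype.ext; decide
    · intro h
      have := congrArg Subtype.val h
      revert this; decide
  have hb : orderOf b = 2 := by
    apply orderOf_eq_prime
    · apply Subtype.ext; decide
    · intro h
      have := congrArg Subtype.val h
      revert this; decide
  have hab : a * b = b * a := by apply Subtype.ext; decide
  have hne : b ≠ a := by
    intro h
    have := congrArg Subtype.val h
    revert this; decide
  have hn : b ∉ zpowers a := by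
    intro h
    obtain ⟨k, hk⟩ := mem_zpowers_iff.1 h
    have h2 : a ^ (k % 2) = b := by
      have h3 := zpow_mod_orderOf a k
      rw [ha] at h3
      rw [← hk, ← h3]
      rfl
    rcases Int.emod_two_eq_zero_or_one k with h3 | h3
    · rw [h3, zpow_zero] at h2
      rw [← h2, orderOf_one] at hb
      omega
    · rw [h3, zpow_one] at h2
      exact hne h2.symm
  refine ⟨altEmb hm a, altEmb hm b, ?_, ?_, ?_, ?_⟩
  · rw [orderOf_injective _ (altEmb_injective hm), ha]
  · rw [orderOf_injective _ (altEmb_injective hm), hb]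
  · rw [← map_mul, hab, map_mul]
  · rw [← MonoidHom.map_zpowers]
    rintro ⟨c, hc, h⟩
    rw [altEmb_injective hm h] at hc
    exact hn hc

theorem sl_ext {F : Type*} [Field F] {M N : Matrix.SpecialLinearGroup (Fin 2) F} (h00 : M.1 0 0 = N.1 0 0)
    (h01 : M.1 0 1 = N.1 0 1) (h10 : M.1 1 0 = N.1 1 0) (h11 : M.1 1 1 = N.1 1 1) : M = N := by
  apply Subtype.ext
  ext i j
  fin_cases i <;> fin_cases j <;> assumption

/-- Commuting involutions of `PSL_2(q)`, `q` odd. -/
theorem psl2_involutions {F : Type*} [Field F] (h2 : (2 : F) ≠ 0)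
    (a b c : Matrix.ProjectiveSpecialLinearGroup (Fin 2) F) (ha : a ≠ 1) (hb : b ≠ 1) (hc : c ≠ 1)
    (haa : a * a = 1) (hbb : b * b = 1) (hcc : c * c = 1) (hab : a * b = b * a) (hac : a * c = c * a)
    (hbc : b * c = c * b) (h1 : a ≠ b) (h3 : a ≠ c) (h4 : b ≠ c) : c = a * b := by
  have hcen : ∀ M : SpecialLinearGroup (Fin 2) F, (QuotientGroup.mk M : ProjectiveSpecialLinearGroup (Fin 2) F) = 1 ↔
      M = 1 ∨ M = -1 := by
    intro M
    rw [QuotientGroup.eq_one_iff, Matrix.SpecialLinearGroup.mem_center_iff]
    constructor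
    · rintro ⟨r, hr, h⟩
      rw [Fintype.card_fin] at hr
      have h5 : (r - 1) * (r + 1) = 0 := by ring_nf; rw [hr]; ring
      rcases mul_eq_zero.1 h5 with h6 | h6
      · left
        have : r = 1 := by linear_combination h6
        apply Subtype.ext
        rw [← h, this]
        simp
      · right
        have : r = -1 := by linear_combination h6
        apply Subtype.ext
        rw [← h, this, map_neg, map_one]
        rfl
    · rintro (rfl | rfl)
      · exact ⟨1, by simp, by simp⟩
      · exact ⟨-1, by simp, by rw [map_neg, map_one]; rfl⟩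
  -- square one in `SL_2`
  have hsq : ∀ M : SpecialLinearGroup (Fin 2) F, M * M = 1 → M = 1 ∨ M = -1 := by
    intro M hM
    have hdet : M.1 0 0 * M.1 1 1 - M.1 0 1 * M.1 1 0 = 1 := by
      rw [← Matrix.det_fin_two]; exact M.2
    have e : ∀ i j, (M * M).1 i j = M.1 i 0 * M.1 0 j + M.1 i 1 * M.1 1 j := by
      intro i j
      show (M.1 * M.1) i j = _
      rw [Matrix.mul_apply, Fin.sum_univ_two]
    have e00 := e 0 0
    have e01 := e 0 1
    have e10 := e 1 0
    have e11 := e 1 1
    rw [hM] at e00 e01 e10 e11
    have o00 : (1 : SpecialLinearGroup (Fin 2) F).1 0 0 = 1 := rfl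
    have o01 : (1 : SpecialLinearGroup (Fin 2) F).1 0 1 = 0 := rfl
    have o10 : (1 : SpecialLinearGroup (Fin 2) F).1 1 0 = 0 := rfl
    have o11 : (1 : SpecialLinearGroup (Fin 2) F).1 1 1 = 1 := rfl
    rw [o00] at e00
    rw [o01] at e01
    rw [o10] at e10
    rw [o11] at e11
    have t2 : (M.1 0 0 + M.1 1 1) * (M.1 0 0 + M.1 1 1) = 4 := by
      linear_combination -e00 - e11 + 2 * hdet
    have tne : M.1 0 0 + M.1 1 1 ≠ 0 := by
      intro h
      rw [h, mul_zero] at t2
      have : (2 : F) * 2 = 0 := by rw [← show (4 : F) = 2 * 2 by norm_num]; exact t2.symm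
      exact h2 (mul_self_eq_zero.1 this)
    have b0 : M.1 0 1 = 0 := by
      have : (M.1 0 0 + M.1 1 1) * M.1 0 1 = 0 := by linear_combination -e01
      exact (mul_eq_zero.1 this).resolve_left tne
    have c0 : M.1 1 0 = 0 := by
      have : (M.1 0 0 + M.1 1 1) * M.1 1 0 = 0 := by linear_combination -e10
      exact (mul_eq_zero.1 this).resolve_left tne
    rw [b0] at e00 e11 hdet
    have had : M.1 0 0 = M.1 1 1 := by
      have h5 : M.1 0 0 * (M.1 0 0 - M.1 1 1) = 0 := by linear_combination -e00 - hdet
      rcases mul_eq_zero.1 h5 with h6 | h6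
      · rw [h6] at e00
        simp at e00
      · linear_combination h6
    have h7 : (M.1 0 0 - 1) * (M.1 0 0 + 1) = 0 := by linear_combination -e00
    rcases mul_eq_zero.1 h7 with h8 | h8
    · left
      apply sl_ext
      · rw [o00]; linear_combination h8
      · rw [o01]; exact b0
      · rw [o10]; exact c0
      · rw [o11, ← had]; linear_combination h8
    · right
      have n : ∀ i j, (-1 : SpecialLinearGroup (Fin 2) F).1 i j = -(1 : SpecialLinearGroup (Fin 2) F).1 i j := by
        intro i j
        rw [SpecialLinearGroup.coe_neg, Matrix.neg_apply]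
      apply sl_ext
      · rw [n, o00]; linear_combination h8
      · rw [n, o01, b0, neg_zero]
      · rw [n, o10, c0, neg_zero]
      · rw [n, o11, ← had]; linear_combination h8
  obtain ⟨A, rfl⟩ := QuotientGroup.mk_surjective a
  obtain ⟨B, rfl⟩ := QuotientGroup.mk_surjective b
  obtain ⟨C, rfl⟩ := QuotientGroup.mk_surjective c
  have sq : ∀ M : SpecialLinearGroup (Fin 2) F, (QuotientGroup.mk M : ProjectiveSpecialLinearGroup (Fin 2) F) ≠ 1 →
      (QuotientGroup.mk M * QuotientGroup.mk M : ProjectiveSpecialLinearGroup (Fin 2) F) = 1 → M * M = -1 := by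
    intro M hM h
    rw [← QuotientGroup.mk_mul, hcen] at h
    rcases h with h | h
    · exact absurd ((hcen M).2 (hsq M h)) hM
    · exact h
  have comm : ∀ M N : SpecialLinearGroup (Fin 2) F,
      (QuotientGroup.mk M * QuotientGroup.mk N : ProjectiveSpecialLinearGroup (Fin 2) F) =
        QuotientGroup.mk N * QuotientGroup.mk M → M * N = N * M ∨ M * N = -(N * M) := by
    intro M N h
    have h5 : (QuotientGroup.mk (M * N * (N * M)⁻¹) : ProjectiveSpecialLinearGroup (Fin 2) F) = 1 := by
      rw [QuotientGroup.mk_mul, QuotientGroup.mk_inv, QuotientGroup.mk_mul, QuotientGroup.mk_mul, h,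
        mul_inv_cancel]
    rcases (hcen _).1 h5 with h6 | h6
    · left; exact mul_inv_eq_one.1 h6
    · right
      rw [mul_inv_eq_iff_eq_mul] at h6
      rw [h6, neg_mul, one_mul]
  -- distinct commuting involutions anticommute
  have anti : ∀ M N : SpecialLinearGroup (Fin 2) F, M * M = -1 → N * N = -1 →
      (QuotientGroup.mk M : ProjectiveSpecialLinearGroup (Fin 2) F) ≠ QuotientGroup.mk N →
      (QuotientGroup.mk M * QuotientGroup.mk N : ProjectiveSpecialLinearGroup (Fin 2) F) =
        QuotientGroup.mk N * QuotientGroup.mk M → M * N = -(N * M) := by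
    intro M N hM hN hne h
    rcases comm M N h with h5 | h5
    · exfalso
      apply hne
      have h6 : (M * N) * (M * N) = 1 := by
        rw [h5, mul_assoc, ← mul_assoc M N M, h5, mul_assoc, ← mul_assoc N N, hN, hM]
        simp
      have h7 := (hcen _).2 (hsq _ h6)
      have h8 : (QuotientGroup.mk N * QuotientGroup.mk N : ProjectiveSpecialLinearGroup (Fin 2) F) = 1 := by
        rw [← QuotientGroup.mk_mul, hcen]
        exact Or.inr hN
      rw [QuotientGroup.mk_mul] at h7
      calc (QuotientGroup.mk M : ProjectiveSpecialLinearGroup (Fin 2) F) =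
          QuotientGroup.mk M * QuotientGroup.mk N * (QuotientGroup.mk N)⁻¹ := by group
        _ = (QuotientGroup.mk N)⁻¹ := by rw [h7, one_mul]
        _ = QuotientGroup.mk N := by rw [inv_eq_iff_mul_eq_one]; exact h8
    · exact h5
  have hA := sq A ha haa
  have hB := sq B hb hbb
  have hC := sq C hc hcc
  have hAB := anti A B hA hB h1 hab
  have hAC := anti A C hA hC h3 hac
  have hBC := anti B C hB hC h4 hbc
  have h9 : (A * B * C) * (A * B * C) = 1 := by
    have e1 : C * (A * B) = A * B * C := by
      have : C * A = -(A * C) := by rw [hAC, neg_neg]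
      rw [← mul_assoc, this, neg_mul, mul_assoc A C B]
      have : C * B = -(B * C) := by rw [hBC, neg_neg]
      rw [this, mul_neg, neg_neg, mul_assoc]
    have e2 : (A * B) * (A * B) = -1 := by
      have : B * A = -(A * B) := by rw [hAB, neg_neg]
      rw [mul_assoc, ← mul_assoc B A B, this, neg_mul, mul_assoc A B B, hB, mul_neg, mul_neg,
        mul_neg, mul_one, neg_neg, hA]
    calc (A * B * C) * (A * B * C) = A * B * (C * (A * B)) * C := by simp only [mul_assoc]
      _ = (A * B) * (A * B) * (C * C) := by rw [e1]; simp only [mul_assoc]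
      _ = 1 := by rw [e2, hC]; simp
  have h10 := (hcen _).2 (hsq _ h9)
  rw [QuotientGroup.mk_mul, QuotientGroup.mk_mul] at h10
  have h11 : (QuotientGroup.mk C : ProjectiveSpecialLinearGroup (Fin 2) F)⁻¹ = QuotientGroup.mk C := by
    rw [inv_eq_iff_mul_eq_one]; exact hcc
  rw [← h11]
  exact (eq_inv_of_mul_eq_one_left h10).symm

/-- `A_m`, `m ≥ 8`, is not `PSL_2(q)`, `q` odd. -/
theorem not_psl2 {m : ℕ} (hm : 8 ≤ m) {F : Type*} [Field F] [Fintype F] (hF : Odd (Fintype.card F)) :
    ¬ Nonempty (alternatingGroup (Fin m) ≃* Matrix.ProjectiveSpecialLinearGroup (Fin 2) F) := by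
  rintro ⟨e⟩
  have h2 : (2 : F) ≠ 0 := by
    intro h
    have : CharP F 2 := CharTwo.of_one_ne_zero_of_two_eq_zero one_ne_zero h
    have h3 := FiniteField.even_card_iff_char_two (F := F)
    rw [ringChar.eq F 2] at h3
    have := h3.1 rfl
    rw [Nat.odd_iff] at hF
    omega
  let a : alternatingGroup (Fin 8) := ⟨swap 0 1 * swap 2 3, by rw [Equiv.Perm.mem_alternatingGroup]; decide⟩
  let b : alternatingGroup (Fin 8) := ⟨swap 4 5 * swap 6 7, by rw [Equiv.Perm.mem_alternatingGroup]; decide⟩
  let c : alternatingGroup (Fin 8) := ⟨swap 0 2 * swap 1 3, by rw [Equiv.Perm.mem_alternatingGroup]; decide⟩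
  set φ : alternatingGroup (Fin 8) →* Matrix.ProjectiveSpecialLinearGroup (Fin 2) F :=
    e.toMonoidHom.comp (altEmb hm) with hφ
  have hinj : Function.Injective φ := e.injective.comp (altEmb_injective hm)
  have hne : ∀ x y : alternatingGroup (Fin 8), x ≠ y → φ x ≠ φ y := fun x y h h' => h (hinj h')
  have key := psl2_involutions h2 (φ a) (φ b) (φ c)
    (by rw [← map_one φ]; exact hne _ _ (by intro h; have := congrArg Subtype.val h; revert this; decide))
    (by rw [← map_one φ]; exact hne _ _ (by intro h; have := congrArg Subtype.val h; revert this; decide))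
    (by rw [← map_one φ]; exact hne _ _ (by intro h; have := congrArg Subtype.val h; revert this; decide))
    (by rw [← map_mul, ← map_one φ]; congr 1; apply Subtype.ext; decide)
    (by rw [← map_mul, ← map_one φ]; congr 1; apply Subtype.ext; decide)
    (by rw [← map_mul, ← map_one φ]; congr 1; apply Subtype.ext; decide)
    (by rw [← map_mul, ← map_mul]; congr 1; apply Subtype.ext; decide)
    (by rw [← map_mul, ← map_mul]; congr 1; apply Subtype.ext; decide)
    (by rw [← map_mul, ← map_mul]; congr 1; apply Subtype.ext; decide)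
    (hne _ _ (by intro h; have := congrArg Subtype.val h; revert this; decide))
    (hne _ _ (by intro h; have := congrArg Subtype.val h; revert this; decide))
    (hne _ _ (by intro h; have := congrArg Subtype.val h; revert this; decide))
  rw [← map_mul] at key
  have h5 := congrArg Subtype.val (hinj key)
  revert h5
  decide

theorem not_alt7 {m : ℕ} (hm : 8 ≤ m) : ¬ Nonempty (alternatingGroup (Fin m) ≃* alternatingGroup (Fin 7)) := by
  rintro ⟨e⟩
  have h1 := Nat.card_congr e.toEquiv
  have h2 := two_mul_nat_card_alternatingGroup (α := Fin 7)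
  have : Nontrivial (Fin m) := Fin.nontrivial_iff_two_le.2 (by omega)
  have h3 := two_mul_nat_card_alternatingGroup (α := Fin m)
  rw [h1, h2, Nat.card_perm, Nat.card_perm, Nat.card_eq_fintype_card, Nat.card_eq_fintype_card, Fintype.card_fin,
    Fintype.card_fin] at h3
  have h4 : Nat.factorial 7 < Nat.factorial m := (Nat.factorial_lt (by norm_num)).2 (by omega)
  omega

end Cfsg.Agent.H402.AltG
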