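import Cfsg.Agent.H402.AltArC

/-!
# The arithmetic of S3585: `n ≥ 7`, `m ≥ 8`, `p ≥ 5`
-/

set_option autoImplicit false

namespace Cfsg.Agent.H402.Alt

theorem prime_le_of_dvd_mul {P a b B : ℕ} (hP : P.Prime) (h : P ∣ a * b) (ha : P ∣ a → P ≤ B)
    (hb : P ∣ b → P ≤ B) : P ≤ B := by
  rcases hP.dvd_mul.1 h with h3 | h3
  · exact ha h3
  · exact hb h3

namespace Lw

variable {ω : Set ℕ} {n p f : ℕ} {x : ℤ} (h : Lw ω n p f x)

include h

theorem five_case {m : ℕ} {bad : ℕ → Prop} (A : AH ω m bad) (h8 : 8 ≤ m) (hn : 7 ≤ n)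
    (hp5 : 5 ≤ p) : False := by
  have hp2 : p ≠ 2 := by omega
  obtain ⟨k, hR, hk1, hk2, hpar⟩ := h.odd_index hp2
  obtain ⟨P, c, hP0, hPk, hP, hPc, hcm, hc⟩ := h.key' A h8 hR
  have hm := h.lt_mul A hp2
  have hmk : m < p ^ 2 * k := hm.trans_le (Nat.mul_le_mul_left _ hk1)
  have hk7 : 7 ≤ k := by
    rcases hpar with h1 | h1
    · by_contra hlt
      have : k = 6 := by omega
      omega
    · omega
  have hq3 : 3 ≤ p ^ f := by have := h.p_le_q; omega
  have hq4 := cycx_three h.hx hq3 (k := k) (by omega)
  rw [← hPc] at hq4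
  have hpq : p ^ k.totient ≤ (p ^ f) ^ k.totient := Nat.pow_le_pow_left h.p_le_q _
  have h3 : p ^ k.totient ≤ 2 * (P * c) := hpq.trans hq4
  have h5 : P * c ≤ k * m := Nat.mul_le_mul hPk hcm
  have hφ2 : k.totient = k.totient - 2 + 2 := by
    have h1 : Even k.totient := Nat.totient_even (by omega)
    have h2 : 0 < k.totient := Nat.totient_pos.2 (by omega)
    obtain ⟨s, hs⟩ := h1
    omega
  have hgen : 2 * k ^ 2 ≤ p ^ (k.totient - 2) → False := by
    intro h1
    have h2 : p ^ k.totient = p ^ (k.totient - 2) * p ^ 2 := by rw [← pow_add, ← hφ2]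
    have h4 : 2 * k ^ 2 * p ^ 2 ≤ p ^ k.totient := by
      rw [h2]; exact Nat.mul_le_mul_right _ h1
    have h6 : k * m < k * (p ^ 2 * k) := Nat.mul_lt_mul_of_pos_left hmk (by omega)
    have h7 : 2 * (k * (p ^ 2 * k)) = 2 * k ^ 2 * p ^ 2 := by ring
    omega
  rcases Nat.lt_or_ge k 200 with hk200 | hk200
  swap
  · apply hgen
    have h1 := two_pow_bound hk200
    have h2 : 2 ^ (k.totient - 2) ≤ p ^ (k.totient - 2) := Nat.pow_le_pow_left (by omega) _
    have h4 : 2 ^ k.totient = 2 ^ (k.totient - 2) * 4 := by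
      rw [hφ2, pow_add, ← hφ2]
      norm_num
    omega
  by_cases hkk : k ∈ [8, 10, 12, 18]
  swap
  · apply hgen
    have h1 := check_five k hk200 hk7 hkk
    have h2 : 5 ^ (k.totient - 2) ≤ p ^ (k.totient - 2) := Nat.pow_le_pow_left (by omega) _
    have h4 : 5 ^ k.totient = 5 ^ (k.totient - 2) * 25 := by
      rw [hφ2, pow_add, ← hφ2]
      norm_num
    omega
  have hkeven : k % 2 = 0 := by
    simp only [List.mem_cons, List.not_mem_nil, or_false] at hkk
    omega
  rcases hpar with h9 | ⟨hkn, h4x, hD1, hD2⟩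
  · omega
  -- a power p ^ 8 is large
  have hp25 : 5 ^ 2 ≤ p ^ 2 := Nat.pow_le_pow_left hp5 2
  have hfour : k.totient = 4 → ∀ B, P ≤ B → B * k ≤ 100 → p ^ f = p ∧ p ^ 2 < 2 * B * k := by
    intro hφ B hB hBk
    have hPcB : P * c ≤ B * m := Nat.mul_le_mul hB hcm
    have hB0 : 0 < B := by omega
    have h10 : B * m < B * (p ^ 2 * k) := Nat.mul_lt_mul_of_pos_left hmk hB0
    have h11 : p ^ 4 = p ^ 2 * p ^ 2 := by ring
    have h12 : B * (p ^ 2 * k) = B * k * p ^ 2 := by ring
    rw [hφ] at h3 hq4
    constructor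
    · rcases h.q_cases with h13 | h13
      · exact h13
      · exfalso
        have h14 : (p ^ 2) ^ 4 ≤ (p ^ f) ^ 4 := Nat.pow_le_pow_left h13 4
        have h15 : (p ^ 2) ^ 4 = p ^ 4 * p ^ 4 := by ring
        have h16 : 5 ^ 4 ≤ p ^ 4 := Nat.pow_le_pow_left hp5 4
        nlinarith
    · have h13 : p ^ 2 * p ^ 2 < 2 * B * k * p ^ 2 := by
        rw [← h11]
        calc p ^ 4 ≤ 2 * (P * c) := h3
          _ ≤ 2 * (B * m) := by omega
          _ < 2 * (B * (p ^ 2 * k)) := by omega
          _ = 2 * B * k * p ^ 2 := by ring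
      exact Nat.lt_of_mul_lt_mul_right h13
  simp only [List.mem_cons, List.not_mem_nil, or_false] at hkk
  rcases hkk with rfl | rfl | rfl | rfl
  · -- 8
    have hB : P ≤ 2 := by
      rcases hP with hP | ⟨hP, hP'⟩
      · omega
      · have : P ∣ 2 ^ 3 := hP'
        exact Nat.le_of_dvd (by norm_num) (hP.dvd_of_dvd_pow this)
    obtain ⟨h13, h14⟩ := hfour (by decide) 2 hB (by norm_num)
    have hp6 : p = 5 := by
      by_contra hne
      have : 6 ≤ p := by omega
      have := Nat.pow_le_pow_left this 2
      norm_num at h14 this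
      omega
    have h8x : (8 : ℤ) ∣ x - 1 := by
      have := hD1 3 (by rw [← hkn]; norm_num)
      norm_num at this
      exact this
    rcases h.hx with h15 | h15
    · rw [h15, h13, hp6] at h8x; revert h8x; decide
    · rw [h15, h13, hp6] at h8x; revert h8x; decide
  · -- 10
    have hB : P ≤ 5 := by
      rcases hP with hP | ⟨hP, hP'⟩
      · omega
      · have : P ∣ 2 * 5 := hP'
        exact prime_le_of_dvd_mul hP this
          (fun h => (Nat.le_of_dvd (by norm_num) h).trans (by norm_num))
          (fun h => Nat.le_of_dvd (by norm_num) h)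
    obtain ⟨h13, h14⟩ := hfour (by decide) 5 hB (by norm_num)
    have hp10 : p < 10 := by
      by_contra hne
      have : 10 ≤ p := by omega
      have := Nat.pow_le_pow_left this 2
      norm_num at h14 this
      omega
    have hp57 : p = 5 ∨ p = 7 := by
      have := h.hp
      interval_cases p
      · left; rfl
      · revert this; norm_num
      · right; rfl
      · revert this; norm_num
      · revert this; norm_num
    rcases hp57 with hp5' | hp7
    · have hx5 : x = ((5 : ℕ) : ℤ) := by
        rcases h.hx with h15 | h15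
        · rw [h15, h13, hp5']
        · exfalso
          rw [h15, h13, hp5'] at h4x; revert h4x; decide
      have hval : cycx x 10 = 521 := by
        rw [hx5, cycx_pos]
        have := cyc_ten_eq (q := 5) (by norm_num)
        norm_num at this
        omega
      have hm125 : m < 5 ^ 3 := by
        have := h.lt_pow A hp2 (b := 2) (by rw [hp5', ← hkn]; norm_num)
        rwa [hp5'] at this
      rw [← hPc] at hval
      interval_cases P <;> omega
    · have hx7 : x = -((7 : ℕ) : ℤ) := by
        rcases h.hx with h15 | h15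
        · exfalso
          rw [h15, h13, hp7] at h4x; revert h4x; decide
        · rw [h15, h13, hp7]
      have hval : cycx x 10 = 2801 := by
        rw [hx7, cycx_neg (by norm_num)]
        have : star 10 = 5 := rfl
        rw [this, cyc_five_eq (by norm_num)]; norm_num
      rw [hp7] at hmk
      rw [← hPc] at hval
      interval_cases P <;> omega
  · -- 12
    have hB : P ≤ 3 := by
      rcases hP with hP | ⟨hP, hP'⟩
      · omega
      · have : P ∣ 4 * 3 := hP'
        refine prime_le_of_dvd_mul hP this (fun h => ?_) (fun h => Nat.le_of_dvd (by norm_num) h)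
        have : P ∣ 2 ^ 2 := h
        exact (Nat.le_of_dvd (by norm_num) (hP.dvd_of_dvd_pow this)).trans (by norm_num)
    obtain ⟨h13, h14⟩ := hfour (by decide) 3 hB (by norm_num)
    have hp10 : p < 9 := by
      by_contra hne
      have : 9 ≤ p := by omega
      have := Nat.pow_le_pow_left this 2
      norm_num at h14 this
      omega
    have hp57 : p = 5 ∨ p = 7 := by
      have := h.hp
      interval_cases p
      · left; rfl
      · revert this; norm_num
      · right; rfl
      · revert this; norm_num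
    rcases hp57 with hp5' | hp7
    · exfalso
      obtain ⟨i, hi1, hi2⟩ := hD2
      have hx5 : x = 5 := by
        rcases h.hx with h15 | h15
        · rw [h15, h13, hp5']; rfl
        · exfalso
          rw [h15, h13, hp5'] at h4x; revert h4x; decide
      apply hi2
      have hi : i ≤ 2 := by
        by_contra hlt
        have h12 : (2 : ℤ) ^ 3 ∣ x - 1 := (pow_dvd_pow 2 (by omega)).trans hi1
        rw [hx5] at h12
        revert h12; decide
      exact (pow_dvd_pow 2 hi).trans (by rw [← hkn]; norm_num)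
    · have hx7 : x = -((7 : ℕ) : ℤ) := by
        rcases h.hx with h15 | h15
        · exfalso
          rw [h15, h13, hp7] at h4x; revert h4x; decide
        · rw [h15, h13, hp7]
      have hval : cycx x 12 = 2353 := by
        rw [hx7, cycx_neg (by norm_num)]
        exact cyc_12_7
      rw [hp7] at hmk
      rw [← hPc] at hval
      interval_cases P <;> omega
  · -- 18
    have hB : P ≤ 3 := by
      rcases hP with hP | ⟨hP, hP'⟩
      · omega
      · have : P ∣ 2 * 3 ^ 2 := hP'
        refine prime_le_of_dvd_mul hP this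
          (fun h => (Nat.le_of_dvd (by norm_num) h).trans (by norm_num)) (fun h => ?_)
        exact Nat.le_of_dvd (by norm_num) (hP.dvd_of_dvd_pow h)
    have hφ : (18 : ℕ).totient = 6 := by decide
    rw [hφ] at h3
    have h6 : P * c ≤ 3 * c := Nat.mul_le_mul_right _ hB
    have h7 : p ^ 6 = p ^ 4 * p ^ 2 := by ring
    have h8 : 5 ^ 4 ≤ p ^ 4 := Nat.pow_le_pow_left hp5 4
    have h9 : 5 ^ 4 * p ^ 2 ≤ p ^ 6 := by rw [h7]; exact Nat.mul_le_mul_right _ h8
    norm_num at h9
    omega

end Lw

end Cfsg.Agent.H402.Alt
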