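import Cfsg.Agent.Lib.Zsigmondy

/-!
# Primitive parts of `q ^ j - 1`

`exists_pp`: for `j ≥ 3` the value `Φ_j(q)` is `P * c` with `P = 1` or `P` a prime divisor of `j`, where all prime
divisors of `c` are primitive; `le_cyc`: `q ^ φ(j) ≤ 4 * Φ_j(q)`, and a better bound for `q ≥ 3`.
-/

set_option autoImplicit false

namespace Cfsg.Agent.H402.Alt

open Polynomial Cfsg.Agent.Lib.Zsigmondy

/-- The value of the cyclotomic polynomial, as a natural number. -/
noncomputable def cyc (j q : ℕ) : ℕ := ((cyclotomic j ℤ).eval (q : ℤ)).natAbs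

theorem cyc_cast {j q : ℕ} (hq : 1 ≤ q) : ((cyc j q : ℕ) : ℤ) = (cyclotomic j ℤ).eval (q : ℤ) :=
  Int.natAbs_of_nonneg (cyclotomic_nonneg j (by exact_mod_cast hq))

theorem cyc_pos {j q : ℕ} (hq : 2 ≤ q) : 0 < cyc j q := by
  have h1 : (0 : ℤ) < (cyclotomic j ℤ).eval (q : ℤ) := cyclotomic_pos' j (by exact_mod_cast hq)
  rw [← cyc_cast (by omega)] at h1
  exact_mod_cast h1

theorem cyc_dvd {j q : ℕ} (hq : 1 ≤ q) : cyc j q ∣ q ^ j - 1 := by
  have h1 : (cyclotomic j ℤ).eval (q : ℤ) ∣ ((X ^ j - 1 : ℤ[X])).eval (q : ℤ) :=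
    eval_dvd (cyclotomic.dvd_X_pow_sub_one j ℤ)
  rw [← cyc_cast hq] at h1
  have h2 : ((X ^ j - 1 : ℤ[X])).eval (q : ℤ) = ((q ^ j - 1 : ℕ) : ℤ) := by
    rw [Nat.cast_sub (Nat.one_le_pow _ _ (by omega))]
    simp
  rw [h2] at h1
  exact_mod_cast h1

/-- Prime divisors of `Φ_j(q)`. -/
theorem key {j q : ℕ} (hj : 1 ≤ j) {r : ℕ} (hr : r.Prime) (hrN : r ∣ cyc j q) :
    orderOf (q : ZMod r) = j ∨ ∃ k m : ℕ, j = r ^ (k + 1) * m ∧ ¬ r ∣ m ∧
      orderOf (q : ZMod r) = m ∧ m ∣ r - 1 ∧ 0 < m := by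
  have := Fact.mk hr
  obtain ⟨k, m, hm, hnk⟩ := Nat.exists_eq_pow_mul_and_not_dvd (n := j) (by omega) r hr.ne_one
  have hroot : (cyclotomic (r ^ k * m) (ZMod r)).IsRoot (q : ZMod r) := by
    rw [← hnk]
    have h1 : (((cyclotomic j ℤ).eval (q : ℤ) : ℤ) : ZMod r) = 0 := by
      rw [ZMod.intCast_zmod_eq_zero_iff_dvd]
      exact Int.natCast_dvd.2 hrN
    rw [IsRoot.def, ← map_cyclotomic_int j (ZMod r)]
    have h3 : (q : ZMod r) = (Int.castRingHom (ZMod r)) (q : ℤ) := by simp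
    rw [h3, eval_map_apply]
    simpa using h1
  have : NeZero (m : ZMod r) := ⟨fun h => hm ((ZMod.natCast_eq_zero_iff m r).1 h)⟩
  rw [isRoot_cyclotomic_prime_pow_mul_iff_of_charP] at hroot
  have hord : orderOf (q : ZMod r) = m := hroot.eq_orderOf.symm
  have hmpos : 0 < m := Nat.pos_of_ne_zero (by rintro rfl; exact hm (dvd_zero r))
  cases k with
  | zero =>
    left
    rw [hord, hnk]; simp
  | succ k =>
    right
    refine ⟨k, m, hnk, hm, hord, ?_, hmpos⟩
    rw [← hord]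
    apply orderOf_dvd_pred hr
    intro hra
    have h0 : (q : ZMod r) = 0 := (ZMod.natCast_eq_zero_iff q r).2 hra
    have := hroot.pow_eq_one
    rw [h0, zero_pow hmpos.ne'] at this
    exact zero_ne_one this

/-- Imprimitive prime divisors occur only once. -/
theorem not_sq {j q : ℕ} (hq : 2 ≤ q) (hj : 3 ≤ j) {r : ℕ} (hr : r.Prime)
    {k m : ℕ} (hnk : j = r ^ (k + 1) * m) (hrm : ¬ r ∣ m) (hord : orderOf (q : ZMod r) = m)
    (hmr : m ∣ r - 1) (hm0 : 0 < m) : ¬ r ^ 2 ∣ cyc j q := by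
  intro hsq
  have hN0 := cyc_pos (j := j) hq
  rcases Nat.lt_or_ge 2 r with hr2 | hr2
  swap
  · obtain rfl : r = 2 := le_antisymm hr2 hr.two_le
    have hm1 : m = 1 := Nat.dvd_one.1 (by simpa using hmr)
    subst hm1
    have hev : ((cyclotomic j ℤ).eval (q : ℤ)) = (q : ℤ) ^ 2 ^ k + 1 := by
      have := eval_cyclotomic_pow Nat.prime_two 1 k (q : ℤ)
      rw [show j = 1 * 2 ^ (k + 1) by rw [hnk]; ring, this]
      simp [cyclotomic_two]
    have hNa : cyc j q = q ^ 2 ^ k + 1 := by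
      have : (cyc j q : ℤ) = (q : ℤ) ^ 2 ^ k + 1 := by rw [cyc_cast (by omega), hev]
      exact_mod_cast this
    cases k with
    | zero => omega
    | succ k =>
      have hsq' : cyc j q = (q ^ 2 ^ k) ^ 2 + 1 := by rw [hNa, ← pow_mul, pow_succ]
      rw [hsq'] at hsq
      have h5 : ((q ^ 2 ^ k) ^ 2 + 1) % 4 = 0 := Nat.mod_eq_zero_of_dvd hsq
      have h6 : (q ^ 2 ^ k) % 4 < 4 := Nat.mod_lt _ (by norm_num)
      rw [Nat.add_mod, Nat.pow_mod] at h5
      interval_cases (q ^ 2 ^ k) % 4 <;> simp at h5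
  · have hodd : Odd r := hr.odd_of_ne_two (by omega)
    have hdvd : ((q : ℤ) ^ (r ^ k * m) - 1) * (cyc j q : ℤ) ∣ (q : ℤ) ^ j - 1 := by
      have hprop : r ^ k * m ∈ j.properDivisors := by
        rw [Nat.mem_properDivisors]
        refine ⟨⟨r, by rw [hnk]; ring⟩, ?_⟩
        rw [hnk]
        have : r ^ k * m < r ^ k * m * r := by
          have : 0 < r ^ k * m := Nat.mul_pos (pow_pos hr.pos k) hm0
          nlinarith
        calc r ^ k * m < r ^ k * m * r := this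
          _ = r ^ (k + 1) * m := by ring
      have := X_pow_sub_one_mul_cyclotomic_dvd_X_pow_sub_one_of_dvd ℤ hprop
      have h' := eval_dvd (x := (q : ℤ)) this
      rw [cyc_cast (by omega)]
      simpa using h'
    set c : ℕ := q ^ (r ^ k * m) with hc
    have hc1 : 1 < c := Nat.one_lt_pow (Nat.mul_pos (pow_pos hr.pos k) hm0).ne' (by omega)
    have hcr : q ^ j = c ^ r := by rw [hc, ← pow_mul, hnk]; congr 1; ring
    have hdvd' : (c - 1) * cyc j q ∣ c ^ r - 1 := by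
      have h1 : (((c - 1) * cyc j q : ℕ) : ℤ) ∣ ((c ^ r - 1 : ℕ) : ℤ) := by
        rw [Nat.cast_mul, Nat.cast_sub hc1.le, Nat.cast_sub (Nat.one_le_pow _ _ (by omega)), ← hcr]
        push_cast
        simpa [hc] using hdvd
      exact_mod_cast h1
    have hrc : r ∣ c - 1 := by
      rw [hc, dvd_pow_sub_one_iff (by omega), hord]
      exact Dvd.intro_left _ rfl
    have hrc' : ¬ r ∣ c := by
      intro h
      have : r ∣ 1 := by
        have h1 : c = (c - 1) + 1 := by omega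
        rw [h1] at h
        exact (Nat.dvd_add_right hrc).1 h
      exact hr.one_lt.ne' (Nat.dvd_one.1 this)
    have := Fact.mk hr
    have hlte : padicValNat r (c ^ r - 1 ^ r) = padicValNat r (c - 1) + padicValNat r r :=
      padicValNat.pow_sub_pow hodd hc1 hrc hrc' hr.ne_zero
    rw [one_pow, padicValNat_self] at hlte
    have hle : padicValNat r ((c - 1) * cyc j q) ≤ padicValNat r (c ^ r - 1) := by
      apply (padicValNat_dvd_iff_le (p := r) ?_).1
      · exact (pow_padicValNat_dvd).trans hdvd'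
      · have : 1 < c ^ r := Nat.one_lt_pow hr.ne_zero hc1
        omega
    rw [padicValNat.mul (by omega) (by omega), hlte] at hle
    have h2 : 2 ≤ padicValNat r (cyc j q) := (padicValNat_dvd_iff_le (by omega)).1 hsq
    omega

theorem exists_pp {q j : ℕ} (hq : 2 ≤ q) (hj : 3 ≤ j) :
    ∃ P c : ℕ, (∀ r, r.Prime → r ∣ c → orderOf (q : ZMod r) = j) ∧ (P = 1 ∨ (P.Prime ∧ P ∣ j)) ∧
      P * c = cyc j q := by
  by_cases hall : ∀ r, r.Prime → r ∣ cyc j q → orderOf (q : ZMod r) = j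
  · exact ⟨1, cyc j q, hall, Or.inl rfl, one_mul _⟩
  · push Not at hall
    obtain ⟨r, hr, hrN, hne⟩ := hall
    rcases key (by omega) hr hrN with h1 | ⟨k, m, hnk, hrm, hord, hmr, hm0⟩
    · exact absurd h1 hne
    have hsq := not_sq hq hj hr hnk hrm hord hmr hm0
    obtain ⟨c, hc⟩ := hrN
    refine ⟨r, c, ?_, Or.inr ⟨hr, hnk ▸ Dvd.dvd.mul_right (dvd_pow_self r (Nat.succ_ne_zero k)) m⟩,
      hc.symm⟩
    intro s hs hsc
    have hsr : s ≠ r := by
      rintro rfl
      apply hsq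
      rw [hc, sq]
      exact Nat.mul_dvd_mul_left _ hsc
    rcases key (by omega) hs (hc ▸ Dvd.dvd.mul_left hsc r) with h1 |
      ⟨k', m', hnk', hrm', hord', hmr', hm0'⟩
    · exact h1
    exfalso
    have hs_m : s ∣ m := by
      have : s ∣ r ^ (k + 1) * m := by
        rw [← hnk, hnk']; exact Dvd.dvd.mul_right (dvd_pow_self s (Nat.succ_ne_zero k')) m'
      rcases hs.dvd_mul.1 this with h | h
      · exact absurd ((Nat.prime_dvd_prime_iff_eq hs hr).1 (hs.dvd_of_dvd_pow h)) hsr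
      · exact h
    have hr_m' : r ∣ m' := by
      have : r ∣ s ^ (k' + 1) * m' := by
        rw [← hnk', hnk]; exact Dvd.dvd.mul_right (dvd_pow_self r (Nat.succ_ne_zero k)) m
      rcases hr.dvd_mul.1 this with h | h
      · exact absurd ((Nat.prime_dvd_prime_iff_eq hr hs).1 (hr.dvd_of_dvd_pow h)).symm hsr
      · exact h
    have hlt1 : s ≤ r - 1 := Nat.le_of_dvd (by have := hr.two_le; omega) (hs_m.trans hmr)
    have hlt2 : r ≤ s - 1 := Nat.le_of_dvd (by have := hs.two_le; omega) (hr_m'.trans hmr')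
    have := hr.two_le
    have := hs.two_le
    omega

/-! ### Lower bounds -/

section bound

variable {q : ℕ} (hq : 2 ≤ q)

include hq

theorem g_pos {n : ℕ} (hn : 0 < n) : (0 : ℝ) < 1 - (1 / (q : ℝ)) ^ n := by
  have h1 : (1 / (q : ℝ)) < 1 := by
    rw [div_lt_one (by positivity)]
    exact_mod_cast (by omega : 1 < q)
  have h2 : (1 / (q : ℝ)) ^ n < 1 := pow_lt_one₀ (by positivity) h1 hn.ne'
  linarith

omit hq in
theorem g_le_one (n : ℕ) : 1 - (1 / (q : ℝ)) ^ n ≤ 1 := by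
  have : (0 : ℝ) ≤ (1 / (q : ℝ)) ^ n := by positivity
  linarith

theorem prod_f {n : ℕ} (hn : 0 < n) :
    ∏ i ∈ n.divisors, ((cyc i q : ℝ) / (q : ℝ) ^ i.totient) = 1 - (1 / (q : ℝ)) ^ n := by
  have hq0 : (q : ℝ) ≠ 0 := by positivity
  rw [Finset.prod_div_distrib, Finset.prod_pow_eq_pow_sum, Nat.sum_totient]
  have h1 : (∏ i ∈ n.divisors, (cyc i q : ℝ)) = (q : ℝ) ^ n - 1 := by
    have h2 : (∏ i ∈ n.divisors, ((cyc i q : ℕ) : ℤ)) = (q : ℤ) ^ n - 1 := by
      have h3 := congrArg (fun P : ℤ[X] => P.eval (q : ℤ)) (prod_cyclotomic_eq_X_pow_sub_one hn ℤ)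
      simp only [eval_prod] at h3
      rw [Finset.prod_congr rfl (fun i _ => cyc_cast (j := i) (q := q) (by omega)), h3]
      simp
    have h4 := congrArg (fun z : ℤ => (z : ℝ)) h2
    push_cast at h4
    exact h4
  rw [h1, sub_div, div_self (pow_ne_zero _ hq0), one_div, one_div, inv_pow]

theorem f_eq {n : ℕ} (hn : 0 < n) :
    ∏ x ∈ n.divisorsAntidiagonal, (1 - (1 / (q : ℝ)) ^ x.2) ^ (ArithmeticFunction.moebius x.1) =
      (cyc n q : ℝ) / (q : ℝ) ^ n.totient := by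
  refine (ArithmeticFunction.prod_eq_iff_prod_pow_moebius_eq_of_nonzero
    (f := fun i => (cyc i q : ℝ) / (q : ℝ) ^ i.totient) (g := fun n => 1 - (1 / (q : ℝ)) ^ n)
    ?_ ?_).1 ?_ n hn
  · intro m _
    have h1 : (0 : ℝ) < cyc m q := by exact_mod_cast cyc_pos hq
    positivity
  · intro m hm
    exact (g_pos hq hm).ne'
  · intro m hm
    exact prod_f hq hm

theorem prod_le_f {n : ℕ} (hn : 0 < n) :
    ∏ i ∈ Finset.range n, (1 - (1 / (q : ℝ)) ^ (i + 1)) ≤ (cyc n q : ℝ) / (q : ℝ) ^ n.totient := by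
  rw [← f_eq hq hn]
  have h1 : ∏ i ∈ Finset.range n, (1 - (1 / (q : ℝ)) ^ (i + 1)) ≤
      ∏ i ∈ n.divisors, (1 - (1 / (q : ℝ)) ^ i) := by
    have h2 : ∏ i ∈ Finset.range n, (1 - (1 / (q : ℝ)) ^ (i + 1)) =
        ∏ i ∈ Finset.Icc 1 n, (1 - (1 / (q : ℝ)) ^ i) := by
      rw [Finset.range_eq_Ico, Finset.prod_Ico_add' (fun i => 1 - (1 / (q : ℝ)) ^ i) 0 n 1]
      rfl
    rw [h2]
    apply Finset.prod_le_prod_of_subset_of_le_one
    · intro i hi
      rw [Nat.mem_divisors] at hi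
      rw [Finset.mem_Icc]
      exact ⟨Nat.pos_of_dvd_of_pos hi.1 hn, Nat.le_of_dvd hn hi.1⟩
    · intro i hi
      rw [Finset.mem_Icc] at hi
      exact (g_pos hq (by omega)).le
    · intro i _ _
      exact g_le_one i
  refine h1.trans ?_
  rw [← Nat.map_div_left_divisors, Finset.prod_map]
  apply Finset.prod_le_prod
  · intro i hi
    exact (g_pos hq (Nat.pos_of_mem_divisors hi)).le
  · intro i hi
    have h4 := g_pos hq (Nat.pos_of_mem_divisors hi)
    have h5 := g_le_one (q := q) i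
    show 1 - (1 / (q : ℝ)) ^ i ≤ (1 - (1 / (q : ℝ)) ^ i) ^ (ArithmeticFunction.moebius (n / i))
    have h6 : ArithmeticFunction.moebius (n / i) = 0 ∨ ArithmeticFunction.moebius (n / i) = 1 ∨
      ArithmeticFunction.moebius (n / i) = -1 := ArithmeticFunction.moebius_eq_or _
    rcases h6 with h6 | h6 | h6
    · rw [h6, zpow_zero]; exact h5
    · rw [h6, zpow_one]
    · rw [h6, zpow_neg_one]
      exact h5.trans ((one_le_inv₀ h4).2 h5)

theorem quarter_le (n : ℕ) : 1 / 4 ≤ ∏ i ∈ Finset.range n, (1 - (1 / (q : ℝ)) ^ (i + 1)) := by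
  have h0 : ∀ n, 1 / 4 * (1 + 2 * (1 / 2 : ℝ) ^ (n + 1)) ≤
      ∏ i ∈ Finset.range (n + 1), (1 - (1 / (2 : ℝ)) ^ (i + 1)) := by
    intro n
    induction n with
    | zero => norm_num
    | succ n ih =>
      rw [Finset.prod_range_succ]
      have h1 : (0 : ℝ) ≤ 1 - (1 / 2) ^ (n + 1 + 1) := by
        have := pow_le_one₀ (n := n + 1 + 1) (by norm_num : (0 : ℝ) ≤ 1 / 2) (by norm_num)
        linarith
      refine le_trans ?_ (mul_le_mul_of_nonneg_right ih h1)
      have h2 : (1 / 2 : ℝ) ^ (n + 1 + 1) = (1 / 2) ^ (n + 1) * (1 / 2) := pow_succ _ _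
      rw [h2]
      have h3 : (1 / 2 : ℝ) ^ (n + 1) ≤ 1 / 2 := by
        rw [pow_succ]
        have := pow_le_one₀ (n := n) (by norm_num : (0 : ℝ) ≤ 1 / 2) (by norm_num)
        linarith
      have h4 : (0 : ℝ) < (1 / 2 : ℝ) ^ (n + 1) := by positivity
      nlinarith
  have h1 : ∏ i ∈ Finset.range n, (1 - (1 / (2 : ℝ)) ^ (i + 1)) ≤
      ∏ i ∈ Finset.range n, (1 - (1 / (q : ℝ)) ^ (i + 1)) := by
    apply Finset.prod_le_prod
    · intro i _
      have := pow_le_one₀ (n := i + 1) (by norm_num : (0 : ℝ) ≤ 1 / 2) (by norm_num)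
      linarith
    · intro i _
      have h2 : (1 / (q : ℝ)) ≤ 1 / 2 := by
        apply one_div_le_one_div_of_le (by norm_num)
        exact_mod_cast hq
      have := pow_le_pow_left₀ (by positivity) h2 (i + 1)
      linarith
  refine le_trans ?_ h1
  cases n with
  | zero => norm_num
  | succ n =>
    refine le_trans ?_ (h0 n)
    have : (0 : ℝ) < (1 / 2 : ℝ) ^ (n + 1) := by positivity
    linarith

theorem cyc_quarter {n : ℕ} (hn : 0 < n) : q ^ n.totient ≤ 4 * cyc n q := by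
  have h1 := (quarter_le hq n).trans (prod_le_f hq hn)
  have h2 : (0 : ℝ) < (q : ℝ) ^ n.totient := by positivity
  rw [le_div_iff₀ h2] at h1
  have h3 : ((q ^ n.totient : ℕ) : ℝ) ≤ ((4 * cyc n q : ℕ) : ℝ) := by
    push_cast
    linarith
  exact_mod_cast h3

omit hq in
theorem cyc_three (hq : 3 ≤ q) {n : ℕ} (hn : 0 < n) :
    (q - 2) * q ^ n.totient ≤ (q - 1) * cyc n q := by
  have hq3 : (3 : ℝ) ≤ q := by exact_mod_cast hq
  have h0 : ∀ n, 1 - ∑ i ∈ Finset.range n, (1 / (q : ℝ)) ^ (i + 1) ≤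
      ∏ i ∈ Finset.range n, (1 - (1 / (q : ℝ)) ^ (i + 1)) := by
    intro n
    induction n with
    | zero => simp
    | succ n ih =>
      rw [Finset.prod_range_succ, Finset.sum_range_succ]
      have h1 : (0 : ℝ) ≤ (1 / (q : ℝ)) ^ (n + 1) := by positivity
      have h2 : ∏ i ∈ Finset.range n, (1 - (1 / (q : ℝ)) ^ (i + 1)) ≤ 1 := by
        apply Finset.prod_le_one
        · intro i _
          exact (g_pos (by omega) (Nat.succ_pos i)).le
        · intro i _
          exact g_le_one _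
      nlinarith
  have h1 : ∑ i ∈ Finset.range n, (1 / (q : ℝ)) ^ (i + 1) ≤ 1 / (q - 1) := by
    have h2 : ∀ n, ∑ i ∈ Finset.range n, (1 / (q : ℝ)) ^ (i + 1) =
        1 / (q - 1) * (1 - (1 / (q : ℝ)) ^ n) := by
      intro n
      induction n with
      | zero => simp
      | succ n ih =>
        rw [Finset.sum_range_succ, ih, pow_succ]
        have h3 : (q : ℝ) - 1 ≠ 0 := by linarith
        have h4 : (q : ℝ) ≠ 0 := by linarith
        field_simp
        ring
    rw [h2]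
    have h3 : (0 : ℝ) < 1 / (q - 1) := by
      apply one_div_pos.2; linarith
    have h4 : (0 : ℝ) ≤ (1 / (q : ℝ)) ^ n := by positivity
    nlinarith
  have h2 := (h0 n).trans (prod_le_f (by omega) hn)
  have h3 : 1 - 1 / ((q : ℝ) - 1) ≤ (cyc n q : ℝ) / (q : ℝ) ^ n.totient := by linarith
  have h4 : (0 : ℝ) < (q : ℝ) ^ n.totient := by positivity
  rw [le_div_iff₀ h4] at h3
  have h5 : (q : ℝ) - 1 ≠ 0 := by linarith
  have h6 : (0 : ℝ) < (q : ℝ) - 1 := by linarith
  have h7 : ((q : ℝ) - 2) * (q : ℝ) ^ n.totient ≤ (q - 1) * cyc n q := by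
    have h8 := mul_le_mul_of_nonneg_left h3 h6.le
    have h9 : ((q : ℝ) - 1) * ((1 - 1 / ((q : ℝ) - 1)) * (q : ℝ) ^ n.totient) =
        ((q : ℝ) - 2) * (q : ℝ) ^ n.totient := by
      field_simp
      ring
    rwa [h9] at h8
  have h10 : (((q - 2) * q ^ n.totient : ℕ) : ℝ) ≤ (((q - 1) * cyc n q : ℕ) : ℝ) := by
    push_cast [Nat.cast_sub (by omega : 2 ≤ q), Nat.cast_sub (by omega : 1 ≤ q)]
    exact h7
  exact_mod_cast h10

end bound

end Cfsg.Agent.H402.Alt
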