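import Mathlib

/-!
# A lower bound for Euler's function

`2 k² ≤ 9 φ(k)³`, and `24 k² ≤ 2 ^ φ(k)` for `k ≥ 200`; finite checks below `200`.
-/

set_option autoImplicit false

namespace Cfsg.Agent.H402.Alt

theorem totient_aux {m : ℕ} (hm : m.Coprime 6) : m ^ 2 ≤ m.totient ^ 3 := by
  revert hm
  induction m using Nat.recOnPosPrimePosCoprime with
  | prime_pow p n hp hn =>
    intro h
    have h1 : p.Coprime 6 := Nat.Coprime.coprime_dvd_left (dvd_pow_self p hn.ne') h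
    have hp5 : 5 ≤ p := by
      have h2 := hp.two_le
      by_contra hlt
      have : p = 2 ∨ p = 3 ∨ p = 4 := by omega
      rcases this with rfl | rfl | rfl
      · revert h1; decide
      · revert h1; decide
      · revert h1; decide
    rw [Nat.totient_prime_pow hp hn]
    obtain ⟨k, rfl⟩ : ∃ k, n = k + 1 := ⟨n - 1, by omega⟩
    obtain ⟨s, rfl⟩ : ∃ s, p = s + 1 := ⟨p - 1, by omega⟩
    have h2 : (s + 1) ^ 2 ≤ s ^ 3 := by
      have h4 : 4 ≤ s := by omega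
      nlinarith [Nat.mul_le_mul h4 h4, Nat.mul_le_mul (Nat.mul_le_mul h4 h4) h4,
        Nat.mul_le_mul h4 (le_refl (s * s))]
    have h3 : ((s + 1) ^ k) ^ 2 ≤ ((s + 1) ^ k) ^ 3 :=
      Nat.pow_le_pow_right (by positivity) (by norm_num)
    calc ((s + 1) ^ (k + 1)) ^ 2 = ((s + 1) ^ k) ^ 2 * (s + 1) ^ 2 := by ring
      _ ≤ ((s + 1) ^ k) ^ 3 * s ^ 3 := Nat.mul_le_mul h3 h2
      _ = ((s + 1) ^ (k + 1 - 1) * (s + 1 - 1)) ^ 3 := by
        rw [Nat.add_sub_cancel, Nat.add_sub_cancel]; ring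
  | zero => intro h; revert h; decide
  | one => intro _; decide
  | coprime a b ha hb hab iha ihb =>
    intro h
    rw [Nat.totient_mul hab, mul_pow, mul_pow]
    exact Nat.mul_le_mul (iha (Nat.Coprime.coprime_mul_right h)) (ihb (Nat.Coprime.coprime_mul_left h))

theorem totient_bound {k : ℕ} (hk : 0 < k) : 2 * k ^ 2 ≤ 9 * k.totient ^ 3 := by
  obtain ⟨a, m, hm, rfl⟩ := Nat.exists_eq_pow_mul_and_not_dvd (n := k) (by omega) 2 (by norm_num)
  have hm0 : m ≠ 0 := by rintro rfl; simp at hk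
  obtain ⟨b, l, hl, rfl⟩ := Nat.exists_eq_pow_mul_and_not_dvd (n := m) hm0 3 (by norm_num)
  have hl2 : ¬ 2 ∣ l := fun h => hm (Dvd.dvd.mul_left h _)
  have hc2 : Nat.Coprime 2 l := (Nat.Prime.coprime_iff_not_dvd Nat.prime_two).2 hl2
  have hc3 : Nat.Coprime 3 l := (Nat.Prime.coprime_iff_not_dvd Nat.prime_three).2 hl
  have h6 : l.Coprime 6 := by
    have : Nat.Coprime l (2 * 3) := Nat.Coprime.mul_right hc2.symm hc3.symm
    exact this
  have h1 : Nat.Coprime (3 ^ b) l := Nat.Coprime.pow_left b hc3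
  have h2 : Nat.Coprime (2 ^ a) (3 ^ b * l) :=
    Nat.Coprime.mul_right (Nat.Coprime.pow _ _ (by norm_num)) (Nat.Coprime.pow_left a hc2)
  rw [Nat.totient_mul h2, Nat.totient_mul h1]
  have h3 := totient_aux h6
  have h4 : (2 ^ a) ^ 2 ≤ 4 * (2 ^ a).totient ^ 3 := by
    cases a with
    | zero => norm_num
    | succ a =>
      rw [Nat.totient_prime_pow_succ Nat.prime_two]
      have : (2 ^ a) ^ 2 ≤ (2 ^ a) ^ 3 := Nat.pow_le_pow_right (by positivity) (by norm_num)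
      calc (2 ^ (a + 1)) ^ 2 = 4 * (2 ^ a) ^ 2 := by ring
        _ ≤ 4 * (2 ^ a) ^ 3 := Nat.mul_le_mul_left _ this
        _ = 4 * (2 ^ a * (2 - 1)) ^ 3 := by norm_num
  have h5 : 8 * (3 ^ b) ^ 2 ≤ 9 * (3 ^ b).totient ^ 3 := by
    cases b with
    | zero => norm_num
    | succ b =>
      rw [Nat.totient_prime_pow_succ Nat.prime_three]
      have : (3 ^ b) ^ 2 ≤ (3 ^ b) ^ 3 := Nat.pow_le_pow_right (by positivity) (by norm_num)
      calc 8 * (3 ^ (b + 1)) ^ 2 = 72 * (3 ^ b) ^ 2 := by ring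
        _ ≤ 72 * (3 ^ b) ^ 3 := Nat.mul_le_mul_left _ this
        _ = 9 * (3 ^ b * (3 - 1)) ^ 3 := by norm_num; ring
  have h7 : 4 * (2 * (2 ^ a * (3 ^ b * l)) ^ 2) ≤
      4 * (9 * ((2 ^ a).totient * ((3 ^ b).totient * l.totient)) ^ 3) := by
    calc 4 * (2 * (2 ^ a * (3 ^ b * l)) ^ 2) = (2 ^ a) ^ 2 * (8 * (3 ^ b) ^ 2) * l ^ 2 := by ring
      _ ≤ (4 * (2 ^ a).totient ^ 3) * (9 * (3 ^ b).totient ^ 3) * l.totient ^ 3 :=
        Nat.mul_le_mul (Nat.mul_le_mul h4 h5) h3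
      _ = _ := by ring
  omega

theorem two_pow_bound {k : ℕ} (hk : 200 ≤ k) : 24 * k ^ 2 ≤ 2 ^ k.totient := by
  have h1 := totient_bound (k := k) (by omega)
  have h2 : 21 ≤ k.totient := by
    by_contra hlt
    have h3 : k.totient ^ 3 ≤ 20 ^ 3 := Nat.pow_le_pow_left (by omega) 3
    have h4 : 200 ^ 2 ≤ k ^ 2 := Nat.pow_le_pow_left hk 2
    norm_num at h3 h4
    omega
  have h3 : ∀ t : ℕ, 21 ≤ t → 108 * t ^ 3 ≤ 2 ^ t := by
    intro t ht
    induction t, ht using Nat.le_induction with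
    | base => norm_num
    | succ t ht ih =>
      rw [pow_succ 2]
      have h5 : 108 * (t + 1) ^ 3 ≤ 108 * t ^ 3 * 2 := by
        nlinarith [Nat.mul_le_mul ht ht, Nat.mul_le_mul (Nat.mul_le_mul ht ht) ht,
          Nat.mul_le_mul ht (le_refl (t * t))]
      omega
  have h4 := h3 _ h2
  omega

/-- Finite check, `p = 2`. -/
theorem check_two : ∀ k < 200, 13 ≤ k → k % 2 = 1 → k ≠ 15 → k ≠ 21 →
    4 * k * (4 * k + 2) ≤ 2 ^ k.totient := by
  decide +kernel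

/-- Finite check, `p = 3`. -/
theorem check_three : ∀ k < 200, 7 ≤ k → k ∉ [7, 8, 9, 10, 12, 14, 18, 20, 24, 30] →
    18 * k ^ 2 ≤ 3 ^ k.totient := by
  decide +kernel

/-- Finite check, `p ≥ 5`. -/
theorem check_five : ∀ k < 200, 7 ≤ k → k ∉ [8, 10, 12, 18] → 50 * k ^ 2 ≤ 5 ^ k.totient := by
  decide +kernel

end Cfsg.Agent.H402.Alt
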