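import Cfsg.Agent.H402.AltOrd

/-!
# Explicit values of cyclotomic polynomials
-/

set_option autoImplicit false

namespace Cfsg.Agent.H402.Alt

theorem cyc_two {q : ℕ} (hq : 2 ≤ q) : cyc 2 q = q + 1 := by
  have h := cyc_prime hq Nat.prime_two
  obtain ⟨s, rfl⟩ : ∃ s, q = s + 2 := ⟨q - 2, by omega⟩
  have e1 : s + 2 - 1 = s + 1 := by omega
  have e2 : (s + 2) ^ 2 - 1 = (s + 1) * (s + 3) := by
    have : (s + 2) ^ 2 = (s + 1) * (s + 3) + 1 := by ring
    omega
  rw [e1, e2] at h
  exact Nat.eq_of_mul_eq_mul_left (by omega) h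

theorem cyc_three_eq {q : ℕ} (hq : 2 ≤ q) : cyc 3 q = q ^ 2 + q + 1 := by
  have h := cyc_prime hq Nat.prime_three
  obtain ⟨s, rfl⟩ : ∃ s, q = s + 2 := ⟨q - 2, by omega⟩
  have e1 : s + 2 - 1 = s + 1 := by omega
  have e2 : (s + 2) ^ 3 - 1 = (s + 1) * ((s + 2) ^ 2 + (s + 2) + 1) := by
    have : (s + 2) ^ 3 = (s + 1) * ((s + 2) ^ 2 + (s + 2) + 1) + 1 := by ring
    omega
  rw [e1, e2] at h
  exact Nat.eq_of_mul_eq_mul_left (by omega) h

theorem cyc_five_eq {q : ℕ} (hq : 2 ≤ q) : cyc 5 q = q ^ 4 + q ^ 3 + q ^ 2 + q + 1 := by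
  have h := cyc_prime hq Nat.prime_five
  obtain ⟨s, rfl⟩ : ∃ s, q = s + 2 := ⟨q - 2, by omega⟩
  have e1 : s + 2 - 1 = s + 1 := by omega
  have e2 : (s + 2) ^ 5 - 1 = (s + 1) * ((s + 2) ^ 4 + (s + 2) ^ 3 + (s + 2) ^ 2 + (s + 2) + 1) := by
    have : (s + 2) ^ 5 = (s + 1) * ((s + 2) ^ 4 + (s + 2) ^ 3 + (s + 2) ^ 2 + (s + 2) + 1) + 1 := by
      ring
    omega
  rw [e1, e2] at h
  exact Nat.eq_of_mul_eq_mul_left (by omega) h

theorem cyc_four_eq {q : ℕ} (hq : 2 ≤ q) : cyc 4 q = q ^ 2 + 1 := by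
  have h := prod_cyc (n := 4) (q := q) (by omega) (by norm_num)
  have hd : (4 : ℕ).divisors = {1, 2, 4} := by decide
  rw [hd, Finset.prod_insert (by decide), Finset.prod_pair (by decide), cyc_one (by omega),
    cyc_two hq] at h
  obtain ⟨s, rfl⟩ : ∃ s, q = s + 2 := ⟨q - 2, by omega⟩
  have e1 : s + 2 - 1 = s + 1 := by omega
  have e2 : (s + 2) ^ 4 - 1 = (s + 1) * ((s + 2 + 1) * ((s + 2) ^ 2 + 1)) := by
    have : (s + 2) ^ 4 = (s + 1) * ((s + 2 + 1) * ((s + 2) ^ 2 + 1)) + 1 := by ring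
    omega
  rw [e1, e2] at h
  exact Nat.eq_of_mul_eq_mul_left (by omega) (Nat.eq_of_mul_eq_mul_left (by omega) h)

theorem cyc_six_eq {q : ℕ} (hq : 2 ≤ q) : cyc 6 q = q ^ 2 - q + 1 := by
  have h := prod_cyc (n := 6) (q := q) (by omega) (by norm_num)
  have hd : (6 : ℕ).divisors = {1, 2, 3, 6} := by decide
  rw [hd, Finset.prod_insert (by decide), Finset.prod_insert (by decide),
    Finset.prod_pair (by decide), cyc_one (by omega), cyc_two hq, cyc_three_eq hq] at h
  obtain ⟨s, rfl⟩ : ∃ s, q = s + 2 := ⟨q - 2, by omega⟩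
  have e1 : s + 2 - 1 = s + 1 := by omega
  have e3 : (s + 2) ^ 2 - (s + 2) + 1 = s ^ 2 + 3 * s + 3 := by
    have : (s + 2) ^ 2 = s ^ 2 + 3 * s + 2 + (s + 2) := by ring
    omega
  have e2 : (s + 2) ^ 6 - 1 = (s + 1) * ((s + 2 + 1) * (((s + 2) ^ 2 + (s + 2) + 1) *
      (s ^ 2 + 3 * s + 3))) := by
    have : (s + 2) ^ 6 = (s + 1) * ((s + 2 + 1) * (((s + 2) ^ 2 + (s + 2) + 1) *
      (s ^ 2 + 3 * s + 3))) + 1 := by ring
    omega
  rw [e3]
  rw [e1, e2] at h
  exact Nat.eq_of_mul_eq_mul_left (by positivity) (Nat.eq_of_mul_eq_mul_left (by omega)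
    (Nat.eq_of_mul_eq_mul_left (by omega) h))

/-- `Φ_10(q) + q³ + q = q⁴ + q² + 1`. -/
theorem cyc_ten_eq {q : ℕ} (hq : 2 ≤ q) : cyc 10 q + q ^ 3 + q = q ^ 4 + q ^ 2 + 1 := by
  have h := prod_cyc (n := 10) (q := q) (by omega) (by norm_num)
  have hd : (10 : ℕ).divisors = {1, 2, 5, 10} := by decide
  rw [hd, Finset.prod_insert (by decide), Finset.prod_insert (by decide),
    Finset.prod_pair (by decide), cyc_one (by omega), cyc_two hq, cyc_five_eq hq] at h
  obtain ⟨s, rfl⟩ : ∃ s, q = s + 2 := ⟨q - 2, by omega⟩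
  have e1 : s + 2 - 1 = s + 1 := by omega
  have e2 : (s + 2) ^ 10 - 1 = (s + 1) * ((s + 2 + 1) *
      (((s + 2) ^ 4 + (s + 2) ^ 3 + (s + 2) ^ 2 + (s + 2) + 1) *
      (s ^ 4 + 7 * s ^ 3 + 19 * s ^ 2 + 23 * s + 11))) := by
    have : (s + 2) ^ 10 = (s + 1) * ((s + 2 + 1) *
      (((s + 2) ^ 4 + (s + 2) ^ 3 + (s + 2) ^ 2 + (s + 2) + 1) *
      (s ^ 4 + 7 * s ^ 3 + 19 * s ^ 2 + 23 * s + 11))) + 1 := by ring
    omega
  rw [e1, e2] at h
  have h2 : cyc 10 (s + 2) = s ^ 4 + 7 * s ^ 3 + 19 * s ^ 2 + 23 * s + 11 :=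
    Nat.eq_of_mul_eq_mul_left (by positivity) (Nat.eq_of_mul_eq_mul_left (by omega)
      (Nat.eq_of_mul_eq_mul_left (by omega) h))
  rw [h2]
  ring

theorem cyc_7_2 : cyc 7 2 = 127 := by
  have h := cyc_prime (q := 2) (r := 7) (by norm_num) (by norm_num)
  norm_num at h; exact h

theorem cyc_11_2 : cyc 11 2 = 2047 := by
  have h := cyc_prime (q := 2) (r := 11) (by norm_num) (by norm_num)
  norm_num at h; exact h

theorem cyc_7_3 : cyc 7 3 = 1093 := by
  have h := cyc_prime (q := 3) (r := 7) (by norm_num) (by norm_num)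
  norm_num at h; omega

theorem cyc_14_2 : cyc 14 2 = 43 := by
  have h := prod_cyc (n := 14) (q := 2) (by omega) (by norm_num)
  have hd : (14 : ℕ).divisors = {1, 2, 7, 14} := by decide
  rw [hd, Finset.prod_insert (by decide), Finset.prod_insert (by decide),
    Finset.prod_pair (by decide), cyc_one (by omega), cyc_two (by omega), cyc_7_2] at h
  norm_num at h; omega

theorem cyc_14_3 : cyc 14 3 = 547 := by
  have h := prod_cyc (n := 14) (q := 3) (by omega) (by norm_num)
  have hd : (14 : ℕ).divisors = {1, 2, 7, 14} := by decide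
  rw [hd, Finset.prod_insert (by decide), Finset.prod_insert (by decide),
    Finset.prod_pair (by decide), cyc_one (by omega), cyc_two (by omega), cyc_7_3] at h
  norm_num at h; omega

theorem cyc_22_2 : cyc 22 2 = 683 := by
  have h := prod_cyc (n := 22) (q := 2) (by omega) (by norm_num)
  have hd : (22 : ℕ).divisors = {1, 2, 11, 22} := by decide
  rw [hd, Finset.prod_insert (by decide), Finset.prod_insert (by decide),
    Finset.prod_pair (by decide), cyc_one (by omega), cyc_two (by omega), cyc_11_2] at h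
  norm_num at h; omega

theorem cyc_8_2 : cyc 8 2 = 17 := by
  have h := prod_cyc (n := 8) (q := 2) (by omega) (by norm_num)
  have hd : (8 : ℕ).divisors = {1, 2, 4, 8} := by decide
  rw [hd, Finset.prod_insert (by decide), Finset.prod_insert (by decide),
    Finset.prod_pair (by decide), cyc_one (by omega), cyc_two (by omega),
    cyc_four_eq (by omega)] at h
  norm_num at h; omega

theorem cyc_9_2 : cyc 9 2 = 73 := by
  have h := prod_cyc (n := 9) (q := 2) (by omega) (by norm_num)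
  have hd : (9 : ℕ).divisors = {1, 3, 9} := by decide
  rw [hd, Finset.prod_insert (by decide), Finset.prod_pair (by decide), cyc_one (by omega),
    cyc_three_eq (by omega)] at h
  norm_num at h; omega

theorem cyc_9_3 : cyc 9 3 = 757 := by
  have h := prod_cyc (n := 9) (q := 3) (by omega) (by norm_num)
  have hd : (9 : ℕ).divisors = {1, 3, 9} := by decide
  rw [hd, Finset.prod_insert (by decide), Finset.prod_pair (by decide), cyc_one (by omega),
    cyc_three_eq (by omega)] at h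
  norm_num at h; omega

theorem cyc_18_2 : cyc 18 2 = 57 := by
  have h := prod_cyc (n := 18) (q := 2) (by omega) (by norm_num)
  have hd : (18 : ℕ).divisors = {1, 2, 3, 6, 9, 18} := by decide
  rw [hd, Finset.prod_insert (by decide), Finset.prod_insert (by decide),
    Finset.prod_insert (by decide), Finset.prod_insert (by decide), Finset.prod_pair (by decide),
    cyc_one (by omega), cyc_two (by omega),
    cyc_three_eq (by omega), cyc_six_eq (by omega), cyc_9_2] at h
  norm_num at h; omega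

theorem cyc_15_2 : cyc 15 2 = 151 := by
  have h := prod_cyc (n := 15) (q := 2) (by omega) (by norm_num)
  have hd : (15 : ℕ).divisors = {1, 3, 5, 15} := by decide
  rw [hd, Finset.prod_insert (by decide), Finset.prod_insert (by decide),
    Finset.prod_pair (by decide), cyc_one (by omega), cyc_three_eq (by omega),
    cyc_five_eq (by omega)] at h
  norm_num at h; omega

theorem cyc_10_2 : cyc 10 2 = 11 := by
  have := cyc_ten_eq (q := 2) (by omega)
  omega

theorem cyc_30_2 : cyc 30 2 = 331 := by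
  have h := prod_cyc (n := 30) (q := 2) (by omega) (by norm_num)
  have hd : (30 : ℕ).divisors = {1, 2, 3, 5, 6, 10, 15, 30} := by decide
  rw [hd, Finset.prod_insert (by decide), Finset.prod_insert (by decide),
    Finset.prod_insert (by decide), Finset.prod_insert (by decide), Finset.prod_insert (by decide),
    Finset.prod_insert (by decide), Finset.prod_pair (by decide), cyc_one (by omega),
    cyc_two (by omega), cyc_three_eq (by omega), cyc_six_eq (by omega), cyc_five_eq (by omega),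
    cyc_10_2, cyc_15_2] at h
  norm_num at h; omega

theorem cyc_12_7 : cyc 12 7 = 2353 := by
  have h := prod_cyc (n := 12) (q := 7) (by omega) (by norm_num)
  have hd : (12 : ℕ).divisors = {1, 2, 3, 4, 6, 12} := by decide
  rw [hd, Finset.prod_insert (by decide), Finset.prod_insert (by decide),
    Finset.prod_insert (by decide), Finset.prod_insert (by decide), Finset.prod_pair (by decide),
    cyc_one (by omega), cyc_two (by omega), cyc_three_eq (by omega), cyc_four_eq (by omega),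
    cyc_six_eq (by omega)] at h
  norm_num at h; omega

/-- The values with sign. -/
theorem val_three {x : ℤ} {q : ℕ} (hx : Sgn x q) (hq : 2 ≤ q) : (cycx x 3 : ℤ) = x ^ 2 + x + 1 := by
  rcases hx with rfl | rfl
  · rw [cycx_pos, cyc_three_eq hq]; push_cast; ring
  · rw [cycx_neg hq]
    have : star 3 = 6 := rfl
    rw [this, cyc_six_eq hq]
    have h2 : q ≤ q ^ 2 := Nat.le_self_pow (by norm_num) q
    push_cast [Nat.cast_sub h2]
    ring

theorem val_four {x : ℤ} {q : ℕ} (hx : Sgn x q) (hq : 2 ≤ q) : (cycx x 4 : ℤ) = x ^ 2 + 1 := by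
  rcases hx with rfl | rfl
  · rw [cycx_pos, cyc_four_eq hq]; push_cast; ring
  · rw [cycx_neg hq]
    have : star 4 = 4 := rfl
    rw [this, cyc_four_eq hq]
    push_cast
    ring

theorem val_six {x : ℤ} {q : ℕ} (hx : Sgn x q) (hq : 2 ≤ q) : (cycx x 6 : ℤ) = x ^ 2 - x + 1 := by
  rcases hx with rfl | rfl
  · rw [cycx_pos, cyc_six_eq hq]
    have h2 : q ≤ q ^ 2 := Nat.le_self_pow (by norm_num) q
    push_cast [Nat.cast_sub h2]; ring
  · rw [cycx_neg hq]
    have : star 6 = 3 := rfl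
    rw [this, cyc_three_eq hq]
    push_cast
    ring

theorem val_five {x : ℤ} {q : ℕ} (hx : Sgn x q) (hq : 2 ≤ q) :
    (cycx x 5 : ℤ) = x ^ 4 + x ^ 3 + x ^ 2 + x + 1 := by
  rcases hx with rfl | rfl
  · rw [cycx_pos, cyc_five_eq hq]; push_cast; ring
  · rw [cycx_neg hq]
    have : star 5 = 10 := rfl
    rw [this]
    have h1 := cyc_ten_eq hq
    have h2 : ((cyc 10 q + q ^ 3 + q : ℕ) : ℤ) = ((q ^ 4 + q ^ 2 + 1 : ℕ) : ℤ) := by rw [h1]
    push_cast at h2
    linear_combination h2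

end Cfsg.Agent.H402.Alt
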