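import Cfsg.Agent.H402.CsQuot
import Cfsg.Agent.Blocks.PElements
import Cfsg.Agent.Characters.DegreeBounds
import Cfsg.Agent.Blocks.Central
import Cfsg.Agent.S1230

/-!
# Groups with the class sizes of `PSL(2, q)`, `q` even: `G / Z(G) ≅ PSL(2, q)`
-/

set_option autoImplicit false
set_option linter.unusedSectionVars false

namespace Cfsg.Agent.H402

open Subgroup

/-- **Frobenius**: the number of `p`-elements is divisible by the `p`-part of the group order. -/
theorem dvd_card_pElements (G : Type*) [Group G] [Finite G] (p : ℕ) [hp : Fact p.Prime] :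
    p ^ (Nat.card G).factorization p ∣ Nat.card {x : G // ∃ k : ℕ, orderOf x = p ^ k} := by
  classical
  obtain ⟨a, ha, hsum⟩ := Cfsg.Agent.Blocks.PElements.exists_integral_sum_pElements
    (G := G) (p := p) (Cfsg.Agent.Characters.Core.isCharacter_one (G := G))
  have h1 : ∑ᶠ x ∈ Cfsg.Agent.Blocks.PElements.pElements G p, (1 : G → ℂ) x =
      (Nat.card {x : G // ∃ k : ℕ, orderOf x = p ^ k} : ℂ) := by
    have hfin : (Cfsg.Agent.Blocks.PElements.pElements G p).Finite := Set.toFinite _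
    rw [finsum_mem_eq_finite_toFinset_sum _ hfin]
    simp only [Pi.one_apply, Finset.sum_const, nsmul_eq_mul, mul_one]
    congr 1
    rw [← Set.ncard_eq_toFinset_card _ hfin]
    rfl
  rw [h1] at hsum
  have hne : p ^ (Nat.card G).factorization p ≠ 0 := pow_ne_zero _ hp.out.ne_zero
  apply Cfsg.Agent.Characters.DegreeBounds.nat_dvd_of_isIntegral_div hne
  rw [hsum, mul_div_cancel_left₀]
  · exact ha
  · exact_mod_cast hne

/-- A set of elements closed under conjugation, all with class size `m`, has order divisible by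
`m`. -/
theorem dvd_card_of_classes {G : Type*} [Group G] [Finite G] (P : G → Prop) (m : ℕ)
    (hconj : ∀ x g : G, P x → P (g * x * g⁻¹)) (hm : ∀ x : G, P x → ix x = m) :
    m ∣ Nat.card {x : G // P x} := by
  classical
  have := Fintype.ofFinite G
  -- partition by conjugacy classes
  let f : {x : G // P x} → ConjClasses G := fun x => ConjClasses.mk x.1
  have h1 : Nat.card {x : G // P x} = ∑ c : ConjClasses G, Nat.card {x : {x : G // P x} // f x = c} := by
    rw [Nat.card_congr (Equiv.sigmaFiberEquiv f).symm, Nat.card_sigma]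
  rw [h1]
  apply Finset.dvd_sum
  intro c _
  by_cases hc : ∃ x : {x : G // P x}, f x = c
  · obtain ⟨⟨x, hx⟩, rfl⟩ := hc
    have h2 : Nat.card {y : {x : G // P x} // f y = f ⟨x, hx⟩} = Nat.card {y : G | IsConj x y} := by
      apply Nat.card_congr
      refine ⟨fun y => ⟨y.1.1, (ConjClasses.mk_eq_mk_iff_isConj.1 y.2).symm⟩,
        fun y => ⟨⟨y.1, ?_⟩, ?_⟩, fun y => rfl, fun y => rfl⟩
      · obtain ⟨g, hg⟩ := isConj_iff.1 y.2
        rw [← hg]
        exact hconj x g hx
      · exact ConjClasses.mk_eq_mk_iff_isConj.2 (show IsConj x y.1 from y.2).symm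
    rw [h2, Cfsg.Agent.Blocks.Central.card_isConj x]
    exact (hm x hx).symm ▸ dvd_rfl
  · have : IsEmpty {x : {x : G // P x} // f x = c} := ⟨fun x => hc ⟨x.1, x.2⟩⟩
    rw [Nat.card_of_isEmpty]
    exact dvd_zero m

/-- Abstract counting: if all nontrivial `2`-elements have class size `m = q ^ 2 - 1`, where
`|Q| = q m`, then all `2`-elements have order at most two. -/
theorem sq_of_counting {Q : Type*} [Group Q] [Finite Q] {q m : ℕ} (hcardQ : Nat.card Q = q * m) (hqfac : 2 ^ (Nat.card Q).factorization 2 = q)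
    (hmq : m + 1 = q ^ 2)
    (hix : ∀ x : Q, x ≠ 1 → (∃ k, orderOf x = 2 ^ k) → ix x = m) {x : Q}
    (hx : ∃ k, orderOf x = 2 ^ k) : x * x = 1 := by
  have : Fact (Nat.Prime 2) := ⟨Nat.prime_two⟩
  by_contra hxx
  -- the nontrivial 2-elements
  set S : Q → Prop := fun x => x ≠ 1 ∧ ∃ k, orderOf x = 2 ^ k with hS
  set I : Q → Prop := fun x => x ≠ 1 ∧ x * x = 1 with hI
  have hIS : ∀ x, I x → S x := by
    rintro x ⟨hx1, hx2⟩
    refine ⟨hx1, 1, ?_⟩
    rw [pow_one]
    exact orderOf_eq_prime (by rw [pow_two]; exact hx2) hx1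
  have hconjo : ∀ x g : Q, orderOf (g * x * g⁻¹) = orderOf x := fun x g =>
    orderOf_injective (MulAut.conj g).toMonoidHom (MulAut.conj g).injective x
  have hSdvd : m ∣ Nat.card {x : Q // S x} := by
    apply dvd_card_of_classes S m
    · rintro x g ⟨hx1, k, hk⟩
      refine ⟨fun h0 => hx1 (conj_eq_one_iff.1 h0), k, by rw [hconjo, hk]⟩
    · rintro x ⟨hx1, hk⟩
      exact hix x hx1 hk
  have hIdvd : m ∣ Nat.card {x : Q // I x} := by
    apply dvd_card_of_classes I m
    · rintro x g ⟨hx1, hxx⟩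
      refine ⟨fun h0 => hx1 (conj_eq_one_iff.1 h0), ?_⟩
      calc g * x * g⁻¹ * (g * x * g⁻¹) = g * (x * x) * g⁻¹ := by group
        _ = 1 := by rw [hxx]; group
    · rintro x hx
      have := hIS x hx
      exact hix x this.1 this.2
  -- |S| + 1 is divisible by q
  have hfr := dvd_card_pElements Q 2
  rw [hqfac] at hfr
  have hcardS : Nat.card {x : Q // ∃ k : ℕ, orderOf x = 2 ^ k} = Nat.card {x : Q // S x} + 1 := by
    have h1 : Nat.card {x : Q // S x} = Set.ncard {x : Q | S x} := rfl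
    have h2 : Nat.card {x : Q // ∃ k : ℕ, orderOf x = 2 ^ k} =
      Set.ncard {x : Q | ∃ k : ℕ, orderOf x = 2 ^ k} := rfl
    rw [h1, h2]
    have h3 : {x : Q | ∃ k : ℕ, orderOf x = 2 ^ k} = insert 1 {x : Q | S x} := by
      ext y
      constructor
      · intro hy
        by_cases hy1 : y = 1
        · exact Or.inl hy1
        · exact Or.inr ⟨hy1, hy⟩
      · rintro (rfl | hy)
        · exact ⟨0, by simp⟩
        · exact hy.2
    rw [h3, Set.ncard_insert_of_notMem (fun h0 => h0.1 rfl) (Set.toFinite _)]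
  rw [hcardS] at hfr
  have hx1 : x ≠ 1 := by rintro rfl; exact hxx (mul_one _)
  -- |I| < |S|
  have hIpos : 0 < Nat.card {x : Q // I x} := by
    rw [Nat.card_pos_iff]
    refine ⟨?_, inferInstance⟩
    have h2 : 2 ∣ Nat.card Q := by
      obtain ⟨k, hk⟩ := hx
      have hk0 : k ≠ 0 := by
        rintro rfl
        rw [pow_zero, orderOf_eq_one_iff] at hk
        exact hx1 hk
      exact (dvd_pow_self 2 hk0).trans (hk ▸ _root_.orderOf_dvd_natCard x)
    obtain ⟨t, ht⟩ := exists_prime_orderOf_dvd_card' 2 h2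
    refine ⟨⟨t, ?_, ?_⟩⟩
    · intro h0
      rw [h0, orderOf_one] at ht
      omega
    · rw [← pow_two, ← ht, pow_orderOf_eq_one]
  have hlt : Nat.card {x : Q // I x} < Nat.card {x : Q // S x} := by
    have hss : {x : Q | I x} ⊂ {x : Q | S x} :=
      (Set.ssubset_iff_of_subset (fun y hy => hIS y hy)).2 ⟨x, ⟨hx1, hx⟩, fun h0 => hxx h0.2⟩
    exact Set.ncard_lt_ncard hss (Set.toFinite _)
  -- |S| < |Q|
  have hSle : Nat.card {x : Q // S x} < q * m := by
    rw [← hcardQ]
    have hss : {x : Q | S x} ⊂ Set.univ := by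
      rw [Set.ssubset_univ_iff]
      intro h0
      have : (1 : Q) ∈ {x : Q | S x} := by rw [h0]; trivial
      exact this.1 rfl
    have := Set.ncard_lt_ncard hss (Set.toFinite _)
    rw [Set.ncard_univ] at this
    exact this
  obtain ⟨c, hc⟩ := hSdvd
  obtain ⟨c', hc'⟩ := hIdvd
  rw [hc, hc'] at hlt
  rw [hc'] at hIpos
  have hc'1 : 1 ≤ c' := Nat.pos_of_mul_pos_left hIpos
  have hcc : 2 ≤ c := by
    have := Nat.lt_of_mul_lt_mul_left hlt
    omega
  have hcq : c < q := by
    rw [hc, mul_comm q m] at hSle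
    exact Nat.lt_of_mul_lt_mul_left hSle
  rw [hc] at hfr
  -- q ∣ m c + 1, m + 1 = q ^ 2, so q ∣ c - 1
  have h5 : q ∣ c - 1 := by
    have h6 : (m * c + 1) + (c - 1) = q ^ 2 * c := by
      rw [← hmq, add_mul]
      omega
    have h7 : q ∣ (m * c + 1) + (c - 1) := by
      rw [h6, pow_two, mul_assoc]
      exact dvd_mul_right q _
    exact (Nat.dvd_add_right hfr).1 h7
  have := Nat.le_of_dvd (by omega) h5
  omega

theorem even_abs {Q : Type*} [Group Q] [Finite Q] {q m : ℕ} (hq4 : 4 ≤ q)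
    (hqfac : 2 ^ (Nat.card Q).factorization 2 = q) (hmq : m + 1 = q ^ 2)
    (hsqall : ∀ x : Q, (∃ k, orderOf x = 2 ^ k) → x * x = 1)
    (hcardC : ∀ x : Q, x ≠ 1 → (∃ k, orderOf x = 2 ^ k) →
      Nat.card (Subgroup.centralizer ({x} : Set Q)) = q)
    (hixQ : ∀ x : Q, x ≠ 1 → (∃ k, orderOf x = 2 ^ k) → ix x = m) :
    ∃ (F : Type) (_ : Field F) (_ : Fintype F), Fintype.card F = q ∧
      Nonempty (Q ≃* Matrix.ProjectiveSpecialLinearGroup (Fin 2) F) := by
  have : Fact (Nat.Prime 2) := ⟨Nat.prime_two⟩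
  obtain ⟨T⟩ : Nonempty (Sylow 2 Q) := inferInstance
  have hTcard : Nat.card T = q := by rw [T.card_eq_multiplicity, hqfac]
  have hTsq : ∀ x ∈ (T : Subgroup Q), x * x = 1 := by
    intro x hx
    apply hsqall
    obtain ⟨k, hk⟩ := (IsPGroup.iff_orderOf.1 T.2) ⟨x, hx⟩
    exact ⟨k, by rw [← hk, Subgroup.orderOf_mk]⟩
  have hTcard' : Nat.card (T : Subgroup Q) = q := hTcard
  have hnc : ¬ IsCyclic (T : Subgroup Q) := by
    intro hcyc
    obtain ⟨g, hg⟩ := hcyc.exists_generator
    have h1 : orderOf g = Nat.card (T : Subgroup Q) := orderOf_eq_card_of_forall_mem_zpowers hg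
    have h2 : orderOf g ∣ 2 := by
      apply orderOf_dvd_of_pow_eq_one
      rw [pow_two]
      exact Subtype.ext (hTsq g g.2)
    have h3 : Nat.card (T : Subgroup Q) ≤ 2 := h1 ▸ Nat.le_of_dvd two_pos h2
    omega
  have hC : ∀ t : Q, orderOf t = 2 → IsMulCommutative (Subgroup.centralizer ({t} : Set Q)) ∧
      ∀ c ∈ Subgroup.centralizer ({t} : Set Q), c ^ 2 = 1 := by
    intro t ht
    have ht1 : t ≠ 1 := by
      rintro rfl
      rw [orderOf_one] at ht
      omega
    have hcard := hcardC t ht1 ⟨1, by rw [ht, pow_one]⟩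
    have hsq : ∀ c ∈ Subgroup.centralizer ({t} : Set Q), c * c = 1 := by
      intro c hc
      apply hsqall
      have h1 : orderOf (⟨c, hc⟩ : Subgroup.centralizer ({t} : Set Q)) ∣
          2 ^ (Nat.card Q).factorization 2 := by
        rw [hqfac, ← hcard]
        exact _root_.orderOf_dvd_natCard _
      rw [Subgroup.orderOf_mk] at h1
      obtain ⟨k, -, hk⟩ := (Nat.dvd_prime_pow Nat.prime_two).1 h1
      exact ⟨k, hk⟩
    refine ⟨⟨⟨fun x y => ?_⟩⟩, fun c hc => by rw [pow_two]; exact hsq c hc⟩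
    have hall : ∀ x : Subgroup.centralizer ({t} : Set Q), x * x = 1 := fun x =>
      Subtype.ext (hsq x x.2)
    have h1 := hall x
    have h2 := hall y
    have h3 := hall (x * y)
    have hx : x⁻¹ = x := inv_eq_of_mul_eq_one_left h1
    have hy : y⁻¹ = y := inv_eq_of_mul_eq_one_left h2
    have hxy : (x * y)⁻¹ = x * y := inv_eq_of_mul_eq_one_left h3
    rw [← hxy, mul_inv_rev, hx, hy]
  have hnn : ¬ (T : Subgroup Q).Normal := by
    intro hn
    have h4 : (T : Subgroup Q) ≠ ⊥ := by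
      intro h0
      rw [h0] at hTcard'
      rw [Subgroup.card_bot] at hTcard'
      omega
    obtain ⟨⟨t, htT⟩, ht⟩ := Subgroup.ne_bot_iff_exists_ne_one.1 h4
    have ht1 : t ≠ 1 := fun h0 => ht (Subtype.ext h0)
    have hk : ∃ k, orderOf t = 2 ^ k := by
      obtain ⟨k, hk⟩ := (IsPGroup.iff_orderOf.1 T.2) ⟨t, htT⟩
      exact ⟨k, by rw [← hk, Subgroup.orderOf_mk]⟩
    have h1 := hixQ t ht1 hk
    have h2 : Nat.card {x : Q | IsConj t x} = m := by
      rw [Cfsg.Agent.Blocks.Central.card_isConj t]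
      exact h1
    have h3 : Nat.card {x : Q | IsConj t x} ≤ Nat.card (T : Subgroup Q) := by
      apply Nat.card_mono (Set.toFinite _)
      intro x hx
      obtain ⟨g, hg⟩ := isConj_iff.1 (show IsConj t x from hx)
      rw [← hg]
      exact hn.conj_mem t htT g
    rw [h2, hTcard'] at h3
    have : q ^ 2 ≤ q + 1 := by omega
    nlinarith
  obtain ⟨F, hF1, hF2, hF3, hF4⟩ := Cfsg.Agent.S1230.result T hnc hnn hC
  exact ⟨F, hF1, hF2, hF3.trans hTcard, hF4⟩

namespace Hyp

variable {G : Type*} [Group G] [Finite G] {q d a b r : ℕ} (h : Hyp G q d a b r)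

include h

theorem d_eq_one_of_even (hq2 : Even q) : d = 1 := by
  rcases h.hd with ⟨h1, -⟩ | ⟨-, h1, -⟩
  · exact h1
  · exact absurd hq2 (Nat.not_even_iff_odd.2 h1)

theorem factorization_Q {r' : ℕ} (hr' : r' = r) :
    r' ^ (Nat.card (G ⧸ center G)).factorization r' = q := by
  subst hr'
  obtain ⟨f, hf, hqf⟩ := h.hq
  have ha := h.ha
  have hb := h.hb
  have hd := h.d_pos
  have hq1 := h.q_gt
  have e : q * d * a * b = q * (d * a * b) := by ring
  rw [h.card_Q, e, Nat.factorization_mul (by omega) (by positivity), Finsupp.add_apply,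
    Nat.factorization_eq_zero_of_not_dvd h.r_not_dvd, add_zero, hqf]
  congr 1
  rw [h.hr.factorization_pow]
  simp

/-- For `q` even all nontrivial `2`-elements of `G / Z(G)` are involutions. -/
theorem sq_of_even (hq2 : Even q) (habq : a * b + 1 = q ^ 2) {x : G ⧸ center G}
    (hx : ∃ k, orderOf x = 2 ^ k) : x * x = 1 := by
  have hr2 : 2 = r := ((h.dvd_q_iff Nat.prime_two).1 (even_iff_two_dvd.1 hq2))
  have hd1 : d = 1 := h.d_eq_one_of_even hq2
  have ha := h.ha
  have hb := h.hb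
  apply sq_of_counting (m := a * b) _ (h.factorization_Q hr2) habq _ hx
  · rw [h.card_Q, hd1]; ring
  · intro x hx hk
    rw [h.ixQ_r hx (hr2 ▸ hk), hd1, one_mul]

/-- **The even case.** -/
theorem even_case (hq2 : Even q) (habq : a * b + 1 = q ^ 2) (hq4 : 4 ≤ q) :
    ∃ (F : Type) (_ : Field F) (_ : Fintype F), Fintype.card F = q ∧
      Nonempty ((G ⧸ center G) ≃* Matrix.ProjectiveSpecialLinearGroup (Fin 2) F) := by
  have hr2 : 2 = r := ((h.dvd_q_iff Nat.prime_two).1 (even_iff_two_dvd.1 hq2))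
  have hd1 : d = 1 := h.d_eq_one_of_even hq2
  apply even_abs hq4 (h.factorization_Q hr2) habq
  · intro x hx
    exact h.sq_of_even hq2 habq hx
  · intro x hx hk
    exact h.cardC_r hx (hr2 ▸ hk)
  · intro x hx hk
    rw [h.ixQ_r hx (hr2 ▸ hk), hd1, one_mul]

end Hyp

end Cfsg.Agent.H402
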