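import Cfsg.Agent.H402.CsQuotIso
import Cfsg.Agent.H402.PSL2Sizes

/-!
# Groups with the class sizes of `PSL(2, F)`
-/

set_option autoImplicit false
set_option linter.unusedSectionVars false

namespace Cfsg.Agent.H402

open Subgroup PSL2Cls

variable {F : Type*} [Field F] [Fintype F] {G : Type*} [Group G] [Finite G]

theorem hyp_of_data {d a b r : ℕ} (D : Data F d a b r)
    (h : Set.range (fun g : G => ix g) = Set.range (fun g : PSL F => ix g)) :
    Hyp G (Fintype.card F) d a b r := by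
  have hex : ∀ n, (∃ x : PSL F, ix x = n) → ∃ x : G, ix x = n := by
    rintro n ⟨x, hx⟩
    have h1 : n ∈ Set.range (fun g : PSL F => ix g) := ⟨x, hx⟩
    rw [← h] at h1
    exact h1
  refine ⟨D.ar, ?_, hex _ D.exU, hex _ D.exB, hex _ D.exA⟩
  intro x hx
  have h1 : ix x ∈ Set.range (fun g : G => ix g) := ⟨x, rfl⟩
  rw [h] at h1
  obtain ⟨y, hy⟩ := h1
  have hy' : ix y = ix x := hy
  rw [← hy']
  apply D.sz
  rintro rfl
  rw [ix_eq_one_iff.2 (one_mem _)] at hy'
  exact hx (ix_eq_one_iff.1 hy'.symm)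

theorem quot_iso_psl (hq : (2 ∣ Fintype.card F ∧ 2 < Fintype.card F) ∨
    (¬ 2 ∣ Fintype.card F ∧ 7 ≤ Fintype.card F))
    (h : Set.range (fun g : G => ix g) = Set.range (fun g : PSL F => ix g)) :
    Nonempty ((G ⧸ center G) ≃* Matrix.ProjectiveSpecialLinearGroup (Fin 2) F) := by
  obtain ⟨d, a, b, r, D⟩ := exists_data hq
  have H := hyp_of_data D h
  apply H.quot_iso D.rel _ rfl
  rcases hq with ⟨h1, h2⟩ | ⟨h1, h2⟩
  · left
    exact ⟨even_iff_two_dvd.2 h1, by omega⟩
  · right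
    refine ⟨?_, h2⟩
    rw [← Nat.not_even_iff_odd, even_iff_two_dvd]
    exact h1

end Cfsg.Agent.H402
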