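import Cfsg.Agent.H402.CsEven
import Cfsg.Agent.S0118
import Cfsg.Agent.S0731
import Cfsg.Agent.ClassicalGeometry.PSL2Basic

/-!
# Groups with the class sizes of `PSL(2, q)`, `q` odd
-/

set_option autoImplicit false
set_option linter.unusedSectionVars false

namespace Cfsg.Agent.H402

open Subgroup

/-- The unipotent matrix. -/
def upz (r : ℕ) (t : ZMod r) : Matrix.SpecialLinearGroup (Fin 2) (ZMod r) :=
  ⟨!![1, t; 0, 1], by simp [Matrix.det_fin_two]⟩

theorem upz_coe (r : ℕ) (t : ZMod r) :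
    ((upz r t : Matrix.SpecialLinearGroup (Fin 2) (ZMod r)) : Matrix (Fin 2) (Fin 2) (ZMod r)) =
      !![1, t; 0, 1] := rfl

theorem upz_mul (r : ℕ) (s t : ZMod r) : upz r s * upz r t = upz r (s + t) := by
  apply Matrix.SpecialLinearGroup.ext
  intro i j
  rw [Matrix.SpecialLinearGroup.coe_mul, upz_coe, upz_coe, upz_coe]
  fin_cases i <;> fin_cases j <;> simp [Matrix.mul_apply, Fin.sum_univ_two, add_comm]

theorem upz_zero (r : ℕ) : upz r 0 = 1 := by
  apply Matrix.SpecialLinearGroup.ext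
  intro i j
  rw [Matrix.SpecialLinearGroup.coe_one, upz_coe]
  fin_cases i <;> fin_cases j <;> simp

theorem upz_pow (r : ℕ) (n : ℕ) : upz r 1 ^ n = upz r n := by
  induction n with
  | zero => rw [pow_zero, Nat.cast_zero, upz_zero]
  | succ n ih => rw [pow_succ, ih, upz_mul]; push_cast; rfl

theorem exists_order_two_mul (r : ℕ) [hr : Fact r.Prime] (hr2 : r ≠ 2) :
    ∃ s : Matrix.SpecialLinearGroup (Fin 2) (ZMod r), orderOf s = 2 * r := by
  have h1 : orderOf (upz r 1) = r := by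
    apply orderOf_eq_prime
    · rw [upz_pow, ZMod.natCast_self, upz_zero]
    · intro h
      have := congrArg (fun M : Matrix.SpecialLinearGroup (Fin 2) (ZMod r) => M.1 0 1) h
      simp [upz] at this
  have hne : (-1 : Matrix.SpecialLinearGroup (Fin 2) (ZMod r)) ≠ 1 := by
    intro h
    have h3 := congrArg (fun M : Matrix.SpecialLinearGroup (Fin 2) (ZMod r) => M.1 0 0) h
    have h4 : (-1 : ZMod r) = 1 := by simpa using h3
    have h5 : ((2 : ℕ) : ZMod r) = 0 := by
      have : (2 : ZMod r) = 1 - (-1) := by ring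
      rw [Nat.cast_ofNat, this, h4, sub_self]
    rw [ZMod.natCast_eq_zero_iff] at h5
    exact hr2 ((Nat.prime_dvd_prime_iff_eq hr.out Nat.prime_two).1 h5)
  have h2 : orderOf (-1 : Matrix.SpecialLinearGroup (Fin 2) (ZMod r)) = 2 := by
    apply orderOf_eq_prime _ hne
    simp
  refine ⟨-1 * upz r 1, ?_⟩
  have hc : Commute (-1 : Matrix.SpecialLinearGroup (Fin 2) (ZMod r)) (upz r 1) := by
    show -1 * upz r 1 = upz r 1 * -1
    simp
  rw [hc.orderOf_mul_eq_mul_orderOf_of_coprime, h1, h2]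
  rw [h1, h2]
  exact (Nat.coprime_primes Nat.prime_two hr.out).2 hr2.symm

section abs

variable {Q : Type*} [Group Q] [Finite Q] {r : ℕ} [hr : Fact r.Prime] {q : ℕ}

theorem no_sl_two (hr2 : r ≠ 2) (hq : ∃ f, q = r ^ f)
    (hcardC : ∀ x : Q, x ≠ 1 → (∃ k, orderOf x = r ^ k) →
      Nat.card (Subgroup.centralizer ({x} : Set Q)) = q) :
    ¬ ∃ (H K : Subgroup Q) (hK : (K.subgroupOf H).Normal),
      Nonempty ((H ⧸ K.subgroupOf H) ≃* Matrix.SpecialLinearGroup (Fin 2) (ZMod r)) := by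
  rintro ⟨H, K, hK, ⟨e⟩⟩
  obtain ⟨s, hs⟩ := exists_order_two_mul r hr2
  obtain ⟨x, hx⟩ := QuotientGroup.mk_surjective (e.symm s)
  have h1 : orderOf (QuotientGroup.mk x : H ⧸ K.subgroupOf H) = 2 * r := by
    rw [hx, ← hs]
    exact orderOf_injective e.symm.toMonoidHom e.symm.injective s
  have h2 : 2 * r ∣ orderOf x := by
    rw [← h1]
    exact orderOf_map_dvd (QuotientGroup.mk' (K.subgroupOf H)) x
  have h3 : 2 * r ∣ orderOf (x : Q) := by rwa [Subgroup.orderOf_coe]
  obtain ⟨m, hm⟩ := h3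
  have hpos : 0 < orderOf (x : Q) := orderOf_pos _
  have hm0 : m ≠ 0 := by
    rintro rfl
    rw [mul_zero] at hm
    omega
  have hr0 : 0 < r := hr.out.pos
  set y := (x : Q) ^ (2 * m) with hy
  set t := (x : Q) ^ (r * m) with ht
  have hyo : orderOf y = r := by
    rw [hy, orderOf_pow' _ (by omega), hm]
    have : Nat.gcd (2 * r * m) (2 * m) = 2 * m := by
      rw [Nat.gcd_eq_right]
      exact ⟨r, by ring⟩
    rw [this]
    have e1 : 2 * r * m = r * (2 * m) := by ring
    rw [e1, Nat.mul_div_cancel _ (by omega)]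
  have hto : orderOf t = 2 := by
    rw [ht, orderOf_pow' _ (by positivity), hm]
    have : Nat.gcd (2 * r * m) (r * m) = r * m := by
      rw [Nat.gcd_eq_right]
      exact ⟨2, by ring⟩
    rw [this]
    have e1 : 2 * r * m = 2 * (r * m) := by ring
    rw [e1, Nat.mul_div_cancel _ (by positivity)]
  have hy1 : y ≠ 1 := by
    rw [Ne, ← orderOf_eq_one_iff, hyo]
    exact hr.out.one_lt.ne'
  have hc := hcardC y hy1 ⟨1, by rw [hyo, pow_one]⟩
  have htC : t ∈ Subgroup.centralizer ({y} : Set Q) := by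
    rw [mem_C, ht, hy]
    exact ((Commute.refl (x : Q)).pow_pow _ _).eq
  have h4 : orderOf (⟨t, htC⟩ : Subgroup.centralizer ({y} : Set Q)) ∣ q := by
    rw [← hc]
    exact _root_.orderOf_dvd_natCard _
  rw [Subgroup.orderOf_mk, hto] at h4
  obtain ⟨f, rfl⟩ := hq
  have := Nat.prime_two.dvd_of_dvd_pow h4
  exact hr2 ((Nat.prime_dvd_prime_iff_eq Nat.prime_two hr.out).1 this).symm

theorem orderOf_of_mem_sylow (P : Sylow r Q) {x : Q} (hx : x ∈ (P : Subgroup Q)) :
    ∃ k, orderOf x = r ^ k := by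
  obtain ⟨k, hk⟩ := (IsPGroup.iff_orderOf.1 P.2) ⟨x, hx⟩
  exact ⟨k, by rw [← hk, Subgroup.orderOf_mk]⟩

/-- The Sylow `r`-subgroups are abelian. -/
theorem sylow_comm (hr2 : r ≠ 2) (hq : ∃ f, q = r ^ f) (hq1 : 1 < q)
    (hqfac : r ^ (Nat.card Q).factorization r = q)
    (hcardC : ∀ x : Q, x ≠ 1 → (∃ k, orderOf x = r ^ k) →
      Nat.card (Subgroup.centralizer ({x} : Set Q)) = q) (P : Sylow r Q) :
    ∀ x ∈ (P : Subgroup Q), ∀ y ∈ (P : Subgroup Q), x * y = y * x := by
  have hPcard : Nat.card (P : Subgroup Q) = q := by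
    have := P.card_eq_multiplicity
    rw [hqfac] at this
    exact this
  have hfree := no_sl_two hr2 hq hcardC
  -- the centraliser of a nontrivial r-element is a Sylow subgroup
  have hCeq : ∀ (R : Sylow r Q) (x : Q), x ≠ 1 → (∃ k, orderOf x = r ^ k) →
      (R : Subgroup Q) ≤ Subgroup.centralizer ({x} : Set Q) →
      Subgroup.centralizer ({x} : Set Q) = R := by
    intro R x hx hk hle
    symm
    apply Subgroup.eq_of_le_of_card_ge hle
    rw [hcardC x hx hk]
    have := R.card_eq_multiplicity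
    rw [hqfac] at this
    exact this.ge
  have hCsyl : ∀ x : Q, x ≠ 1 → (∃ k, orderOf x = r ^ k) →
      ∃ g : Q, Subgroup.centralizer ({x} : Set Q) = ((g • P : Sylow r Q) : Subgroup Q) := by
    intro x hx hk
    have h1 : IsPGroup r (Subgroup.centralizer ({x} : Set Q)) := by
      obtain ⟨f, hf⟩ := hq
      exact IsPGroup.of_card (n := f) (by rw [hcardC x hx hk, hf])
    obtain ⟨R, hR⟩ := h1.exists_le_sylow
    obtain ⟨g, hg⟩ := MulAction.exists_smul_eq Q P R
    refine ⟨g, ?_⟩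
    rw [hg]
    apply Subgroup.eq_of_le_of_card_ge hR
    rw [hcardC x hx hk]
    have := R.card_eq_multiplicity
    rw [hqfac] at this
    exact this.le
  set Z := Cfsg.centerThompsonOf r (P : Subgroup Q) with hZ
  have hPbot : (P : Subgroup Q) ≠ ⊥ := by
    intro h0
    rw [h0, Subgroup.card_bot] at hPcard
    omega
  have hZbot : Z ≠ ⊥ := Cfsg.Agent.S0118.centerThompsonOf_ne_bot P.2 hPbot
  have hZP : Z ≤ P := Cfsg.Agent.PLocal.ZJElem.centerThompsonOf_le r _
  -- every element of P is centralised by Z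
  have key : ∀ v ∈ (P : Subgroup Q), v ≠ 1 → ∃ n ∈ Subgroup.normalizer (Z : Set Q),
      Subgroup.centralizer ({n⁻¹ * v * n} : Set Q) = P := by
    intro v hv hv1
    obtain ⟨g, hg⟩ := hCsyl v hv1 (orderOf_of_mem_sylow P hv)
    have hmem : g⁻¹ * v * g ∈ (P : Subgroup Q) := by
      have h1 : v ∈ ((g • P : Sylow r Q) : Subgroup Q) := by
        rw [← hg, mem_C]
      rw [Sylow.coe_subgroup_smul, Subgroup.mem_pointwise_smul_iff_inv_smul_mem] at h1
      simpa [MulAut.smul_def, mul_assoc] using h1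
    have hCg : Subgroup.centralizer ({g⁻¹ * v * g} : Set Q) = P := by
      apply hCeq P
      · intro h0
        apply hv1
        have : v = g * (g⁻¹ * v * g) * g⁻¹ := by group
        rw [this, h0]; group
      · exact orderOf_of_mem_sylow P hmem
      · intro y hy
        have h1 : g * y * g⁻¹ ∈ ((g • P : Sylow r Q) : Subgroup Q) := by
          rw [Sylow.coe_subgroup_smul, Subgroup.mem_pointwise_smul_iff_inv_smul_mem]
          simpa [MulAut.smul_def, mul_assoc] using hy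
        rw [← hg, mem_C] at h1
        rw [mem_C]
        calc y * (g⁻¹ * v * g) = g⁻¹ * ((g * y * g⁻¹) * v) * g := by group
          _ = g⁻¹ * (v * (g * y * g⁻¹)) * g := by rw [h1]
          _ = _ := by group
    obtain ⟨n, hn, hnv⟩ := Cfsg.Agent.S0118.result hr2 hfree P {v}
      (Set.singleton_subset_iff.2 hv) g (by
        rintro _ ⟨a, ha, rfl⟩
        rw [Set.mem_singleton_iff.1 ha]
        exact hmem)
    refine ⟨n, hn, ?_⟩
    rw [hnv v rfl, hCg]
  have hZcent : ∀ v ∈ (P : Subgroup Q), ∀ w ∈ Z, v * w = w * v := by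
    intro v hv w hw
    by_cases hv1 : v = 1
    · rw [hv1, one_mul, mul_one]
    obtain ⟨n, hn, hC⟩ := key v hv hv1
    have hnw : n⁻¹ * w * n ∈ Z := by
      have := (Subgroup.mem_normalizer_iff.1 (inv_mem hn) w).1 hw
      simpa using this
    have h1 : n⁻¹ * w * n ∈ Subgroup.centralizer ({n⁻¹ * v * n} : Set Q) := by
      rw [hC]
      exact hZP hnw
    rw [mem_C] at h1
    calc v * w = n * ((n⁻¹ * v * n) * (n⁻¹ * w * n)) * n⁻¹ := by group
      _ = n * ((n⁻¹ * w * n) * (n⁻¹ * v * n)) * n⁻¹ := by rw [h1]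
      _ = w * v := by group
  -- a nontrivial element of Z
  obtain ⟨⟨w, hw⟩, hw1⟩ := Subgroup.ne_bot_iff_exists_ne_one.1 hZbot
  have hw1' : w ≠ 1 := fun h0 => hw1 (Subtype.ext h0)
  have hCZ : ∀ z ∈ Z, z ≠ 1 → Subgroup.centralizer ({z} : Set Q) = P := by
    intro z hz hz1
    apply hCeq P z hz1 (orderOf_of_mem_sylow P (hZP hz))
    intro y hy
    rw [mem_C]
    exact hZcent y hy z hz
  -- N(Z) normalises P
  have hnP : ∀ n ∈ Subgroup.normalizer (Z : Set Q), ∀ y, y ∈ (P : Subgroup Q) ↔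
      n⁻¹ * y * n ∈ (P : Subgroup Q) := by
    intro n hn y
    have hnw : n * w * n⁻¹ ∈ Z := (Subgroup.mem_normalizer_iff.1 hn w).1 hw
    have hnw1 : n * w * n⁻¹ ≠ 1 := fun h0 => hw1' (conj_eq_one_iff.1 h0)
    rw [← hCZ _ hnw hnw1]
    conv_rhs => rw [hCZ _ hnw hnw1, ← hCZ w hw hw1']
    rw [mem_C, mem_C]
    constructor
    · intro h1
      calc n⁻¹ * y * n * w = n⁻¹ * (y * (n * w * n⁻¹)) * n := by group
        _ = n⁻¹ * ((n * w * n⁻¹) * y) * n := by rw [h1]
        _ = _ := by group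
    · intro h1
      calc y * (n * w * n⁻¹) = n * ((n⁻¹ * y * n) * w) * n⁻¹ := by group
        _ = n * (w * (n⁻¹ * y * n)) * n⁻¹ := by rw [h1]
        _ = _ := by group
  intro x hx y hy
  by_cases hx1 : x = 1
  · rw [hx1, one_mul, mul_one]
  obtain ⟨n, hn, hC⟩ := key x hx hx1
  have h1 : n⁻¹ * y * n ∈ Subgroup.centralizer ({n⁻¹ * x * n} : Set Q) := by
    rw [hC]
    exact (hnP n hn y).1 hy
  rw [mem_C] at h1
  calc x * y = n * ((n⁻¹ * x * n) * (n⁻¹ * y * n)) * n⁻¹ := by group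
    _ = n * ((n⁻¹ * y * n) * (n⁻¹ * x * n)) * n⁻¹ := by rw [h1]
    _ = y * x := by group

end abs

end Cfsg.Agent.H402
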