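import Cfsg.Agent.H402.CsTypes

/-!
# Groups with the class sizes of `PSL(2, q)`: centralisers in `G / Z(G)`
-/

set_option autoImplicit false
set_option linter.unusedSectionVars false

namespace Cfsg.Agent.H402

open Subgroup

section general

variable {G : Type*} [Group G]

theorem mem_of_pow_mem_of_coprime {H : Subgroup G} {g : G} {m n : ℕ} (hmn : m.Coprime n)
    (hm : g ^ m ∈ H) (hn : g ^ n ∈ H) : g ∈ H := by
  obtain ⟨u, v, huv⟩ := Nat.isCoprime_iff_coprime.2 hmn
  have : g = (g ^ m) ^ u * (g ^ n) ^ v := by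
    rw [← zpow_natCast, ← zpow_natCast, ← zpow_mul, ← zpow_mul, ← zpow_add]
    have : (m : ℤ) * u + n * v = 1 := by rw [← huv]; ring
    rw [this, zpow_one]
  rw [this]
  exact mul_mem (zpow_mem hm u) (zpow_mem hn v)

/-- The commutator relation modulo the centre. -/
theorem exists_center_of_comm_mk {g u : G}
    (hc : Commute (QuotientGroup.mk g : G ⧸ center G) (QuotientGroup.mk u)) :
    ∃ c ∈ center G, g * u * g⁻¹ = c * u := by
  refine ⟨g * u * g⁻¹ * u⁻¹, ?_, by group⟩
  rw [← QuotientGroup.eq_one_iff]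
  have h1 : (QuotientGroup.mk (g * u * g⁻¹ * u⁻¹) : G ⧸ center G) =
    QuotientGroup.mk g * QuotientGroup.mk u * (QuotientGroup.mk g)⁻¹ * (QuotientGroup.mk u)⁻¹ := rfl
  rw [h1, hc.eq]
  group

theorem conj_pow_left {g u c : G} (hc : c ∈ center G) (h : g * u * g⁻¹ = c * u) (n : ℕ) :
    g ^ n * u * (g ^ n)⁻¹ = c ^ n * u := by
  induction n with
  | zero => simp
  | succ n ih =>
    have hcn : g * c ^ n = c ^ n * g := mem_center_iff.1 (pow_mem hc n) g
    calc g ^ (n + 1) * u * (g ^ (n + 1))⁻¹ = g * (g ^ n * u * (g ^ n)⁻¹) * g⁻¹ := by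
          rw [pow_succ' g n]; group
      _ = (g * c ^ n) * u * g⁻¹ := by rw [ih]; group
      _ = c ^ n * (g * u * g⁻¹) := by rw [hcn]; group
      _ = c ^ (n + 1) * u := by rw [h, pow_succ]; group

theorem conj_pow_right {g u c : G} (hc : c ∈ center G) (h : g * u * g⁻¹ = c * u) (n : ℕ) :
    g * u ^ n * g⁻¹ = c ^ n * u ^ n := by
  have h1 : Commute c u := (mem_center_iff.1 hc u).symm
  rw [← h1.mul_pow, ← h, conj_pow]

/-- Elements of coprime orders which commute modulo the centre commute. -/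
theorem comm_of_coprime {g u : G}
    (hc : Commute (QuotientGroup.mk g : G ⧸ center G) (QuotientGroup.mk u))
    (ho : (orderOf g).Coprime (orderOf u)) : Commute g u := by
  obtain ⟨c, hcc, h⟩ := exists_center_of_comm_mk hc
  have h1 : c ^ orderOf g = 1 := by
    have := conj_pow_left hcc h (orderOf g)
    rw [pow_orderOf_eq_one] at this
    simpa using this.symm
  have h2 : c ^ orderOf u = 1 := by
    have := conj_pow_right hcc h (orderOf u)
    rw [pow_orderOf_eq_one] at this
    simpa using this.symm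
  have h3 : c = 1 := by
    have := Nat.eq_one_of_dvd_coprimes ho (orderOf_dvd_of_pow_eq_one h1)
      (orderOf_dvd_of_pow_eq_one h2)
    exact orderOf_eq_one_iff.1 this
  rw [h3, one_mul] at h
  exact mul_inv_eq_iff_eq_mul.1 h

/-- If `u` is a `p`-element with class size prime to `p` then an element commuting with `u` modulo
the centre commutes with `u`. -/
theorem comm_of_comm_mk [Finite G] {p : ℕ} [hp : Fact p.Prime] {g u : G}
    (hu : ∃ k, orderOf u = p ^ k) (hix : ¬ p ∣ ix u)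
    (hc : Commute (QuotientGroup.mk g : G ⧸ center G) (QuotientGroup.mk u)) : Commute g u := by
  set N : Subgroup G := (Subgroup.centralizer ({(QuotientGroup.mk u : G ⧸ center G)} :
    Set (G ⧸ center G))).comap (QuotientGroup.mk' (center G)) with hN
  have hmemN : ∀ x : G, x ∈ N ↔ Commute (QuotientGroup.mk x : G ⧸ center G) (QuotientGroup.mk u) := by
    intro x
    rw [hN, mem_comap, mem_C]
    rfl
  have hCN : Subgroup.centralizer ({u} : Set G) ≤ N := by
    intro x hx
    rw [hmemN]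
    have := mem_C.1 hx
    show (QuotientGroup.mk (x * u) : G ⧸ center G) = QuotientGroup.mk (u * x)
    rw [this]
  have hnorm : ((Subgroup.centralizer ({u} : Set G)).subgroupOf N).Normal := by
    refine ⟨fun x hx n => ?_⟩
    rw [mem_subgroupOf, mem_C] at hx ⊢
    have hn : Commute (QuotientGroup.mk (n : G)⁻¹ : G ⧸ center G) (QuotientGroup.mk u) := by
      have := (hmemN n).1 n.2
      exact this.inv_left
    obtain ⟨c, hcc, h1⟩ := exists_center_of_comm_mk hn
    have hcx := mem_center_iff.1 hcc (x : G)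
    have h2 : (n : G)⁻¹ * u * n = c * u := by simpa using h1
    have h3 : (x : G) * ((n : G)⁻¹ * u * n) = ((n : G)⁻¹ * u * n) * x := by
      rw [h2, ← mul_assoc, hcx, mul_assoc, hx, mul_assoc]
    calc ((n * x * n⁻¹ : N) : G) * u = (n : G) * (x * ((n : G)⁻¹ * u * n)) * (n : G)⁻¹ := by
          push_cast; group
      _ = (n : G) * (((n : G)⁻¹ * u * n) * x) * (n : G)⁻¹ := by rw [h3]
      _ = _ := by push_cast; group
  have hg : g ∈ N := (hmemN g).2 hc
  obtain ⟨c, hcc, h⟩ := exists_center_of_comm_mk hc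
  obtain ⟨k, hk⟩ := hu
  have h1 : g ^ (p ^ k) ∈ Subgroup.centralizer ({u} : Set G) := by
    have h2 : c ^ orderOf u = 1 := by
      have := conj_pow_right hcc h (orderOf u)
      rw [pow_orderOf_eq_one] at this
      simpa using this.symm
    have h3 := conj_pow_left hcc h (p ^ k)
    rw [← hk, h2, one_mul, hk] at h3
    rw [mem_C]
    exact mul_inv_eq_iff_eq_mul.1 h3
  have h2 : g ^ ((Subgroup.centralizer ({u} : Set G)).subgroupOf N).index ∈
      Subgroup.centralizer ({u} : Set G) := by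
    have := Subgroup.pow_index_mem ((Subgroup.centralizer ({u} : Set G)).subgroupOf N) ⟨g, hg⟩
    rw [mem_subgroupOf] at this
    exact this
  have h3 : ¬ p ∣ ((Subgroup.centralizer ({u} : Set G)).subgroupOf N).index := by
    intro h4
    apply hix
    rw [ix, ← Subgroup.relIndex_mul_index hCN]
    exact h4.mul_right _
  have h4 := mem_of_pow_mem_of_coprime
    (Nat.Coprime.pow_left k ((Nat.Prime.coprime_iff_not_dvd hp.out).2 h3)) h1 h2
  exact mem_C.1 h4

/-- Every `p`-element of `G / Z(G)` lifts to a `p`-element. -/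
theorem exists_lift [Finite G] {p : ℕ} (hp : p.Prime) {x : G ⧸ center G}
    (hx : ∃ k, orderOf x = p ^ k) :
    ∃ g : G, (QuotientGroup.mk g : G ⧸ center G) = x ∧ ∃ k, orderOf g = p ^ k := by
  obtain ⟨g, rfl⟩ := QuotientGroup.mk_surjective x
  obtain ⟨s, t, hs, ht, hst, hcst, hk, htp, hcop⟩ := exists_decomp g hp
  refine ⟨s, ?_, hk⟩
  obtain ⟨k, hk⟩ := hx
  have h1 : (QuotientGroup.mk t : G ⧸ center G) = 1 := by
    rw [← orderOf_eq_one_iff]
    apply Nat.eq_one_of_dvd_coprimes (htp.pow_right k)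
    · exact orderOf_map_dvd (QuotientGroup.mk' (center G)) t
    · rw [← hk]
      obtain ⟨m, rfl⟩ := mem_zpowers_iff.1 ht
      exact orderOf_dvd_of_mem_zpowers (mem_zpowers_iff.2 ⟨m, rfl⟩)
  rw [← hst]
  show _ = (QuotientGroup.mk s * QuotientGroup.mk t : G ⧸ center G)
  rw [h1, mul_one]

theorem ix_mk_of_comm [Finite G] {u : G}
    (h : ∀ g : G, Commute (QuotientGroup.mk g : G ⧸ center G) (QuotientGroup.mk u) → Commute g u) :
    ix (QuotientGroup.mk u : G ⧸ center G) = ix u := by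
  have h1 : Subgroup.centralizer ({(QuotientGroup.mk u : G ⧸ center G)} : Set (G ⧸ center G)) =
      (Subgroup.centralizer ({u} : Set G)).map (QuotientGroup.mk' (center G)) := by
    ext x
    obtain ⟨g, rfl⟩ := QuotientGroup.mk_surjective x
    rw [mem_C, mem_map]
    constructor
    · intro hx
      exact ⟨g, mem_C.2 (h g hx).eq, rfl⟩
    · rintro ⟨y, hy, hyx⟩
      rw [← hyx]
      show (QuotientGroup.mk (y * u) : G ⧸ center G) = QuotientGroup.mk (u * y)
      rw [mem_C.1 hy]
  rw [ix, h1, ix]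
  apply Subgroup.index_map_eq _ (QuotientGroup.mk'_surjective _)
  rw [QuotientGroup.ker_mk']
  exact center_le_C u

end general

namespace Hyp

variable {G : Type*} [Group G] [Finite G] {q d a b r : ℕ} (h : Hyp G q d a b r)

include h

theorem card_Q : Nat.card (G ⧸ center G) = q * d * a * b := h.index_center

theorem mk_ne_one {u : G} : (QuotientGroup.mk u : G ⧸ center G) ≠ 1 ↔ u ∉ center G := by
  rw [Ne, QuotientGroup.eq_one_iff]

/-- The `r`-elements. -/
theorem ix_r {u : G} (hu : u ∉ center G) (hk : ∃ k, orderOf u = r ^ k) : ix u = d * a * b := by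
  have h1 := h.ty_pElement h.hr (((h.dvd_q_iff h.hr).2 rfl).mul_right a |>.mul_right b) hu hk
  rw [tyP, if_pos ((h.dvd_q_iff h.hr).2 rfl), ty] at h1
  split_ifs at h1 with h2 h3
  exact h2

theorem r_not_dvd : ¬ r ∣ d * a * b := by
  intro h1
  have hr := (h.dvd_q_iff h.hr).2 rfl
  rcases h.hr.dvd_mul.1 h1 with h2 | h2
  · rcases h.hr.dvd_mul.1 h2 with h3 | h3
    · exact h.not_dvd_of_coprime h.coprime_qd h.hr hr h3
    · exact h.not_dvd_of_coprime h.hqa h.hr hr h3
  · exact h.not_dvd_of_coprime h.hqb h.hr hr h2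

theorem ixQ_r {x : G ⧸ center G} (hx : x ≠ 1) (hk : ∃ k, orderOf x = r ^ k) :
    ix x = d * a * b := by
  have : Fact r.Prime := ⟨h.hr⟩
  obtain ⟨u, rfl, hu⟩ := exists_lift h.hr hk
  have huc := h.mk_ne_one.1 hx
  have h1 := h.ix_r huc hu
  rw [ix_mk_of_comm, h1]
  intro g hg
  exact comm_of_comm_mk hu (by rw [h1]; exact h.r_not_dvd) hg

theorem cardC_r {x : G ⧸ center G} (hx : x ≠ 1) (hk : ∃ k, orderOf x = r ^ k) :
    Nat.card (Subgroup.centralizer ({x} : Set (G ⧸ center G))) = q := by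
  have h1 := (Subgroup.centralizer ({x} : Set (G ⧸ center G))).card_mul_index
  have h2 : (Subgroup.centralizer ({x} : Set (G ⧸ center G))).index = d * a * b := h.ixQ_r hx hk
  rw [h2, h.card_Q] at h1
  have h3 : q * d * a * b = q * (d * a * b) := by ring
  rw [h3] at h1
  have ha := h.ha
  have hb := h.hb
  have hd := h.d_pos
  exact Nat.eq_of_mul_eq_mul_right (by positivity) h1

/-- Nontrivial elements of different types do not commute in `G / Z(G)`. -/
theorem no_comm {p s : ℕ} (hp : p.Prime) (hs : s.Prime) (hps : p ≠ s) (hpd : p ∣ q * a * b)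
    (hsd : s ∣ q * a * b) (hty : tyP q b p ≠ tyP q b s) {x y : G ⧸ center G} (hx : x ≠ 1)
    (hy : y ≠ 1) (hxk : ∃ k, orderOf x = p ^ k) (hyk : ∃ k, orderOf y = s ^ k) :
    ¬ Commute x y := by
  intro hc
  obtain ⟨u, rfl, hu⟩ := exists_lift hp hxk
  obtain ⟨v, rfl, hv⟩ := exists_lift hs hyk
  have huc := h.mk_ne_one.1 hx
  have hvc := h.mk_ne_one.1 hy
  have hcop : (orderOf u).Coprime (orderOf v) := by
    obtain ⟨k, hk⟩ := hu
    obtain ⟨l, hl⟩ := hv
    rw [hk, hl]
    exact Nat.Coprime.pow k l ((Nat.coprime_primes hp hs).2 hps)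
  have h1 := h.ty_comm huc hvc (comm_of_coprime hc hcop) hcop
  rw [h.ty_pElement hp hpd huc hu, h.ty_pElement hs hsd hvc hv] at h1
  exact hty h1

theorem not_dvd_cardC {p s : ℕ} (hp : p.Prime) (hs : s.Prime) (hps : p ≠ s) (hpd : p ∣ q * a * b)
    (hsd : s ∣ q * a * b) (hty : tyP q b p ≠ tyP q b s) {x : G ⧸ center G} (hx : x ≠ 1)
    (hxk : ∃ k, orderOf x = p ^ k) :
    ¬ s ∣ Nat.card (Subgroup.centralizer ({x} : Set (G ⧸ center G))) := by
  intro hdvd
  have : Fact s.Prime := ⟨hs⟩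
  obtain ⟨y, hy⟩ := exists_prime_orderOf_dvd_card' s hdvd
  have hy1 : (y : G ⧸ center G) ≠ 1 := by
    intro h0
    have : y = 1 := Subtype.ext h0
    rw [this, orderOf_one] at hy
    exact hs.one_lt.ne hy
  apply h.no_comm hp hs hps hpd hsd hty hx hy1 hxk ⟨1, by rw [Subgroup.orderOf_coe, hy, pow_one]⟩
  exact (mem_C.1 y.2).symm

theorem exists_other {p : ℕ} (hp : p.Prime) (hpr : p ≠ r) (hpd : p ∣ a * b) :
    ∃ s, s.Prime ∧ s ≠ r ∧ s ∣ a * b ∧ s ≠ p ∧ tyP q b p ≠ tyP q b s := by
  have ha := h.ha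
  have hb := h.hb
  rcases hp.dvd_mul.1 hpd with h1 | h1
  · obtain ⟨s, hs, hsb⟩ := Nat.exists_prime_and_dvd (show b ≠ 1 by omega)
    refine ⟨s, hs, ?_, hsb.mul_left a, ?_, ?_⟩
    · rintro rfl
      exact h.not_dvd_of_coprime h.hqb.symm hs hsb ((h.dvd_q_iff hs).2 rfl)
    · rintro rfl
      exact h.not_dvd_of_coprime h.hab hp h1 hsb
    · rw [tyP, tyP, if_neg (h.not_dvd_of_coprime h.hqa.symm hp h1),
        if_neg (h.not_dvd_of_coprime h.hab hp h1), if_neg (h.not_dvd_of_coprime h.hqb.symm hs hsb),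
        if_pos hsb]
      norm_num
  · obtain ⟨s, hs, hsa⟩ := Nat.exists_prime_and_dvd (show a ≠ 1 by omega)
    refine ⟨s, hs, ?_, hsa.mul_right b, ?_, ?_⟩
    · rintro rfl
      exact h.not_dvd_of_coprime h.hqa.symm hs hsa ((h.dvd_q_iff hs).2 rfl)
    · rintro rfl
      exact h.not_dvd_of_coprime h.hab hp hsa h1
    · rw [tyP, tyP, if_neg (h.not_dvd_of_coprime h.hqb.symm hp h1), if_pos h1,
        if_neg (h.not_dvd_of_coprime h.hqa.symm hs hsa),
        if_neg (h.not_dvd_of_coprime h.hab hs hsa)]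
      norm_num

/-- `q` divides the class size (in `G / Z(G)`) of a nontrivial `p`-element, `p ≠ r`, and so does
some other prime. -/
theorem lt_ixQ {p : ℕ} (hp : p.Prime) (hpr : p ≠ r) {x : G ⧸ center G} (hx : x ≠ 1)
    (hxk : ∃ k, orderOf x = p ^ k) : q ∣ ix x ∧ 2 * q ≤ ix x := by
  have hcard := (Subgroup.centralizer ({x} : Set (G ⧸ center G))).card_mul_index
  rw [h.card_Q] at hcard
  have hq := h.q_gt
  -- p divides a b
  have hpQ : p ∣ q * d * a * b := by
    rw [← h.card_Q]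
    obtain ⟨k, hk⟩ := hxk
    have hk0 : k ≠ 0 := by
      rintro rfl
      rw [pow_zero, orderOf_eq_one_iff] at hk
      exact hx hk
    exact (dvd_pow_self p hk0).trans (hk ▸ orderOf_dvd_natCard x)
  have hpq : ¬ p ∣ q := fun h1 => hpr ((h.dvd_q_iff hp).1 h1)
  have hpab : p ∣ a * b := by
    rcases hp.dvd_mul.1 hpQ with h1 | h1
    · rcases hp.dvd_mul.1 h1 with h1 | h1
      · rcases hp.dvd_mul.1 h1 with h1 | h1
        · exact absurd h1 hpq
        · rcases h.hd with ⟨rfl, -⟩ | ⟨rfl, -, he⟩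
          · exact absurd (Nat.dvd_one.1 h1) hp.one_lt.ne'
          · exact (h1.trans (even_iff_two_dvd.1 he)).mul_right b
      · exact h1.mul_right b
    · exact h1.mul_left a
  have hpqab : p ∣ q * a * b := by rw [mul_assoc]; exact hpab.mul_left q
  have hrq := (h.dvd_q_iff h.hr).2 rfl
  have hrqab : r ∣ q * a * b := (hrq.mul_right a).mul_right b
  have htr : tyP q b p ≠ tyP q b r := by
    rw [tyP, tyP, if_neg hpq, if_pos hrq]
    split_ifs <;> norm_num
  have h1 := h.not_dvd_cardC hp h.hr hpr hpqab hrqab htr hx hxk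
  have h2 : q ∣ ix x := by
    obtain ⟨f, hf, hqf⟩ := h.hq
    have : q.Coprime (Nat.card (Subgroup.centralizer ({x} : Set (G ⧸ center G)))) := by
      rw [hqf]
      exact Nat.Coprime.pow_left f ((Nat.Prime.coprime_iff_not_dvd h.hr).2 h1)
    apply this.dvd_of_dvd_mul_left
    show q ∣ _ * (Subgroup.centralizer ({x} : Set (G ⧸ center G))).index
    rw [hcard]
    exact ⟨d * a * b, by ring⟩
  refine ⟨h2, ?_⟩
  obtain ⟨s, hs, hsr, hsab, hsp, hts⟩ := h.exists_other hp hpr hpab
  have hsqab : s ∣ q * a * b := by rw [mul_assoc]; exact hsab.mul_left q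
  have h3 := h.not_dvd_cardC hp hs hsp.symm hpqab hsqab hts hx hxk
  have h4 : s ∣ ix x := by
    have : s.Coprime (Nat.card (Subgroup.centralizer ({x} : Set (G ⧸ center G)))) :=
      (Nat.Prime.coprime_iff_not_dvd hs).2 h3
    apply this.dvd_of_dvd_mul_left
    show s ∣ _ * (Subgroup.centralizer ({x} : Set (G ⧸ center G))).index
    rw [hcard]
    exact hsqab.trans ⟨d, by ring⟩
  have h5 : s.Coprime q := by
    rw [Nat.Prime.coprime_iff_not_dvd hs]
    intro h6
    exact hsr ((h.dvd_q_iff hs).1 h6)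
  have h6 : s * q ∣ ix x := h5.mul_dvd_of_dvd_of_dvd h4 h2
  have h7 := Nat.le_of_dvd (Nat.pos_of_ne_zero (ix_ne_zero x)) h6
  have h8 := hs.two_le
  nlinarith

end Hyp

end Cfsg.Agent.H402
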