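import Cfsg.Agent.H402.CsZass
import Cfsg.Agent.LieClassical.FieldTransfer

/-!
# Groups with the class sizes of `PSL(2, q)`: `G / Z(G) ≅ PSL(2, q)`
-/

set_option autoImplicit false
set_option linter.unusedSectionVars false

namespace Cfsg.Agent.H402

open Subgroup

namespace ZHyp

theorem exists_psl {Q : Type*} [Group Q] [Finite Q] {q r : ℕ} (h : ZHyp Q q r) :
    ∃ (K : Type) (_ : Field K) (_ : Fintype K), Fintype.card K = q ∧
      Nonempty (Q ≃* Matrix.ProjectiveSpecialLinearGroup (Fin 2) K) := by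
  classical
  have : Fact r.Prime := ⟨h.prime⟩
  have hq7 := h.seven
  obtain ⟨P⟩ : Nonempty (Sylow r Q) := inferInstance
  have hn := (h.numbers P).2
  have hcardQ := h.card
  have hq2 : q ^ 2 - 1 = (q + 1) * (q - 1) := by
    have := Nat.sq_sub_sq q 1
    rw [one_pow] at this
    exact this
  have hmain := Cfsg.Agent.S0731.result h.isZassenhaus P (P : Subgroup Q) (by
      intro x hx
      exact MulAction.mem_stabilizer_iff.2 (h.smul_self hx)) (by
      refine ⟨fun x hx g => ?_⟩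
      rw [mem_subgroupOf] at hx ⊢
      have h1 : (g : Q) ∈ Subgroup.normalizer ((P : Subgroup Q) : Set Q) :=
        Sylow.smul_eq_iff_mem_normalizer.1 (MulAction.mem_stabilizer_iff.1 g.2)
      exact (Subgroup.mem_normalizer_iff.1 h1 x).1 hx)
    ⟨⟨fun x y => Subtype.ext (h.comm P x x.2 y y.2)⟩⟩ (by
      intro y z hy hz
      obtain ⟨x, hx, hxy, hu⟩ := h.exists_unique P hy hz
      refine ⟨⟨x, hx⟩, hxy, fun w hw => Subtype.ext (hu w w.2 hw)⟩)
  rcases hmain with ⟨h3, hst⟩ | ⟨K, hK1, hK2, hK3, ⟨e⟩⟩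
  · exfalso
    -- sharply 3-transitive: order (q + 1) q (q - 1)
    have h1 : 2 < Nat.card (Sylow r Q) := by omega
    have := Fintype.ofFinite (Sylow r Q)
    have h1' : 3 ≤ Fintype.card (Sylow r Q) := by
      rw [← Nat.card_eq_fintype_card]; omega
    obtain ⟨t⟩ : Nonempty (Fin 3 ↪ Sylow r Q) := by
      apply Function.Embedding.nonempty_of_card_le
      rw [Fintype.card_fin]
      exact h1'
    have : MulAction.IsPretransitive Q (Fin 3 ↪ Sylow r Q) := h3
    have h4 := MulAction.index_stabilizer_of_transitive Q t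
    rw [hst t, Subgroup.index_bot, Nat.card_eq_fintype_card (α := Fin 3 ↪ Sylow r Q),
      Fintype.card_embedding_eq, Fintype.card_fin, ← Nat.card_eq_fintype_card, hn] at h4
    have h5 : (q + 1).descFactorial 3 = (q + 1) * (q * (q - 1)) := by
      simp only [Nat.descFactorial_succ, Nat.descFactorial_zero, mul_one, Nat.sub_zero]
      have : q + 1 - 2 = q - 1 := by omega
      have h6 : q + 1 - 1 = q := by omega
      rw [this, h6]
      ring
    rw [h5] at h4
    rw [h4, hq2] at hcardQ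
    have h7 : 0 < (q + 1) * (q * (q - 1)) :=
      Nat.mul_pos (by omega) (Nat.mul_pos (by omega) (by omega))
    have h8 : q * ((q + 1) * (q - 1)) = (q + 1) * (q * (q - 1)) := by ring
    omega
  · refine ⟨K, hK1, hK2, ?_, ⟨e⟩⟩
    have hKodd : Odd (Fintype.card K) := by
      have h1 : (2 : K) ≠ 0 := Ring.two_ne_zero hK3
      exact (Cfsg.Agent.ClassicalGeometry.PSL2Basic.two_ne_zero_iff_odd K).1 h1
    have h1 := Cfsg.Agent.ClassicalGeometry.PSL2Basic.card_PSL2_odd K hKodd
    rw [← Nat.card_congr e.toEquiv] at h1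
    have h2 : q * (q ^ 2 - 1) = Fintype.card K * (Fintype.card K ^ 2 - 1) := by
      rw [← hcardQ, ← h1]; ring
    have hK1' : 1 ≤ Fintype.card K := Fintype.card_pos
    rcases lt_trichotomy (Fintype.card K) q with h3 | h3 | h3
    · exfalso
      have h4 : Fintype.card K ^ 2 - 1 ≤ q ^ 2 - 1 :=
        Nat.sub_le_sub_right (Nat.pow_le_pow_left h3.le 2) 1
      have h5 : 0 < q ^ 2 - 1 := by
        rw [hq2]; exact Nat.mul_pos (by omega) (by omega)
      have h6 : Fintype.card K * (Fintype.card K ^ 2 - 1) < q * (q ^ 2 - 1) :=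
        Nat.mul_lt_mul_of_lt_of_le h3 h4 h5
      omega
    · exact h3
    · exfalso
      have h4 : q ^ 2 - 1 ≤ Fintype.card K ^ 2 - 1 :=
        Nat.sub_le_sub_right (Nat.pow_le_pow_left h3.le 2) 1
      have h5 : 0 < Fintype.card K ^ 2 - 1 := by
        have : 1 < Fintype.card K ^ 2 := Nat.one_lt_pow (by norm_num) (by omega)
        omega
      have h6 : q * (q ^ 2 - 1) < Fintype.card K * (Fintype.card K ^ 2 - 1) :=
        Nat.mul_lt_mul_of_lt_of_le h3 h4 h5
      omega

end ZHyp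

namespace Hyp

variable {G : Type*} [Group G] [Finite G] {q d a b r : ℕ} (h : Hyp G q d a b r)

include h

/-- All nontrivial classes of `G / Z(G)` have more than `q` elements. -/
theorem lt_ix (hlt : q < d * a * b) {x : G ⧸ center G} (hx : x ≠ 1) : q < ix x := by
  have hq1 := h.q_gt
  obtain ⟨s, t, hs, ht, hst, hcst, hk, htp, hcop⟩ := exists_decomp x h.hr
  by_cases hs1 : s = 1
  · -- t = x is an r'-element
    have htx : t = x := by rw [← hst, hs1, one_mul]
    -- a power of prime order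
    have ho : orderOf x ≠ 1 := fun h0 => hx (orderOf_eq_one_iff.1 h0)
    obtain ⟨p, hp, hpx⟩ := Nat.exists_prime_and_dvd ho
    have hpr : p ≠ r := by
      rintro rfl
      rw [htx] at htp
      have := Nat.Coprime.eq_one_of_dvd htp.symm hpx
      exact hp.one_lt.ne' this
    obtain ⟨s', t', hs', ht', hst', hcst', hk', htp', hcop'⟩ := exists_decomp x hp
    have hs1' : s' ≠ 1 := by
      rintro rfl
      rw [one_mul] at hst'
      rw [hst'] at htp'
      have := Nat.Coprime.eq_one_of_dvd htp'.symm hpx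
      exact hp.one_lt.ne' this
    have h1 := (h.lt_ixQ hp hpr hs1' hk').2
    have h2 : ix s' ∣ ix x := ix_dvd_of_le (C_le_of_mem_zpowers hs')
    have h3 := Nat.le_of_dvd (Nat.pos_of_ne_zero (ix_ne_zero x)) h2
    omega
  · have h1 := h.ixQ_r hs1 hk
    have h2 : ix s ∣ ix x := ix_dvd_of_le (C_le_of_mem_zpowers hs)
    have h3 := Nat.le_of_dvd (Nat.pos_of_ne_zero (ix_ne_zero x)) h2
    omega

theorem zhyp (hq2 : Odd q) (habq : 4 * (a * b) + 1 = q ^ 2) (hq7 : 7 ≤ q) :
    ZHyp (G ⧸ center G) q r := by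
  have hd2 : d = 2 := by
    rcases h.hd with ⟨-, h1, -⟩ | ⟨h1, -⟩
    · exact absurd h1 (Nat.not_even_iff_odd.2 hq2)
    · exact h1
  have hr2 : r ≠ 2 := by
    intro h0
    have h1 := (h.dvd_q_iff h.hr).2 rfl
    rw [h0] at h1
    exact (Nat.not_even_iff_odd.2 hq2) (even_iff_two_dvd.2 h1)
  have : Fact r.Prime := ⟨h.hr⟩
  have hfac := h.factorization_Q (rfl : r = r)
  have hsylcard : ∀ P : Sylow r (G ⧸ center G), Nat.card (P : Subgroup (G ⧸ center G)) = q := by
    intro P
    have := P.card_eq_multiplicity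
    rw [hfac] at this
    exact this
  have hqf : ∃ f, q = r ^ f := by
    obtain ⟨f, hf, hqf⟩ := h.hq
    exact ⟨f, hqf⟩
  have hcomm := fun P : Sylow r (G ⧸ center G) =>
    sylow_comm hr2 hqf h.q_gt hfac (fun x hx hk => h.cardC_r hx hk) P
  refine ⟨h.hr, hq2, hq7, ?_, ?_, hsylcard, ?_⟩
  · rw [h.card_Q, hd2]
    have h1 : q ^ 2 - 1 = 4 * (a * b) := by omega
    rw [h1]; ring
  · intro x hx
    apply h.lt_ix _ hx
    have h1 : 2 * a * b = 2 * (a * b) := by ring
    rw [hd2, h1]
    nlinarith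
  · intro P x hx hxP
    symm
    apply Subgroup.eq_of_le_of_card_ge
    · intro y hy
      rw [mem_C]
      exact hcomm P y hy x hxP
    · rw [h.cardC_r hx (orderOf_of_mem_sylow P hxP), hsylcard P]

/-- **The central quotient.** -/
theorem exists_psl (habq : d ^ 2 * (a * b) + 1 = q ^ 2) (hq : (Even q ∧ 4 ≤ q) ∨ (Odd q ∧ 7 ≤ q)) :
    ∃ (F : Type) (_ : Field F) (_ : Fintype F), Fintype.card F = q ∧
      Nonempty ((G ⧸ center G) ≃* Matrix.ProjectiveSpecialLinearGroup (Fin 2) F) := by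
  rcases hq with ⟨he, h4⟩ | ⟨ho, h7⟩
  · have hd1 := h.d_eq_one_of_even he
    rw [hd1, one_pow, one_mul] at habq
    exact h.even_case he habq h4
  · have hd2 : d = 2 := by
      rcases h.hd with ⟨-, h1, -⟩ | ⟨h1, -⟩
      · exact absurd h1 (Nat.not_even_iff_odd.2 ho)
      · exact h1
    rw [hd2] at habq
    exact (h.zhyp ho habq h7).exists_psl

theorem quot_iso (habq : d ^ 2 * (a * b) + 1 = q ^ 2) (hq : (Even q ∧ 4 ≤ q) ∨ (Odd q ∧ 7 ≤ q))
    {F : Type*} [Field F] [Fintype F] (hF : Fintype.card F = q) :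
    Nonempty ((G ⧸ center G) ≃* Matrix.ProjectiveSpecialLinearGroup (Fin 2) F) := by
  obtain ⟨K, hK1, hK2, hK3, ⟨e⟩⟩ := h.exists_psl habq hq
  have e' : K ≃+* F := FiniteField.ringEquivOfCardEq (hK3.trans hF.symm)
  exact ⟨e.trans (Cfsg.Agent.LieClassical.FieldTransfer.pslCongr e')⟩

end Hyp

end Cfsg.Agent.H402
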