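import Cfsg.Agent.H402.CsMain
import Cfsg.Agent.TwoFusion.SLTwoFacts

/-!
# Groups with the class sizes of `PSL(2, F)`: splitting off the centre
-/

set_option autoImplicit false
set_option linter.unusedSectionVars false

namespace Cfsg.Agent.H402

open Subgroup PSL2Cls
open scoped commutatorElement

/-! ### A group with an abelian subgroup of index at most two -/

section abs

variable {P : Type*} [Group P]

/-- If `A` is an abelian subgroup of index at most two and `s ∉ A` then the commutator subgroup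
consists of the commutators `⁅c, s⁆`, `c ∈ A`. -/
theorem commutator_le_of_index_two (A : Subgroup P) (hA : ∀ x ∈ A, ∀ y ∈ A, x * y = y * x)
    (hind : ∀ x y : P, x ∉ A → y ∉ A → x * y ∈ A) {s : P} (hs : s ∉ A) :
    ∀ z ∈ commutator P, ∃ c ∈ A, z = ⁅c, s⁆ := by
  have hnorm : ∀ x : P, ∀ c ∈ A, x * c * x⁻¹ ∈ A := by
    intro x c hc
    by_cases hx : x ∈ A
    · exact mul_mem (mul_mem hx hc) (inv_mem hx)
    · have h1 : x * c ∉ A := fun h => hx (by
        have := mul_mem h (inv_mem hc)
        rwa [mul_inv_cancel_right] at this)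
      exact hind _ _ h1 (fun h => hx (by simpa using inv_mem h))
  have hcs : ∀ c ∈ A, ⁅c, s⁆ ∈ A := by
    intro c hc
    rw [commutatorElement_def]
    have h1 := hnorm s c⁻¹ (inv_mem hc)
    have : c * s * c⁻¹ * s⁻¹ = c * (s * c⁻¹ * s⁻¹) := by group
    rw [this]
    exact mul_mem hc h1
  let K : Subgroup P :=
    { carrier := {z | ∃ c ∈ A, z = ⁅c, s⁆}
      mul_mem' := by
        rintro _ _ ⟨c, hc, rfl⟩ ⟨e, he, rfl⟩
        refine ⟨c * e, mul_mem hc he, ?_⟩
        have h1 := hA c hc _ (hnorm s e⁻¹ (inv_mem he))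
        have h2 := hA _ (hnorm s c⁻¹ (inv_mem hc)) e he
        rw [commutatorElement_def, commutatorElement_def, commutatorElement_def]
        calc c * s * c⁻¹ * s⁻¹ * (e * s * e⁻¹ * s⁻¹)
            = c * ((s * c⁻¹ * s⁻¹) * e) * (s * e⁻¹ * s⁻¹) := by group
          _ = c * (e * (s * c⁻¹ * s⁻¹)) * (s * e⁻¹ * s⁻¹) := by rw [h2]
          _ = c * e * (s * (c⁻¹ * e⁻¹) * s⁻¹) := by group
          _ = c * e * (s * (e⁻¹ * c⁻¹) * s⁻¹) := by
              rw [hA c⁻¹ (inv_mem hc) e⁻¹ (inv_mem he)]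
          _ = c * e * s * (c * e)⁻¹ * s⁻¹ := by group
      one_mem' := ⟨1, one_mem A, by rw [commutatorElement_one_left]⟩
      inv_mem' := by
        rintro _ ⟨c, hc, rfl⟩
        refine ⟨c⁻¹, inv_mem hc, ?_⟩
        have h2 := hA _ (hnorm s c (hc)) c⁻¹ (inv_mem hc)
        rw [commutatorElement_def, commutatorElement_def]
        calc (c * s * c⁻¹ * s⁻¹)⁻¹ = (s * c * s⁻¹) * c⁻¹ := by group
          _ = c⁻¹ * (s * c * s⁻¹) := h2
          _ = c⁻¹ * s * c⁻¹⁻¹ * s⁻¹ := by group }
  have hK : ∀ z, z ∈ K ↔ ∃ c ∈ A, z = ⁅c, s⁆ := fun z => Iff.rfl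
  have hKA : K ≤ A := by
    rintro z ⟨c, hc, rfl⟩
    exact hcs c hc
  -- every element is in A or of the form a * s
  have hform : ∀ x : P, x ∈ A ∨ ∃ a ∈ A, x = a * s := by
    intro x
    by_cases hx : x ∈ A
    · exact Or.inl hx
    · right
      exact ⟨x * s⁻¹, hind _ _ hx (fun h => hs (by simpa using inv_mem h)), by group⟩
  have hsK : ∀ z ∈ K, s * z * s⁻¹ ∈ K := by
    rintro z ⟨c, hc, rfl⟩
    refine ⟨s * c * s⁻¹, hnorm s c hc, ?_⟩
    rw [commutatorElement_def, commutatorElement_def]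
    group
  have hKn : K.Normal := by
    refine ⟨fun z hz x => ?_⟩
    rcases hform x with hx | ⟨a, ha, rfl⟩
    · rw [hA x hx z (hKA hz), mul_inv_cancel_right]
      exact hz
    · have h1 := hsK z hz
      have : a * s * z * (a * s)⁻¹ = a * (s * z * s⁻¹) * a⁻¹ := by group
      rw [this, hA a ha _ (hKA h1), mul_inv_cancel_right]
      exact h1
  have hle : commutator P ≤ K := by
    rw [commutator_def, Subgroup.commutator_le]
    intro x _ y _
    -- work in the quotient by K
    have hcomm : ∀ x y : P, (QuotientGroup.mk x : P ⧸ K) * QuotientGroup.mk y =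
        QuotientGroup.mk y * QuotientGroup.mk x := by
      have hAs : ∀ a ∈ A, (QuotientGroup.mk a : P ⧸ K) * QuotientGroup.mk s =
          QuotientGroup.mk s * QuotientGroup.mk a := by
        intro a ha
        show (QuotientGroup.mk (a * s) : P ⧸ K) = QuotientGroup.mk (s * a)
        rw [QuotientGroup.eq]
        refine ⟨s⁻¹ * a⁻¹ * s, ?_, ?_⟩
        · have := hnorm s⁻¹ a⁻¹ (inv_mem ha)
          simpa using this
        · rw [commutatorElement_def]
          group
      have hAA : ∀ a ∈ A, ∀ c ∈ A, (QuotientGroup.mk a : P ⧸ K) * QuotientGroup.mk c =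
          QuotientGroup.mk c * QuotientGroup.mk a := by
        intro a ha c hc
        show (QuotientGroup.mk (a * c) : P ⧸ K) = QuotientGroup.mk (c * a)
        rw [hA a ha c hc]
      intro x y
      rcases hform x with hx | ⟨a, ha, rfl⟩
      · rcases hform y with hy | ⟨c, hc, rfl⟩
        · exact hAA x hx y hy
        · show (QuotientGroup.mk x : P ⧸ K) * (QuotientGroup.mk c * QuotientGroup.mk s) =
            (QuotientGroup.mk c * QuotientGroup.mk s) * QuotientGroup.mk x
          rw [← mul_assoc, hAA x hx c hc, mul_assoc, hAs x hx, mul_assoc]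
      · rcases hform y with hy | ⟨c, hc, rfl⟩
        · show (QuotientGroup.mk a * QuotientGroup.mk s : P ⧸ K) * QuotientGroup.mk y =
            QuotientGroup.mk y * (QuotientGroup.mk a * QuotientGroup.mk s)
          rw [mul_assoc, ← hAs y hy, ← mul_assoc, hAA a ha y hy, mul_assoc]
        · show (QuotientGroup.mk a * QuotientGroup.mk s : P ⧸ K) *
            (QuotientGroup.mk c * QuotientGroup.mk s) =
            (QuotientGroup.mk c * QuotientGroup.mk s) * (QuotientGroup.mk a * QuotientGroup.mk s)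
          have h1 := hAs a ha
          have h2 := hAs c hc
          have h3 := hAA a ha c hc
          calc (QuotientGroup.mk a * QuotientGroup.mk s : P ⧸ K) *
              (QuotientGroup.mk c * QuotientGroup.mk s) =
              QuotientGroup.mk a * (QuotientGroup.mk s * QuotientGroup.mk c) *
                QuotientGroup.mk s := by group
            _ = (QuotientGroup.mk a * QuotientGroup.mk c) * QuotientGroup.mk s *
                QuotientGroup.mk s := by rw [← h2]; group
            _ = QuotientGroup.mk c * (QuotientGroup.mk a * QuotientGroup.mk s) *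
                QuotientGroup.mk s := by rw [h3]; group
            _ = QuotientGroup.mk c * (QuotientGroup.mk s * QuotientGroup.mk a) *
                QuotientGroup.mk s := by rw [h1]
            _ = _ := by group
    have h1 : (QuotientGroup.mk ⁅x, y⁆ : P ⧸ K) = 1 := by
      have : (QuotientGroup.mk ⁅x, y⁆ : P ⧸ K) = QuotientGroup.mk x * QuotientGroup.mk y *
        (QuotientGroup.mk x)⁻¹ * (QuotientGroup.mk y)⁻¹ := rfl
      rw [this, hcomm x y]
      group
    exact (QuotientGroup.eq_one_iff _).1 h1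
  intro z hz
  exact hle hz

/-- If moreover commutators in the subgroup `Z` are trivial, then `P' ∩ Z = 1`. -/
theorem commutator_inf_eq_bot (A : Subgroup P) (hA : ∀ x ∈ A, ∀ y ∈ A, x * y = y * x)
    (hind : ∀ x y : P, x ∉ A → y ∉ A → x * y ∈ A) (Z : Set P)
    (hZ : ∀ x y : P, ⁅x, y⁆ ∈ Z → ⁅x, y⁆ = 1) : ∀ z ∈ commutator P, z ∈ Z → z = 1 := by
  intro z hz hzZ
  by_cases htop : ∀ x : P, x ∈ A
  · have : commutator P = ⊥ := by
      rw [commutator_def, Subgroup.commutator_eq_bot_iff_le_centralizer]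
      intro x _
      rw [mem_centralizer_iff]
      intro y _
      exact hA y (htop y) x (htop x)
    rw [this, mem_bot] at hz
    exact hz
  · push Not at htop
    obtain ⟨s, hs⟩ := htop
    obtain ⟨c, hc, rfl⟩ := commutator_le_of_index_two A hA hind hs z hz
    exact hZ _ _ hzZ

end abs

/-! ### Transfer -/

theorem mem_commutator_sylow {G : Type*} [Group G] [Finite G] {p : ℕ} [hp : Fact p.Prime]
    (P : Sylow p G) {z : G} (hzP : z ∈ (P : Subgroup G)) (hzc : z ∈ center G)
    (hz : z ∈ commutator G) : (⟨z, hzP⟩ : (P : Subgroup G)) ∈ commutator (P : Subgroup G) := by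
  set ϕ : (P : Subgroup G) →* Abelianization (P : Subgroup G) := Abelianization.of with hϕ
  have hkey : ∀ (k : ℕ) (g₀ : G), g₀⁻¹ * z ^ k * g₀ ∈ (P : Subgroup G) →
      g₀⁻¹ * z ^ k * g₀ = z ^ k := by
    intro k g₀ _
    have h1 := mem_center_iff.1 (pow_mem hzc k) g₀
    rw [mul_assoc, ← h1, inv_mul_cancel_left]
  have h1 : MonoidHom.transfer ϕ z = 1 := by
    have h2 : commutator G ≤ (MonoidHom.transfer ϕ).ker := Abelianization.commutator_subset_ker _
    exact h2 hz
  rw [MonoidHom.transfer_eq_pow ϕ z hkey] at h1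
  have h2 : (⟨z, hzP⟩ : (P : Subgroup G)) ^ (P : Subgroup G).index ∈
      commutator (P : Subgroup G) := by
    rw [← Abelianization.ker_of]
    rw [MonoidHom.mem_ker]
    rw [← h1]
    rfl
  obtain ⟨k, hk⟩ := (IsPGroup.iff_orderOf.1 P.2) ⟨z, hzP⟩
  have h3 : (⟨z, hzP⟩ : (P : Subgroup G)) ^ (p ^ k) ∈ commutator (P : Subgroup G) := by
    rw [← hk, pow_orderOf_eq_one]
    exact one_mem _
  apply mem_of_pow_mem_of_coprime _ h2 h3
  exact (Nat.Coprime.pow_left k ((Nat.Prime.coprime_iff_not_dvd hp.out).2 P.not_dvd_index)).symm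

/-! ### The centraliser of an element of `PSL(2, F)` -/

section psl

variable {F : Type*} [Field F]

theorem commute_of_commute {w g k : Matrix.SpecialLinearGroup (Fin 2) F} (hw : pj w ≠ 1)
    (hg : g * w = w * g) (hk : k * w = w * k) : g * k = k * g := by
  have hdet := det_eq w
  -- w is not scalar
  have hns : w.1 0 1 ≠ 0 ∨ w.1 1 0 ≠ 0 ∨ w.1 0 0 - w.1 1 1 ≠ 0 := by
    by_contra hcon
    push Not at hcon
    obtain ⟨h1, h2, h3⟩ := hcon
    have h3' := sub_eq_zero.1 h3
    rw [h1, h2, ← h3'] at hdet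
    have h4 : (w.1 0 0 - 1) * (w.1 0 0 + 1) = 0 := by linear_combination hdet
    apply hw
    rw [← pj_one, eq_comm, pj_eq]
    rcases mul_eq_zero.1 h4 with h5 | h5
    · left
      have h6 := sub_eq_zero.1 h5
      apply ext4
      · rw [h6]; rfl
      · rw [h1]; rfl
      · rw [h2]; rfl
      · rw [← h3', h6]; rfl
    · right
      have h6 : w.1 0 0 = -1 := eq_neg_of_add_eq_zero_left h5
      apply ext4 <;> rw [neg_apply']
      · rw [h6]; rfl
      · rw [h1]; exact neg_zero.symm
      · rw [h2]; exact neg_zero.symm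
      · rw [← h3', h6]; rfl
  have hent : ∀ g : Matrix.SpecialLinearGroup (Fin 2) F, g * w = w * g →
      g.1 0 1 * w.1 1 0 = w.1 0 1 * g.1 1 0 ∧
      w.1 0 1 * (g.1 0 0 - g.1 1 1) = g.1 0 1 * (w.1 0 0 - w.1 1 1) ∧
      w.1 1 0 * (g.1 0 0 - g.1 1 1) = g.1 1 0 * (w.1 0 0 - w.1 1 1) := by
    intro g hg
    have e00 := congrArg (fun M : Matrix.SpecialLinearGroup (Fin 2) F => M.1 0 0) hg
    have e01 := congrArg (fun M : Matrix.SpecialLinearGroup (Fin 2) F => M.1 0 1) hg
    have e10 := congrArg (fun M : Matrix.SpecialLinearGroup (Fin 2) F => M.1 1 0) hg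
    simp only [mul00, mul01, mul10] at e00 e01 e10
    refine ⟨by linear_combination e00, by linear_combination e01, by linear_combination -e10⟩
  obtain ⟨g1, g2, g3⟩ := hent g hg
  obtain ⟨k1, k2, k3⟩ := hent k hk
  -- the three minors vanish
  have m1 : g.1 0 1 * k.1 1 0 = k.1 0 1 * g.1 1 0 := by
    rcases hns with h | h | h
    · apply mul_left_cancel₀ h
      linear_combination (-(g.1 0 1)) * k1 + k.1 0 1 * g1
    · apply mul_left_cancel₀ h
      linear_combination (k.1 1 0) * g1 - (g.1 1 0) * k1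
    · apply mul_left_cancel₀ h
      linear_combination (-(k.1 1 0)) * g2 - (g.1 0 0 - g.1 1 1) * k1 + k.1 0 1 * g3
  have m2 : g.1 0 1 * (k.1 0 0 - k.1 1 1) = k.1 0 1 * (g.1 0 0 - g.1 1 1) := by
    rcases hns with h | h | h
    · apply mul_left_cancel₀ h
      linear_combination (g.1 0 1) * k2 - (k.1 0 1) * g2
    · apply mul_left_cancel₀ h
      linear_combination (g.1 0 1) * k3 - (k.1 0 1) * g3 + (w.1 0 0 - w.1 1 1) * m1
    · apply mul_left_cancel₀ h
      linear_combination (-(k.1 0 0 - k.1 1 1)) * g2 + (g.1 0 0 - g.1 1 1) * k2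
  have m3 : g.1 1 0 * (k.1 0 0 - k.1 1 1) = k.1 1 0 * (g.1 0 0 - g.1 1 1) := by
    rcases hns with h | h | h
    · apply mul_left_cancel₀ h
      linear_combination (g.1 1 0) * k2 - (k.1 1 0) * g2 - (w.1 0 0 - w.1 1 1) * m1
    · apply mul_left_cancel₀ h
      linear_combination (g.1 1 0) * k3 - (k.1 1 0) * g3
    · apply mul_left_cancel₀ h
      linear_combination (-(k.1 0 0 - k.1 1 1)) * g3 + (g.1 0 0 - g.1 1 1) * k3
  apply ext4
  · rw [mul00, mul00]; linear_combination m1
  · rw [mul01, mul01]; linear_combination (-1) * m2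
  · rw [mul10, mul10]; linear_combination m3
  · rw [mul11, mul11]; linear_combination (-1) * m1

/-- The centraliser of a nontrivial element of `PSL(2, F)` has an abelian subgroup of index at most
two. -/
theorem exists_abelian_psl {x : PSL F} (hx : x ≠ 1) : ∃ A : Subgroup (PSL F),
    (∀ u ∈ A, ∀ v ∈ A, u * v = v * u) ∧
    ∀ u v : PSL F, u * x = x * u → v * x = x * v → u ∉ A → v ∉ A → u * v ∈ A := by
  obtain ⟨w, rfl⟩ := pj_surj x
  refine ⟨(Subgroup.centralizer ({w} : Set (Matrix.SpecialLinearGroup (Fin 2) F))).map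
    (QuotientGroup.mk' (center (Matrix.SpecialLinearGroup (Fin 2) F))), ?_, ?_⟩
  · rintro _ ⟨g, hg, rfl⟩ _ ⟨k, hk, rfl⟩
    show pj (g * k) = pj (k * g)
    rw [commute_of_commute hx (mem_C.1 hg) (mem_C.1 hk)]
  · intro u v hu hv huA hvA
    obtain ⟨g, rfl⟩ := pj_surj u
    obtain ⟨k, rfl⟩ := pj_surj v
    rw [← pj_mul, ← pj_mul] at hu hv
    have h1 : w * g = -(g * w) := by
      rcases pj_eq.1 hu with h | h
      · exact absurd ⟨g, mem_C.2 h.symm, rfl⟩ huA
      · exact h
    have h2 : w * k = -(k * w) := by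
      rcases pj_eq.1 hv with h | h
      · exact absurd ⟨k, mem_C.2 h.symm, rfl⟩ hvA
      · exact h
    refine ⟨g * k, mem_C.2 ?_, rfl⟩
    calc g * k * w = g * (k * w) := by rw [mul_assoc]
      _ = g * (-(w * k)) := by rw [h2, neg_neg]
      _ = -(g * w) * k := by rw [mul_neg, neg_mul, mul_assoc]
      _ = w * g * k := by rw [h1]
      _ = w * (g * k) := by rw [mul_assoc]

end psl

end Cfsg.Agent.H402
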