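import Cfsg.Agent.H402.CsCover

/-!
# Groups with the class sizes of `PSL(2, q)`: the types of the elements

The class sizes are written `1, d a b, q d a, q d b, q b` with `{a, b} = {(q - 1)/d, (q + 1)/d}`,
`b` odd, `d = gcd(2, q - 1)`.
-/

set_option autoImplicit false
set_option linter.unusedSectionVars false

namespace Cfsg.Agent.H402

open Subgroup

/-- The arithmetic conditions. -/
structure Ar (q d a b r : ℕ) : Prop where
  hr : r.Prime
  hq : ∃ f, 1 ≤ f ∧ q = r ^ f
  ha : 3 ≤ a
  hb : 3 ≤ b
  hab : a.Coprime b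
  hqa : q.Coprime a
  hqb : q.Coprime b
  hbo : Odd b
  hd : (d = 1 ∧ Even q ∧ Odd a) ∨ (d = 2 ∧ Odd q ∧ Even a)

/-- The possible sizes of noncentral classes. -/
def IsSz (q d a b n : ℕ) : Prop := n = d * a * b ∨ n = q * d * a ∨ n = q * d * b ∨ n = q * b

/-- The type of a class size: 0 for `d a b`, 1 for `q d a`, 2 for `q d b` and `q b`. -/
def ty (q d a b n : ℕ) : ℕ := if n = d * a * b then 0 else if n = q * d * a then 1 else 2

/-- The type belonging to a prime. -/
def tyP (q b p : ℕ) : ℕ := if p ∣ q then 0 else if p ∣ b then 1 else 2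

namespace Ar

variable {q d a b r : ℕ} (h : Ar q d a b r)

include h

theorem q_gt : 1 < q := by
  obtain ⟨f, hf, rfl⟩ := h.hq
  exact Nat.one_lt_pow (by omega) h.hr.one_lt

theorem d_pos : 0 < d := by rcases h.hd with ⟨rfl, -⟩ | ⟨rfl, -⟩ <;> norm_num

theorem d_le : d ≤ 2 := by rcases h.hd with ⟨rfl, -⟩ | ⟨rfl, -⟩ <;> norm_num

theorem dvd_q_iff {p : ℕ} (hp : p.Prime) : p ∣ q ↔ p = r := by
  obtain ⟨f, hf, hfq⟩ := h.hq
  rw [hfq]
  constructor
  · intro h1
    exact (Nat.prime_dvd_prime_iff_eq hp h.hr).1 (hp.dvd_of_dvd_pow h1)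
  · rintro rfl
    exact dvd_pow_self p (by omega)

theorem not_dvd_of_coprime {m n p : ℕ} (hmn : m.Coprime n) (hp : p.Prime) (hm : p ∣ m) : ¬ p ∣ n := by
  intro hn
  have := Nat.dvd_gcd hm hn
  rw [hmn] at this
  exact hp.one_lt.ne' (Nat.dvd_one.1 this)

theorem b_not_dvd_d : ¬ b ∣ d := fun h1 => by
  have := Nat.le_of_dvd h.d_pos h1
  have := h.d_le
  have := h.hb
  omega

theorem a_not_dvd_d : ¬ a ∣ d := fun h1 => by
  have := Nat.le_of_dvd h.d_pos h1
  have := h.d_le
  have := h.ha
  omega

theorem b_not_dvd_a : ¬ b ∣ a := fun h1 => by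
  have := Nat.Coprime.eq_one_of_dvd h.hab.symm h1
  have := h.hb
  omega

theorem a_not_dvd_b : ¬ a ∣ b := fun h1 => by
  have := Nat.Coprime.eq_one_of_dvd h.hab h1
  have := h.ha
  omega

theorem b_not_dvd_q : ¬ b ∣ q := fun h1 => by
  have := Nat.Coprime.eq_one_of_dvd h.hqb.symm h1
  have := h.hb
  omega

theorem a_not_dvd_q : ¬ a ∣ q := fun h1 => by
  have := Nat.Coprime.eq_one_of_dvd h.hqa.symm h1
  have := h.ha
  omega

theorem q_not_dvd_a : ¬ q ∣ a := fun h1 => by
  have := Nat.Coprime.eq_one_of_dvd h.hqa h1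
  have := h.q_gt
  omega

theorem q_not_dvd_b : ¬ q ∣ b := fun h1 => by
  have := Nat.Coprime.eq_one_of_dvd h.hqb h1
  have := h.q_gt
  omega

theorem q_not_dvd_d : ¬ q ∣ d := fun h1 => by
  have h2 := h.q_gt
  rcases h.hd with ⟨rfl, -⟩ | ⟨rfl, ho, -⟩
  · have := Nat.le_of_dvd one_pos h1
    omega
  · have := Nat.le_of_dvd two_pos h1
    have : q = 2 := by omega
    rw [this] at ho
    exact absurd ho (by decide)

theorem coprime_qd : q.Coprime d := by
  rcases h.hd with ⟨rfl, -⟩ | ⟨rfl, ho, -⟩
  · exact Nat.coprime_one_right q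
  · exact (Nat.coprime_two_right).2 ho

theorem coprime_bd : b.Coprime d := by
  rcases h.hd with ⟨rfl, -⟩ | ⟨rfl, ho, -⟩
  · exact Nat.coprime_one_right b
  · exact (Nat.coprime_two_right).2 h.hbo

theorem n1 : ¬ d * a * b ∣ q * d * a := fun h1 => h.b_not_dvd_q (by
  have h2 : (d * a) * b ∣ (d * a) * q := by
    have : (d * a) * q = q * d * a := by ring
    rwa [this]
  exact Nat.dvd_of_mul_dvd_mul_left (Nat.mul_pos h.d_pos (by have := h.ha; omega)) h2)

theorem n2 : ¬ d * a * b ∣ q * d * b := fun h1 => h.a_not_dvd_q (by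
  have h2 : (d * b) * a ∣ (d * b) * q := by
    have e1 : (d * b) * q = q * d * b := by ring
    have e2 : (d * b) * a = d * a * b := by ring
    rwa [e1, e2]
  exact Nat.dvd_of_mul_dvd_mul_left (Nat.mul_pos h.d_pos (by have := h.hb; omega)) h2)

theorem n3 : ¬ d * a * b ∣ q * b := fun h1 => h.n2 (h1.trans ⟨d, by ring⟩)

theorem n4 : ¬ q * d * a ∣ d * a * b := fun h1 => h.q_not_dvd_b (by
  have h2 : (d * a) * q ∣ (d * a) * b := by
    have : (d * a) * q = q * d * a := by ring
    rwa [this]
  exact Nat.dvd_of_mul_dvd_mul_left (Nat.mul_pos h.d_pos (by have := h.ha; omega)) h2)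

theorem n5 : ¬ q * d * a ∣ q * d * b := fun h1 => h.a_not_dvd_b
  (Nat.dvd_of_mul_dvd_mul_left (Nat.mul_pos (by have := h.q_gt; omega) h.d_pos) h1)

theorem n6 : ¬ q * d * a ∣ q * b := fun h1 => h.n5 (h1.trans ⟨d, by ring⟩)

theorem n7 : ¬ q * b ∣ d * a * b := fun h1 => by
  have h2 : q ∣ d * a := Nat.dvd_of_mul_dvd_mul_right (by have := h.hb; omega) h1
  exact h.q_not_dvd_d (h.hqa.dvd_of_dvd_mul_right h2)

theorem n8 : ¬ q * b ∣ q * d * a := fun h1 => by
  rw [mul_assoc] at h1
  have h2 : b ∣ d * a := Nat.dvd_of_mul_dvd_mul_left (by have := h.q_gt; omega) h1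
  exact h.b_not_dvd_d (h.hab.symm.dvd_of_dvd_mul_right h2)

theorem n9 : ¬ q * d * b ∣ d * a * b := fun h1 => h.n7 (Dvd.dvd.trans ⟨d, by ring⟩ h1)

theorem n10 : ¬ q * d * b ∣ q * d * a := fun h1 => h.n8 (Dvd.dvd.trans ⟨d, by ring⟩ h1)

theorem ty0 : ty q d a b (d * a * b) = 0 := by rw [ty, if_pos rfl]

theorem ty1 : ty q d a b (q * d * a) = 1 := by
  rw [ty, if_neg, if_pos rfl]
  intro h1
  exact h.n4 (h1 ▸ dvd_rfl)

theorem ty2 : ty q d a b (q * d * b) = 2 := by
  rw [ty, if_neg, if_neg]
  · intro h1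
    exact h.n10 (h1 ▸ dvd_rfl)
  · intro h1
    exact h.n9 (h1 ▸ dvd_rfl)

theorem ty2' : ty q d a b (q * b) = 2 := by
  rw [ty, if_neg, if_neg]
  · intro h1
    exact h.n8 (h1 ▸ dvd_rfl)
  · intro h1
    exact h.n7 (h1 ▸ dvd_rfl)

/-- (T1), (T2) divisibility among the sizes. -/
theorem dvd_cases {m n : ℕ} (hm : IsSz q d a b m) (hn : IsSz q d a b n) (hmn : m ∣ n) :
    ty q d a b m = ty q d a b n ∧ (n = m ∨ (n = 2 * m ∧ m = q * b ∧ n = q * d * b ∧ d = 2)) := by
  have hq1 := h.q_gt
  have hb := h.hb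
  have hd := h.d_pos
  rcases hm with rfl | rfl | rfl | rfl <;> rcases hn with rfl | rfl | rfl | rfl
  · exact ⟨rfl, Or.inl rfl⟩
  · exact absurd hmn h.n1
  · exact absurd hmn h.n2
  · exact absurd hmn h.n3
  · exact absurd hmn h.n4
  · exact ⟨rfl, Or.inl rfl⟩
  · exact absurd hmn h.n5
  · exact absurd hmn h.n6
  · exact absurd hmn h.n9
  · exact absurd hmn h.n10
  · exact ⟨rfl, Or.inl rfl⟩
  · refine ⟨by rw [h.ty2, h.ty2'], Or.inl ?_⟩
    exact Nat.dvd_antisymm ⟨d, by ring⟩ hmn
  · exact absurd hmn h.n7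
  · exact absurd hmn h.n8
  · refine ⟨by rw [h.ty2, h.ty2'], ?_⟩
    rcases h.hd with ⟨rfl, -⟩ | ⟨rfl, -⟩
    · left; ring
    · right; refine ⟨by ring, rfl, rfl, rfl⟩
  · exact ⟨rfl, Or.inl rfl⟩

/-- (T3) -/
theorem ty_eq_of_dvd {m p k : ℕ} (hm : IsSz q d a b m) (hp : p.Prime)
    (hdvd : q * d * a * b ∣ m * p ^ k) : ty q d a b m = tyP q b p := by
  have hq1 := h.q_gt
  have ha := h.ha
  have hb := h.hb
  have hd := h.d_pos
  have key : ∀ {c : ℕ}, 1 < c → c ∣ p ^ k → p ∣ c := by
    intro c hc hcp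
    obtain ⟨j, -, hj⟩ := (Nat.dvd_prime_pow hp).1 hcp
    rcases Nat.eq_zero_or_pos j with rfl | hj0
    · rw [pow_zero] at hj
      omega
    · rw [hj]
      exact dvd_pow_self p hj0.ne'
  rcases hm with rfl | rfl | rfl | rfl
  · rw [h.ty0]
    have h1 : (d * a * b) * q ∣ (d * a * b) * p ^ k := by
      have : (d * a * b) * q = q * d * a * b := by ring
      rwa [this]
    have h2 := key hq1 (Nat.dvd_of_mul_dvd_mul_left (by positivity) h1)
    rw [tyP, if_pos h2]
  · rw [h.ty1]
    have h1 : (q * d * a) * b ∣ (q * d * a) * p ^ k := hdvd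
    have h2 := key (by omega) (Nat.dvd_of_mul_dvd_mul_left (by positivity) h1)
    rw [tyP, if_neg (h.not_dvd_of_coprime h.hqb.symm hp h2), if_pos h2]
  · rw [h.ty2]
    have h1 : (q * d * b) * a ∣ (q * d * b) * p ^ k := by
      have : (q * d * b) * a = q * d * a * b := by ring
      rwa [this]
    have h2 := key (by omega) (Nat.dvd_of_mul_dvd_mul_left (by positivity) h1)
    rw [tyP, if_neg (h.not_dvd_of_coprime h.hqa.symm hp h2),
      if_neg (h.not_dvd_of_coprime h.hab hp h2)]
  · rw [h.ty2']
    have h1 : (q * b) * (d * a) ∣ (q * b) * p ^ k := by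
      have : (q * b) * (d * a) = q * d * a * b := by ring
      rwa [this]
    have h3 := Nat.dvd_of_mul_dvd_mul_left (by positivity) h1
    have h2 : p ∣ a := key (by omega) ((Dvd.intro_left d rfl).trans h3)
    rw [tyP, if_neg (h.not_dvd_of_coprime h.hqa.symm hp h2),
      if_neg (h.not_dvd_of_coprime h.hab hp h2)]

/-- (T4) -/
theorem exists_size {p : ℕ} (hp : p.Prime) (hpd : p ∣ q * a * b) :
    ∃ n, (n = d * a * b ∨ n = q * d * a ∨ n = q * b) ∧ ¬ p ∣ n ∧ ty q d a b n = tyP q b p := by
  rcases hp.dvd_mul.1 hpd with h1 | h1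
  · rcases hp.dvd_mul.1 h1 with h2 | h2
    · refine ⟨d * a * b, Or.inl rfl, ?_, ?_⟩
      · intro h3
        rcases hp.dvd_mul.1 h3 with h3 | h3
        · rcases hp.dvd_mul.1 h3 with h3 | h3
          · exact h.not_dvd_of_coprime h.coprime_qd hp h2 h3
          · exact h.not_dvd_of_coprime h.hqa hp h2 h3
        · exact h.not_dvd_of_coprime h.hqb hp h2 h3
      · rw [h.ty0, tyP, if_pos h2]
    · refine ⟨q * b, Or.inr (Or.inr rfl), ?_, ?_⟩
      · intro h3
        rcases hp.dvd_mul.1 h3 with h3 | h3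
        · exact h.not_dvd_of_coprime h.hqa.symm hp h2 h3
        · exact h.not_dvd_of_coprime h.hab hp h2 h3
      · rw [h.ty2', tyP, if_neg (h.not_dvd_of_coprime h.hqa.symm hp h2),
          if_neg (h.not_dvd_of_coprime h.hab hp h2)]
  · refine ⟨q * d * a, Or.inr (Or.inl rfl), ?_, ?_⟩
    · intro h3
      rcases hp.dvd_mul.1 h3 with h3 | h3
      · rcases hp.dvd_mul.1 h3 with h3 | h3
        · exact h.not_dvd_of_coprime h.hqb.symm hp h1 h3
        · exact h.not_dvd_of_coprime h.coprime_bd hp h1 h3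
      · exact h.not_dvd_of_coprime h.hab.symm hp h1 h3
    · rw [h.ty1, tyP, if_neg (h.not_dvd_of_coprime h.hqb.symm hp h1), if_pos h1]

/-- (T5) -/
theorem tyP_two (hd : d = 2) : tyP q b 2 = 2 := by
  rcases h.hd with ⟨rfl, -⟩ | ⟨-, ho, -⟩
  · omega
  · rw [tyP, if_neg, if_neg]
    · intro h1
      exact (Nat.not_even_iff_odd.2 h.hbo) (even_iff_two_dvd.2 h1)
    · intro h1
      exact (Nat.not_even_iff_odd.2 ho) (even_iff_two_dvd.2 h1)

end Ar

variable {G : Type*} [Group G] [Finite G] {q d a b r : ℕ}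

/-- A group whose noncentral class sizes are those of `PSL(2, q)`. -/
structure Hyp (G : Type*) [Group G] (q d a b r : ℕ) : Prop extends Ar q d a b r where
  sz : ∀ x : G, x ∉ center G → IsSz q d a b (ix x)
  exU : ∃ x : G, ix x = d * a * b
  exB : ∃ x : G, ix x = q * d * a
  exA : ∃ x : G, ix x = q * b

namespace Hyp

variable (h : Hyp G q d a b r)

include h

theorem exists_ix {n : ℕ} (hn : n = d * a * b ∨ n = q * d * a ∨ n = q * b) : ∃ x : G, ix x = n := by
  rcases hn with rfl | rfl | rfl
  · exact h.exU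
  · exact h.exB
  · exact h.exA

theorem not_center {x : G} {n : ℕ} (hn : n = d * a * b ∨ n = q * d * a ∨ n = q * b)
    (hx : ix x = n) : x ∉ center G := by
  rw [← ix_eq_one_iff, hx]
  have hq := h.q_gt
  have ha := h.ha
  have hb := h.hb
  have hd := h.d_pos
  rcases hn with rfl | rfl | rfl
  · have : 1 < d * a * b := by
      calc 1 < 1 * 3 * 3 := by norm_num
        _ ≤ d * a * b := by gcongr; omega
    omega
  · have : 1 < q * d * a := by
      calc 1 < 1 * 1 * 3 := by norm_num
        _ ≤ q * d * a := by gcongr; omega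
    omega
  · have : 1 < q * b := by
      calc 1 < 1 * 3 := by norm_num
        _ ≤ q * b := by gcongr
    omega

/-- Types along inclusions of centralisers. -/
theorem ty_eq {x y : G} (hx : x ∉ center G)
    (hle : Subgroup.centralizer ({y} : Set G) ≤ Subgroup.centralizer ({x} : Set G)) :
    ty q d a b (ix x) = ty q d a b (ix y) := by
  have hy : y ∉ center G := by
    intro hy
    rw [mem_center_iff_C] at hy hx
    rw [hy] at hle
    exact hx (top_le_iff.1 hle)
  exact (h.dvd_cases (h.sz x hx) (h.sz y hy) (ix_dvd_of_le hle)).1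

theorem ty_mul_left {x y : G} (hx : x ∉ center G) (hc : Commute x y)
    (ho : (orderOf x).Coprime (orderOf y)) : ty q d a b (ix x) = ty q d a b (ix (x * y)) :=
  h.ty_eq hx (C_mul_le_left hc ho)

/-- Commuting noncentral elements of coprime orders have the same type. -/
theorem ty_comm {x y : G} (hx : x ∉ center G) (hy : y ∉ center G) (hc : Commute x y)
    (ho : (orderOf x).Coprime (orderOf y)) : ty q d a b (ix x) = ty q d a b (ix y) := by
  rw [h.ty_mul_left hx hc ho, hc.eq]
  exact (h.ty_mul_left hy hc.symm ho.symm).symm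

theorem dvd_index : q * d * a * b ∣ (center G).index := by
  obtain ⟨x, hx⟩ := h.exU
  obtain ⟨y, hy⟩ := h.exB
  have h1 : d * a * b ∣ (center G).index := hx ▸ ix_dvd_index_center x
  have h2 : q * d * a ∣ (center G).index := hy ▸ ix_dvd_index_center y
  have h3 : q ∣ (center G).index := (Dvd.intro _ (by rw [mul_assoc])).trans h2
  have hc : q.Coprime (d * a * b) := (h.coprime_qd.mul_right h.hqa).mul_right h.hqb
  have := hc.mul_dvd_of_dvd_of_dvd h3 h1
  have e : q * (d * a * b) = q * d * a * b := by ring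
  rwa [e] at this

/-- **Claim(p)**: all noncentral `p`-elements have the type belonging to `p`. -/
theorem ty_pElement {p : ℕ} (hp : p.Prime) (hpd : p ∣ q * a * b) {z : G} (hz : z ∉ center G)
    (hzp : ∃ k, orderOf z = p ^ k) : ty q d a b (ix z) = tyP q b p := by
  have : Fact p.Prime := ⟨hp⟩
  obtain ⟨n, hn, hpn, htn⟩ := h.exists_size hp hpd
  obtain ⟨w, hw⟩ := h.exists_ix hn
  have hwc := h.not_center hn hw
  obtain ⟨g, P, hP, hgP⟩ := exists_conj_comm (p := p) (w := w) (z := z) (by rwa [hw]) hzp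
  -- replace z by its conjugate
  rw [← ix_conj g z]
  have hz' : g * z * g⁻¹ ∉ center G := by rwa [center_conj]
  have hzp' : ∃ k, orderOf (g * z * g⁻¹) = p ^ k := by
    obtain ⟨k, hk⟩ := hzp
    refine ⟨k, ?_⟩
    rw [← hk]
    exact orderOf_injective (MulAut.conj g).toMonoidHom (MulAut.conj g).injective z
  generalize g * z * g⁻¹ = z at hgP hz' hzp'
  rw [← htn, ← hw]
  obtain ⟨s, t, hs, ht, hst, hcst, ⟨k, hk⟩, htp, hcop⟩ := exists_decomp w hp
  have hzw : Commute z w := mem_C.1 (hP hgP)
  obtain ⟨j, hj⟩ := hzp'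
  have hzt : Commute z t := by
    obtain ⟨m, rfl⟩ := mem_zpowers_iff.1 ht
    exact hzw.zpow_right m
  have hzs : Commute z s := by
    obtain ⟨m, rfl⟩ := mem_zpowers_iff.1 hs
    exact hzw.zpow_right m
  by_cases htc : t ∈ center G
  swap
  · rw [← h.ty_eq htc (C_le_of_mem_zpowers ht)]
    apply h.ty_comm hz' htc hzt
    rw [hj]
    exact Nat.Coprime.pow_left j htp.symm
  -- now w may be replaced by its p-part s
  have hws : ix w = ix s := by rw [← hst, ix_mul_center htc]
  have hsc : s ∉ center G := by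
    intro hsc
    apply hwc
    rw [← hst]
    exact mul_mem hsc htc
  rw [hws]
  by_contra hne
  -- all p'-elements of C(z) are central
  have hcen : ∀ x ∈ Subgroup.centralizer ({z} : Set G), (orderOf x).Coprime p → x ∈ center G := by
    intro x hx hxp
    by_contra hxc
    have hxz : Commute x z := mem_C.1 hx
    have ho : (orderOf x).Coprime (orderOf z) := by
      rw [hj]
      exact Nat.Coprime.pow_right j hxp
    have hty1 := h.ty_comm hxc hz' hxz ho
    have hle := C_mul_le_right hxz ho
    have hxzc : x * z ∉ center G := by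
      intro hh
      rw [mem_center_iff_C] at hh hz'
      rw [hh] at hle
      exact hz' (top_le_iff.1 hle)
    have hdc := (h.dvd_cases (h.sz z hz') (h.sz _ hxzc) (ix_dvd_of_le hle)).2
    -- s ∈ C(x z)
    have hs1 : s ∈ Subgroup.centralizer ({x * z} : Set G) := by
      rcases hdc with hdc | ⟨hdc, hzz, -, hd2⟩
      · have : Subgroup.centralizer ({x * z} : Set G) = Subgroup.centralizer ({z} : Set G) := by
          refine Subgroup.eq_of_le_of_card_ge hle ?_
          have h1 := (Subgroup.centralizer ({x * z} : Set G)).card_mul_index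
          have h2 := (Subgroup.centralizer ({z} : Set G)).card_mul_index
          have h3 : (Subgroup.centralizer ({x * z} : Set G)).index =
            (Subgroup.centralizer ({z} : Set G)).index := hdc
          rw [h3, ← h2] at h1
          have h4 : (Subgroup.centralizer ({z} : Set G)).index ≠ 0 :=
            Subgroup.index_ne_zero_of_finite
          exact (Nat.eq_of_mul_eq_mul_right (Nat.pos_of_ne_zero h4) h1).ge
        rw [this, mem_C]
        exact hzs.symm.eq
      · -- p is odd
        have hp2 : p ≠ 2 := by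
          rintro rfl
          apply hne
          rw [hzz, h.ty2', ← hws, hw, htn, h.tyP_two hd2]
        have hrel : ((Subgroup.centralizer ({x * z} : Set G)).subgroupOf
            (Subgroup.centralizer ({z} : Set G))).index = 2 := by
          have h1 := Subgroup.relIndex_mul_index hle
          have h2 : (Subgroup.centralizer ({x * z} : Set G)).index =
            2 * (Subgroup.centralizer ({z} : Set G)).index := hdc
          rw [h2] at h1
          have h4 : (Subgroup.centralizer ({z} : Set G)).index ≠ 0 :=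
            Subgroup.index_ne_zero_of_finite
          exact Nat.eq_of_mul_eq_mul_right (Nat.pos_of_ne_zero h4) h1
        have hsz : s ∈ Subgroup.centralizer ({z} : Set G) := mem_C.2 hzs.symm.eq
        have hsq := Subgroup.mul_self_mem_of_index_two hrel ⟨s, hsz⟩
        rw [mem_subgroupOf] at hsq
        have hsq' : s * s ∈ Subgroup.centralizer ({x * z} : Set G) := hsq
        -- s is a power of s * s
        have hodd : Odd (orderOf s) := by
          rw [hk]
          exact (hp.odd_of_ne_two hp2).pow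
        obtain ⟨m, hm⟩ := hodd
        have h5 : s = (s * s) ^ (m + 1) := by
          have h6 : s ^ (2 * m + 1) = 1 := by rw [← hm]; exact pow_orderOf_eq_one s
          calc s = s ^ (2 * m + 1) * s := by rw [h6, one_mul]
            _ = (s * s) ^ (m + 1) := by rw [← pow_two, ← pow_mul, ← pow_succ]; congr 1
        rw [h5]
        exact pow_mem hsq' _
    have hs2 : Commute s x := mem_C.1 (C_mul_le_left hxz ho hs1)
    have hty2 : ty q d a b (ix s) = ty q d a b (ix x) := by
      apply h.ty_comm hsc hxc hs2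
      rw [hk]
      exact Nat.Coprime.pow_left k hxp.symm
    exact hne (hty1.symm.trans hty2.symm)
  -- hence |G : Z| = ix z * p ^ k
  have hidx : ∃ k, (center G).index = ix z * p ^ k := by
    have hne0 : (center G).index ≠ 0 := Subgroup.index_ne_zero_of_finite
    refine ⟨(center G).index.factorization p - (ix z).factorization p, ?_⟩
    apply Nat.eq_of_factorization_eq hne0
      (mul_ne_zero (ix_ne_zero z) (pow_ne_zero _ hp.ne_zero))
    intro l
    rw [Nat.factorization_mul (ix_ne_zero z) (pow_ne_zero _ hp.ne_zero), Finsupp.add_apply,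
      hp.factorization_pow]
    by_cases hl : l = p
    · subst hl
      have := (Nat.factorization_le_iff_dvd (ix_ne_zero z) hne0).2 (ix_dvd_index_center z) l
      simp only [Finsupp.single_eq_same]
      omega
    · rw [Finsupp.single_eq_of_ne (by omega), add_zero]
      by_cases hlp : l.Prime
      · have : Fact l.Prime := ⟨hlp⟩
        apply factorization_eq_of
        intro y hy ⟨i, hi⟩
        apply hcen y hy
        rw [hi]
        exact Nat.Coprime.pow_left i ((Nat.coprime_primes hlp hp).2 hl)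
      · rw [Nat.factorization_eq_zero_of_not_prime _ hlp,
          Nat.factorization_eq_zero_of_not_prime _ hlp]
  obtain ⟨i, hi⟩ := hidx
  have hfin := h.ty_eq_of_dvd (h.sz z hz') hp (hi ▸ h.dvd_index)
  apply hne
  rw [hfin, ← hws, hw, htn]

/-- If the noncentral `x` does not have the type of `p` then the `p`-elements of `C(x)` are
central. -/
theorem pElement_central {p : ℕ} (hp : p.Prime) (hpd : p ∣ q * a * b) {x : G} (hx : x ∉ center G)
    (ht : ty q d a b (ix x) ≠ tyP q b p) {y : G}
    (hy : y ∈ Subgroup.centralizer ({x} : Set G)) (hyp : ∃ k, orderOf y = p ^ k) :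
    y ∈ center G := by
  by_contra hyc
  obtain ⟨s, t, hs, htt, hst, hcst, hk, htp, hcop⟩ := exists_decomp x hp
  have hsc : s ∈ center G := by
    by_contra hsc
    apply ht
    rw [← h.ty_eq hsc (C_le_of_mem_zpowers hs)]
    exact h.ty_pElement hp hpd hsc hk
  have htc : t ∉ center G := by
    intro htc
    apply hx
    rw [← hst]
    exact mul_mem hsc htc
  have hyx : Commute y x := mem_C.1 hy
  have hyt : Commute y t := by
    obtain ⟨m, rfl⟩ := mem_zpowers_iff.1 htt
    exact hyx.zpow_right m
  apply ht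
  rw [← h.ty_eq htc (C_le_of_mem_zpowers htt), ← h.ty_pElement hp hpd hyc hyp]
  symm
  apply h.ty_comm hyc htc hyt
  obtain ⟨j, hj⟩ := hyp
  rw [hj]
  exact Nat.Coprime.pow_left j htp.symm

/-- **The order of `G / Z(G)`.** -/
theorem index_center : (center G).index = q * d * a * b := by
  have hq := h.q_gt
  have ha := h.ha
  have hb := h.hb
  have hd := h.d_pos
  have hne0 : (center G).index ≠ 0 := Subgroup.index_ne_zero_of_finite
  have hq0 : q ≠ 0 := by omega
  have ha0 : a ≠ 0 := by omega
  have hb0 : b ≠ 0 := by omega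
  have hd0 : d ≠ 0 := by omega
  apply Nat.eq_of_factorization_eq hne0 (by positivity)
  intro p
  by_cases hp : p.Prime
  swap
  · rw [Nat.factorization_eq_zero_of_not_prime _ hp,
      Nat.factorization_eq_zero_of_not_prime _ hp]
  have : Fact p.Prime := ⟨hp⟩
  by_cases hpd : p ∣ q * a * b
  · by_cases hpq : p ∣ q
    · obtain ⟨x, hx⟩ := h.exB
      have hxc : x ∉ center G := h.not_center (Or.inr (Or.inl rfl)) hx
      have h1 : (center G).index.factorization p = (ix x).factorization p :=
        factorization_eq_of (fun y hy hyp => h.pElement_central hp hpd hxc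
          (by rw [hx, h.ty1, tyP, if_pos hpq]; norm_num) hy hyp)
      rw [h1, hx, Nat.factorization_mul (b := b) (by positivity) hb0, Finsupp.add_apply,
        Nat.factorization_eq_zero_of_not_dvd (h.not_dvd_of_coprime h.hqb hp hpq), add_zero]
    · obtain ⟨x, hx⟩ := h.exU
      have hxc : x ∉ center G := h.not_center (Or.inl rfl) hx
      have h1 : (center G).index.factorization p = (ix x).factorization p :=
        factorization_eq_of (fun y hy hyp => h.pElement_central hp hpd hxc
          (by rw [hx, h.ty0, tyP, if_neg hpq]; split_ifs <;> norm_num) hy hyp)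
      have h2 : q * d * a * b = q * (d * a * b) := by ring
      rw [h1, hx, h2, Nat.factorization_mul hq0 (by positivity), Finsupp.add_apply,
        Nat.factorization_eq_zero_of_not_dvd hpq, zero_add]
  · -- p divides no class size
    have hpqab : ¬ p ∣ q * d * a * b := by
      intro h1
      apply hpd
      rcases hp.dvd_mul.1 h1 with h1 | h1
      · rcases hp.dvd_mul.1 h1 with h1 | h1
        · rcases hp.dvd_mul.1 h1 with h1 | h1
          · exact (h1.mul_right a).mul_right b
          · rcases h.hd with ⟨rfl, -⟩ | ⟨rfl, -, he⟩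
            · exact absurd (Nat.dvd_one.1 h1) hp.one_lt.ne'
            · have : p ∣ a := h1.trans (even_iff_two_dvd.1 he)
              exact (this.mul_left q).mul_right b
        · exact (h1.mul_left q).mul_right b
      · exact h1.mul_left (q * a)
    have h1 : ∀ x : G, ¬ p ∣ ix x := by
      intro x hdv
      by_cases hx : x ∈ center G
      · rw [ix_eq_one_iff.2 hx] at hdv
        exact hp.one_lt.ne' (Nat.dvd_one.1 hdv)
      · apply hpqab
        refine hdv.trans ?_
        rcases h.sz x hx with h2 | h2 | h2 | h2 <;> rw [h2]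
        · exact ⟨q, by ring⟩
        · exact ⟨b, by ring⟩
        · exact ⟨a, by ring⟩
        · exact ⟨d * a, by ring⟩
    rw [Nat.factorization_eq_zero_of_not_dvd (not_dvd_index_center h1),
      Nat.factorization_eq_zero_of_not_dvd hpqab]

end Hyp

end Cfsg.Agent.H402
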