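import Cfsg.Agent.H402.CsOdd

/-!
# Groups with the class sizes of `PSL(2, q)`, `q` odd: the action on the Sylow `r`-subgroups
-/

set_option autoImplicit false
set_option linter.unusedSectionVars false

namespace Cfsg.Agent.H402

open Subgroup

/-- The abstract situation: abelian Sylow `r`-subgroups of order `q` containing the centralisers of
their nontrivial elements, `|Q| = q (q ^ 2 - 1) / 2` and large classes. -/
structure ZHyp (Q : Type*) [Group Q] (q r : ℕ) : Prop where
  prime : r.Prime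
  odd : Odd q
  seven : 7 ≤ q
  card : 2 * Nat.card Q = q * (q ^ 2 - 1)
  big : ∀ x : Q, x ≠ 1 → q < ix x
  sylcard : ∀ P : Sylow r Q, Nat.card (P : Subgroup Q) = q
  cent : ∀ (P : Sylow r Q) (x : Q), x ≠ 1 → x ∈ (P : Subgroup Q) →
    Subgroup.centralizer ({x} : Set Q) = P

namespace ZHyp

variable {Q : Type*} [Group Q] [Finite Q] {q r : ℕ} (h : ZHyp Q q r)

include h

theorem eq_of_mem {P R : Sylow r Q} {x : Q} (hx : x ≠ 1) (hP : x ∈ (P : Subgroup Q))
    (hR : x ∈ (R : Subgroup Q)) : P = R := by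
  apply Sylow.ext
  rw [← h.cent P x hx hP, ← h.cent R x hx hR]

theorem mem_of_smul_eq {P R : Sylow r Q} {x : Q} (hP : x ∈ (P : Subgroup Q)) (hR : x • R = R) :
    x ∈ (R : Subgroup Q) := by
  have : Fact r.Prime := ⟨h.prime⟩
  have h1 : x ∈ Subgroup.normalizer ((R : Subgroup Q) : Set Q) := Sylow.smul_eq_iff_mem_normalizer.1 hR
  have h2 : IsPGroup r (zpowers x) := by
    obtain ⟨k, hk⟩ := orderOf_of_mem_sylow P hP
    exact IsPGroup.of_card (n := k) (by rw [Nat.card_zpowers, hk])
  have h3 := h2.inf_normalizer_sylow R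
  have h4 : x ∈ zpowers x ⊓ (R : Subgroup Q) := h3 ▸ (⟨mem_zpowers x, h1⟩ :
    x ∈ zpowers x ⊓ Subgroup.normalizer ((R : Subgroup Q) : Set Q))
  exact h4.2

/-- Nontrivial elements of a Sylow subgroup fix no other point. -/
theorem eq_of_smul_eq {P R : Sylow r Q} {x : Q} (hx : x ≠ 1) (hP : x ∈ (P : Subgroup Q))
    (hR : x • R = R) : R = P :=
  (h.eq_of_mem hx hP (h.mem_of_smul_eq hP hR)).symm

theorem smul_self {P : Sylow r Q} {x : Q} (hP : x ∈ (P : Subgroup Q)) : x • P = P :=
  Sylow.smul_eq_iff_mem_normalizer.2 (Subgroup.le_normalizer hP)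

theorem comm (P : Sylow r Q) : ∀ x ∈ (P : Subgroup Q), ∀ y ∈ (P : Subgroup Q), x * y = y * x := by
  intro x hx y hy
  by_cases hy1 : y = 1
  · rw [hy1, one_mul, mul_one]
  · rw [← h.cent P y hy1 hy] at hx
    exact mem_C.1 hx

/-- The action of `P` on the other Sylow subgroups. -/
theorem dvd_sub_one (P : Sylow r Q) : q ∣ Nat.card {R : Sylow r Q // R ≠ P} := by
  classical
  let _ : MulAction (P : Subgroup Q) {R : Sylow r Q // R ≠ P} :=
    { smul := fun x R => ⟨(x : Q) • R.1, fun h0 => R.2 (by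
        have h1 : (x : Q) • R.1 = (x : Q) • P := by rw [h0, h.smul_self x.2]
        exact smul_left_cancel (x : Q) h1)⟩
      one_smul := fun R => Subtype.ext (one_smul Q R.1)
      mul_smul := fun x y R => Subtype.ext (mul_smul (x : Q) (y : Q) R.1) }
  have hfree : ∀ R : {R : Sylow r Q // R ≠ P}, MulAction.stabilizer (P : Subgroup Q) R = ⊥ := by
    intro R
    rw [eq_bot_iff]
    intro x hx
    rw [Subgroup.mem_bot]
    by_contra hx1
    have h1 : (x : Q) • R.1 = R.1 := congrArg Subtype.val (MulAction.mem_stabilizer_iff.1 hx)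
    exact R.2 (h.eq_of_smul_eq (fun h0 => hx1 (Subtype.ext h0)) x.2 h1)
  have e := MulAction.selfEquivOrbitsQuotientProd hfree
  rw [Nat.card_congr e, Nat.card_prod, h.sylcard P]
  exact dvd_mul_left _ _

theorem card_sylow_eq (P : Sylow r Q) :
    Nat.card (Sylow r Q) = Nat.card {R : Sylow r Q // R ≠ P} + 1 := by
  classical
  have h1 : Nat.card {R : Sylow r Q // R ≠ P} = Set.ncard {R : Sylow r Q | R ≠ P} := rfl
  have h2 : Nat.card (Sylow r Q) = Set.ncard (Set.univ : Set (Sylow r Q)) :=
    (Set.ncard_univ _).symm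
  rw [h1, h2]
  have h3 : (Set.univ : Set (Sylow r Q)) = insert P {R : Sylow r Q | R ≠ P} := by
    ext R
    simp only [Set.mem_univ, Set.mem_insert_iff, true_iff]
    by_cases hR : R = P
    · exact Or.inl hR
    · exact Or.inr hR
  have h4 : P ∉ {R : Sylow r Q | R ≠ P} := fun h0 => (show P ≠ P from h0) rfl
  rw [h3, Set.ncard_insert_of_notMem h4 (Set.toFinite _)]

/-- The normaliser of `P` acts semiregularly on the nontrivial elements of `P`. -/
theorem dvd_q_sub_one (P : Sylow r Q) :
    (P : Subgroup Q).relIndex (Subgroup.normalizer ((P : Subgroup Q) : Set Q)) ∣ q - 1 := by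
  classical
  set N := Subgroup.normalizer ((P : Subgroup Q) : Set Q) with hN
  have hPN : (P : Subgroup Q) ≤ N := Subgroup.le_normalizer
  have h1 := dvd_card_of_classes (G := N) (fun x => x ≠ 1 ∧ (x : Q) ∈ (P : Subgroup Q))
    ((P : Subgroup Q).relIndex N) (by
      rintro x g ⟨hx1, hx⟩
      refine ⟨fun h0 => hx1 (conj_eq_one_iff.1 h0), ?_⟩
      exact (Subgroup.mem_normalizer_iff.1 g.2 (x : Q)).1 hx) (by
      rintro x ⟨hx1, hx⟩
      rw [ix, Subgroup.relIndex]
      congr 1
      ext y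
      rw [mem_C, mem_subgroupOf, ← h.cent P (x : Q) (fun h0 => hx1 (Subtype.ext h0)) hx, mem_C]
      constructor
      · intro h2
        exact congrArg Subtype.val h2
      · intro h2
        exact Subtype.ext h2)
  have h2 : Nat.card {x : N // x ≠ 1 ∧ (x : Q) ∈ (P : Subgroup Q)} + 1 = q := by
    rw [← h.sylcard P]
    have h3 : Nat.card {x : N // x ≠ 1 ∧ (x : Q) ∈ (P : Subgroup Q)} =
        Nat.card {x : (P : Subgroup Q) // x ≠ 1} := by
      apply Nat.card_congr
      refine ⟨fun x => ⟨⟨x.1.1, x.2.2⟩, fun h0 => x.2.1 (Subtype.ext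
          (show ((x.1 : N) : Q) = 1 from congrArg Subtype.val h0))⟩,
        fun x => ⟨⟨x.1.1, hPN x.1.2⟩, fun h0 => x.2 (Subtype.ext
          (show ((x.1 : (P : Subgroup Q)) : Q) = 1 from congrArg Subtype.val h0)), x.1.2⟩,
        fun x => rfl, fun x => rfl⟩
    rw [h3]
    have h4 : Nat.card {x : (P : Subgroup Q) // x ≠ 1} =
      Set.ncard {x : (P : Subgroup Q) | x ≠ 1} := rfl
    have h5 : Nat.card (P : Subgroup Q) = Set.ncard (Set.univ : Set (P : Subgroup Q)) :=
      (Set.ncard_univ _).symm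
    rw [h4, h5]
    have h6 : (Set.univ : Set (P : Subgroup Q)) = insert 1 {x : (P : Subgroup Q) | x ≠ 1} := by
      ext R
      simp only [Set.mem_univ, Set.mem_insert_iff, true_iff]
      by_cases hR : R = 1
      · exact Or.inl hR
      · exact Or.inr hR
    have h7 : (1 : (P : Subgroup Q)) ∉ {x : (P : Subgroup Q) | x ≠ 1} :=
      fun h0 => (show (1 : (P : Subgroup Q)) ≠ 1 from h0) rfl
    rw [h6, Set.ncard_insert_of_notMem h7 (Set.toFinite _)]
  have h3 : Nat.card {x : N // x ≠ 1 ∧ (x : Q) ∈ (P : Subgroup Q)} = q - 1 := by omega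
  rw [h3] at h1
  exact h1

/-- The numbers: `|N(P) : P| = (q - 1) / 2` and `q + 1` Sylow subgroups. -/
theorem numbers (P : Sylow r Q) :
    2 * (P : Subgroup Q).relIndex (Subgroup.normalizer ((P : Subgroup Q) : Set Q)) + 1 = q ∧
      Nat.card (Sylow r Q) = q + 1 := by
  have : Fact r.Prime := ⟨h.prime⟩
  set m := (P : Subgroup Q).relIndex (Subgroup.normalizer ((P : Subgroup Q) : Set Q)) with hm
  set n := Nat.card (Sylow r Q) with hn
  have hq7 := h.seven
  have hmd := h.dvd_q_sub_one P
  rw [← hm] at hmd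
  have hmle : m ≤ q - 1 := Nat.le_of_dvd (by omega) hmd
  obtain ⟨k, hk⟩ := h.dvd_sub_one P
  have hnk : n = q * k + 1 := by rw [hn, h.card_sylow_eq P, hk]
  have hnm : n * m * q = Nat.card Q := by
    have h1 : n = (Subgroup.normalizer ((P : Subgroup Q) : Set Q)).index := Sylow.card_eq_index_normalizer P
    have h2 := Subgroup.relIndex_mul_index (Subgroup.le_normalizer (H := (P : Subgroup Q)))
    have h3 := (P : Subgroup Q).card_mul_index
    rw [h.sylcard P, ← h2, ← hm, ← h1] at h3
    rw [← h3]; ring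
  have hq2 : 1 ≤ q ^ 2 := Nat.one_le_pow _ _ (by omega)
  have h4 : 2 * (n * m) = q ^ 2 - 1 := by
    have h5 : q * (2 * (n * m)) = q * (q ^ 2 - 1) := by
      rw [← h.card, ← hnm]; ring
    exact Nat.eq_of_mul_eq_mul_left (by omega) h5
  have h5 : 2 * (n * m) + 1 = q ^ 2 := by omega
  -- q ∣ 2 m + 1
  have h6 : q ∣ 2 * m + 1 := by
    have h7 : 2 * (n * m) + 1 = q * (2 * k * m) + (2 * m + 1) := by rw [hnk]; ring
    have h8 : q ∣ q * (2 * k * m) + (2 * m + 1) := by
      rw [← h7, h5, pow_two]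
      exact dvd_mul_right q q
    exact (Nat.dvd_add_right (dvd_mul_right q _)).1 h8
  obtain ⟨c, hc⟩ := h6
  have hc1 : c = 1 := by
    have h9 : c < 2 := by
      by_contra h10
      have : q * 2 ≤ q * c := Nat.mul_le_mul_left q (by omega)
      omega
    have h10 : c ≠ 0 := by
      rintro rfl
      rw [mul_zero] at hc
      omega
    omega
  rw [hc1, mul_one] at hc
  refine ⟨hc, ?_⟩
  have h11 : (n : ℤ) * (2 * m) = (q + 1) * (2 * m) := by
    have h12 : (2 : ℤ) * (n * m) + 1 = q ^ 2 := by exact_mod_cast h5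
    have h13 : (2 : ℤ) * m + 1 = q := by exact_mod_cast hc
    have h14 : (2 : ℤ) * m = q - 1 := by linarith
    rw [h14]
    have h15 : (n : ℤ) * (2 * m) + 1 = q ^ 2 := by linarith
    rw [h14] at h15
    nlinarith
  have h12 : n * (2 * m) = (q + 1) * (2 * m) := by exact_mod_cast h11
  exact Nat.eq_of_mul_eq_mul_right (by omega) h12

/-- `P` is transitive on the other Sylow subgroups. -/
theorem exists_unique (P : Sylow r Q) {R S : Sylow r Q} (hR : R ≠ P) (hS : S ≠ P) :
    ∃ x ∈ (P : Subgroup Q), x • R = S ∧ ∀ y ∈ (P : Subgroup Q), y • R = S → y = x := by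
  classical
  have huniq : ∀ x ∈ (P : Subgroup Q), ∀ y ∈ (P : Subgroup Q), x • R = y • R → x = y := by
    intro x hx y hy hxy
    by_contra hne
    apply hR
    apply h.eq_of_smul_eq (P := P) (x := y⁻¹ * x) _ (mul_mem (inv_mem hy) hx)
    · rw [mul_smul, hxy, inv_smul_smul]
    · intro h0
      exact hne (inv_mul_eq_one.1 h0).symm
  have hne : ∀ x : (P : Subgroup Q), (x : Q) • R ≠ P := by
    intro x h0
    apply hR
    have h1 : (x : Q) • R = (x : Q) • P := by rw [h0, h.smul_self x.2]
    exact smul_left_cancel (x : Q) h1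
  let f : ↥(P : Subgroup Q) → {R : Sylow r Q // R ≠ P} := fun x => ⟨(x : Q) • R, hne x⟩
  have hinj : Function.Injective f := by
    intro x y hxy
    exact Subtype.ext (huniq x x.2 y y.2 (congrArg Subtype.val hxy))
  have hcard : Nat.card (P : Subgroup Q) = Nat.card {R : Sylow r Q // R ≠ P} := by
    have h1 := h.card_sylow_eq P
    rw [(h.numbers P).2] at h1
    rw [h.sylcard P]
    omega
  have hsurj := ((Nat.bijective_iff_injective_and_card f).2 ⟨hinj, hcard⟩).2
  obtain ⟨x, hx⟩ := hsurj ⟨S, hS⟩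
  have hx' : (x : Q) • R = S := congrArg Subtype.val hx
  refine ⟨x, x.2, hx', fun y hy hyS => huniq y hy x x.2 (hyS.trans hx'.symm)⟩

theorem two_trans {P₁ P₂ R₁ R₂ : Sylow r Q} (hP : P₁ ≠ P₂) (hR : R₁ ≠ R₂) :
    ∃ g : Q, g • P₁ = R₁ ∧ g • P₂ = R₂ := by
  have : Fact r.Prime := ⟨h.prime⟩
  obtain ⟨g, hg⟩ := MulAction.exists_smul_eq Q P₁ R₁
  have h1 : g • P₂ ≠ R₁ := by
    intro h0
    rw [← hg] at h0
    exact hP (smul_left_cancel g h0).symm
  obtain ⟨x, hx, hx2, -⟩ := h.exists_unique R₁ h1 hR.symm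
  refine ⟨x * g, ?_, ?_⟩
  · rw [mul_smul, hg, h.smul_self hx]
  · rw [mul_smul, hx2]

theorem three_point {g : Q} {A B C : Sylow r Q} (hAB : A ≠ B) (hBC : B ≠ C) (hAC : A ≠ C)
    (hA : g • A = A) (hB : g • B = B) (hC : g • C = C) : g = 1 := by
  by_contra hg
  -- x ∈ A with x • B = C
  obtain ⟨x, hx, hx2, hxu⟩ := h.exists_unique A hAB.symm hAC.symm
  have hgN : g ∈ Subgroup.normalizer ((A : Subgroup Q) : Set Q) :=
    Sylow.smul_eq_iff_mem_normalizer.1 hA
  have h1 : g * x * g⁻¹ ∈ (A : Subgroup Q) := (Subgroup.mem_normalizer_iff.1 hgN x).1 hx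
  have h2 : (g * x * g⁻¹) • B = C := by
    have hB' : g⁻¹ • B = B := by rw [inv_smul_eq_iff, hB]
    rw [mul_smul, mul_smul, hB', hx2, hC]
  have h3 := hxu _ h1 h2
  have hx1 : x ≠ 1 := by
    rintro rfl
    rw [one_smul] at hx2
    exact hBC hx2
  have h4 : g ∈ Subgroup.centralizer ({x} : Set Q) := by
    rw [mem_C]
    exact mul_inv_eq_iff_eq_mul.1 h3
  rw [h.cent A x hx1 hx] at h4
  exact hAB.symm (h.eq_of_smul_eq hg h4 hB)

theorem isZassenhaus : Cfsg.IsZassenhausGroup Q (Sylow r Q) := by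
  classical
  have : Fact r.Prime := ⟨h.prime⟩
  have hq7 := h.seven
  obtain ⟨P⟩ : Nonempty (Sylow r Q) := inferInstance
  have hn := (h.numbers P).2
  have hfin : Finite (Sylow r Q) := inferInstance
  have hthree : ∃ A B C : Sylow r Q, A ≠ B ∧ A ≠ C ∧ B ≠ C := by
    have h1 : 2 < Nat.card (Sylow r Q) := by omega
    have := Fintype.ofFinite (Sylow r Q)
    rw [Nat.card_eq_fintype_card] at h1
    exact Fintype.two_lt_card_iff.1 h1
  obtain ⟨A, B, C, hAB, hAC, hBC⟩ := hthree
  refine ⟨⟨?_⟩, ?_, ?_, ?_, ?_⟩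
  · intro g g' hgg
    have h1 : g'⁻¹ * g = 1 := by
      apply h.three_point hAB hBC hAC <;> rw [mul_smul, hgg, inv_smul_smul]
    exact (inv_mul_eq_one.1 h1).symm
  · rw [MulAction.is_two_pretransitive_iff]
    intro a b c d hab hcd
    exact h.two_trans hab hcd
  · intro g a b c hab hbc hac ha hb hc
    exact h.three_point hab hbc hac ha hb hc
  · -- a nontrivial element fixing two points
    by_contra hcon
    push Not at hcon
    -- N(A) acts freely on the others
    have h1 : Nat.card (Subgroup.normalizer ((A : Subgroup Q) : Set Q)) ≤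
        Nat.card {R : Sylow r Q // R ≠ A} := by
      let f : Subgroup.normalizer ((A : Subgroup Q) : Set Q) → {R : Sylow r Q // R ≠ A} :=
        fun x => ⟨(x : Q) • B, fun h0 => hAB (by
          have h1 : (x : Q) • A = A := Sylow.smul_eq_iff_mem_normalizer.2 x.2
          exact smul_left_cancel (x : Q) (h1.trans h0.symm))⟩
      apply Nat.card_le_card_of_injective f
      intro x y hxy
      have h2 : (x : Q) • B = (y : Q) • B := congrArg Subtype.val hxy
      by_contra hne
      have h3 : ((y : Q)⁻¹ * x) ≠ 1 := by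
        intro h0
        exact hne (Subtype.ext (inv_mul_eq_one.1 h0).symm)
      apply hcon _ h3 A B hAB
      · have h4 : (x : Q) • A = A := Sylow.smul_eq_iff_mem_normalizer.2 x.2
        have h5 : (y : Q) • A = A := Sylow.smul_eq_iff_mem_normalizer.2 y.2
        rw [mul_smul, h4, inv_smul_eq_iff, h5]
      · rw [mul_smul, h2, inv_smul_smul]
    have h2 := h.card_sylow_eq A
    rw [hn] at h2
    have h3 := (h.numbers A).1
    have h4 : Nat.card (Subgroup.normalizer ((A : Subgroup Q) : Set Q)) =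
        q * (A : Subgroup Q).relIndex (Subgroup.normalizer ((A : Subgroup Q) : Set Q)) := by
      have h5 := Subgroup.relIndex_mul_index (bot_le (a := (A : Subgroup Q)))
      have h6 := ((A : Subgroup Q).subgroupOf
        (Subgroup.normalizer ((A : Subgroup Q) : Set Q))).card_mul_index
      have h7 : Nat.card ((A : Subgroup Q).subgroupOf
        (Subgroup.normalizer ((A : Subgroup Q) : Set Q))) = q := by
        rw [← h.sylcard A]
        exact Nat.card_congr (Subgroup.subgroupOfEquivOfLe Subgroup.le_normalizer).toEquiv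
      rw [h7] at h6
      exact h6.symm
    rw [h4] at h1
    have h5 : (A : Subgroup Q).relIndex (Subgroup.normalizer ((A : Subgroup Q) : Set Q)) ≥ 3 := by
      omega
    have h6 : Nat.card {R : Sylow r Q // R ≠ A} = q := by omega
    rw [h6] at h1
    nlinarith
  · -- no regular normal subgroup
    intro N hNn hNt
    by_contra hcon
    push Not at hcon
    have h1 : Nat.card N = q + 1 := by
      have h2 := MulAction.index_stabilizer_of_transitive N A
      have h3 := (MulAction.stabilizer N A).card_mul_index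
      rw [hcon A, Subgroup.card_bot, one_mul] at h3
      rw [hcon A] at h2
      rw [← h3, h2, hn]
    have hNbot : N ≠ ⊥ := by
      intro h0
      rw [h0, Subgroup.card_bot] at h1
      omega
    obtain ⟨⟨x, hxN⟩, hx⟩ := Subgroup.ne_bot_iff_exists_ne_one.1 hNbot
    have hx1 : x ≠ 1 := fun h0 => hx (Subtype.ext h0)
    have h2 := h.big x hx1
    have h3 : Nat.card {y : Q | IsConj x y} = ix x := Cfsg.Agent.Blocks.Central.card_isConj x
    have h4 : Nat.card {y : Q | IsConj x y} + 1 ≤ Nat.card N := by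
      have h5 : Nat.card {y : Q | IsConj x y} = Set.ncard {y : Q | IsConj x y} := rfl
      have h6 : Nat.card N = Set.ncard (N : Set Q) := rfl
      rw [h5, h6]
      have h7 : insert 1 {y : Q | IsConj x y} ⊆ (N : Set Q) := by
        rintro y (rfl | hy)
        · exact one_mem N
        · obtain ⟨g, hg⟩ := isConj_iff.1 (show IsConj x y from hy)
          rw [← hg]
          exact hNn.conj_mem x hxN g
      have h8 : (1 : Q) ∉ {y : Q | IsConj x y} := by
        intro h0
        exact hx1 (isConj_one_right.1 (show IsConj x 1 from h0).symm)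
      rw [← Set.ncard_insert_of_notMem h8 (Set.toFinite _)]
      exact Set.ncard_le_ncard h7 (Set.toFinite _)
    omega

end ZHyp

end Cfsg.Agent.H402
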